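import Mathlib
import Cfsg.Agent.FastGrp
import Cfsg.Agent.Prune
set_option linter.all false
prune_inst 0x7f00000000000000000000000000000000000000000000000000000000000000000000000000000000000000000000000000000000000000000000000000000000000000000000000000000000000000003fffffffffffffffffffffffffffbeffbdffffffff
open scoped Cfsg.Agent.FastGrp

/-!
# Groups of order dividing 20160 and divisible by 105 whose prime graph has no edges
-/

set_option autoImplicit false

namespace Cfsg.Agent.H180.MEl

open Subgroup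

theorem card_dvd_of_free {G α : Type*} [Group G] [MulAction G α] (h : ∀ a : α, MulAction.stabilizer G a = ⊥) :
    Nat.card G ∣ Nat.card α := by
  rw [Nat.card_congr (MulAction.selfEquivOrbitsQuotientProd h), Nat.card_prod]
  exact dvd_mul_left _ _

/-- the number of elements of prime order with Sylow subgroups of prime order -/
theorem card_order_prime {X : Type*} [Group X] [Finite X] {p : ℕ} [hp : Fact p.Prime]
    (h : (Nat.card X).factorization p = 1) :
    Nat.card {x : X // orderOf x = p} = Nat.card (Sylow p X) * (p - 1) := by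
  have hcard : ∀ P : Sylow p X, Nat.card P = p := by
    intro P
    rw [P.card_eq_multiplicity, h, pow_one]
  have hz : ∀ (P : Sylow p X) (x : X), x ∈ (P : Subgroup X) → x ≠ 1 → orderOf x = p := by
    intro P x hx hx1
    have h0 : orderOf (⟨x, hx⟩ : (P : Subgroup X)) ∣ Nat.card (P : Subgroup X) := orderOf_dvd_natCard _
    rw [Subgroup.orderOf_mk] at h0
    have h1 : orderOf x ∣ p := h0.trans (dvd_of_eq (hcard P))
    rcases (Nat.dvd_prime hp.out).1 h1 with h2 | h2
    · exact absurd (orderOf_eq_one_iff.1 h2) hx1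
    · exact h2
  have hzp : ∀ (P : Sylow p X) (x : X), x ∈ (P : Subgroup X) → x ≠ 1 → (P : Subgroup X) = zpowers x := by
    intro P x hx hx1
    refine (Subgroup.eq_of_le_of_card_ge (zpowers_le.2 hx) ?_).symm
    rw [Nat.card_zpowers, hz P x hx hx1]
    exact (hcard P).le
  let f : (Σ P : Sylow p X, {x : P // x ≠ 1}) → {x : X // orderOf x = p} :=
    fun q => ⟨(q.2.1 : X), hz q.1 _ q.2.1.2 (fun h => q.2.2 (Subtype.ext h))⟩
  have hf : Function.Bijective f := by
    constructor
    · rintro ⟨P, ⟨x, hx⟩, hx1⟩ ⟨Q, ⟨y, hy⟩, hy1⟩ he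
      have he' : x = y := congrArg Subtype.val he
      subst he'
      have hx1' : x ≠ 1 := fun h => hx1 (Subtype.ext h)
      have hPQ : P = Q := Sylow.ext ((hzp P x hx hx1').trans (hzp Q x hy hx1').symm)
      subst hPQ
      rfl
    · rintro ⟨x, hx⟩
      have hx1 : x ≠ 1 := by
        rintro rfl
        rw [orderOf_one] at hx
        exact hp.out.one_lt.ne hx
      let P : Sylow p X := Sylow.ofCard (zpowers x) (by rw [Nat.card_zpowers, hx, h, pow_one])
      exact ⟨⟨P, ⟨⟨x, mem_zpowers x⟩, fun h => hx1 (congrArg Subtype.val h)⟩⟩, rfl⟩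
  rw [← Nat.card_congr (Equiv.ofBijective f hf)]
  have : Fintype (Sylow p X) := Fintype.ofFinite _
  rw [Nat.card_sigma]
  have h2 : ∀ P : Sylow p X, Nat.card {x : P // x ≠ 1} = p - 1 := by
    intro P
    classical
    have : Fintype P := Fintype.ofFinite _
    have h3 := Fintype.card_subtype_compl (fun x : P => x = 1)
    rw [Fintype.card_subtype_eq, ← Nat.card_eq_fintype_card, ← Nat.card_eq_fintype_card] at h3
    exact h3.trans (congrArg (fun t => t - 1) (hcard P))
  rw [Finset.sum_congr rfl fun P _ => h2 P, Finset.sum_const, Finset.card_univ, smul_eq_mul, Nat.card_eq_fintype_card]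

section Iso

variable {X : Type*} [Group X] [Finite X]
variable (h : ∀ x y : X, Commute x y → (orderOf x).Prime → (orderOf y).Prime → orderOf x = orderOf y)

/-- an element of prime order in the powers -/
theorem exists_pow_prime {x : X} {p : ℕ} (hp : p.Prime) (hd : p ∣ orderOf x) : ∃ n : ℕ, orderOf (x ^ n) = p := by
  obtain ⟨k, hk⟩ := hd
  have hpos : 0 < orderOf x := orderOf_pos x
  have hk0 : k ≠ 0 := by
    rintro rfl
    rw [mul_zero] at hk
    omega
  refine ⟨k, ?_⟩
  rw [orderOf_pow_of_dvd hk0 ⟨p, by rw [hk, mul_comm]⟩, hk]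
  exact Nat.mul_div_cancel _ (Nat.pos_of_ne_zero hk0)

include h

/-- commuting nontrivial elements have orders with the same prime divisors -/
theorem prime_eq {x y : X} (hxy : Commute x y) {p q : ℕ} (hp : p.Prime) (hq : q.Prime) (hx : p ∣ orderOf x)
    (hy : q ∣ orderOf y) : p = q := by
  obtain ⟨n, hn⟩ := exists_pow_prime hp hx
  obtain ⟨m, hm⟩ := exists_pow_prime hq hy
  have := h (x ^ n) (y ^ m) (hxy.pow_pow n m) (by rw [hn]; exact hp) (by rw [hm]; exact hq)
  rwa [hn, hm] at this

/-- the elements whose order is a power of `p` (`p` the smallest prime divisor) -/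
theorem dvd_card_of_not_dvd {p M : ℕ} (hp : p.Prime) (hM : M ∣ Nat.card X) (hpM : ¬ p ∣ M) :
    M ∣ Nat.card {x : X // (orderOf x).minFac = p} := by
  rw [Nat.dvd_iff_prime_pow_dvd_dvd]
  intro q k hq hqk
  rcases Nat.eq_zero_or_pos k with rfl | hk
  · rw [pow_zero]; exact one_dvd _
  have hqp : q ≠ p := by
    rintro rfl
    exact hpM ((dvd_pow_self q hk.ne').trans hqk)
  have : Fact q.Prime := ⟨hq⟩
  obtain ⟨Q⟩ : Nonempty (Sylow q X) := inferInstance
  have h1 : q ^ k ∣ Nat.card Q := Q.pow_dvd_card_of_pow_dvd_card (hqk.trans hM)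
  refine h1.trans ?_
  let S := {x : X // (orderOf x).minFac = p}
  let act : MulAction Q S :=
    { smul := fun g x => ⟨(g : X) * x.1 * (g : X)⁻¹, by
        have e : orderOf ((g : X) * x.1 * (g : X)⁻¹) = orderOf x.1 := by
          exact orderOf_injective (MulAut.conj (g : X)).toMonoidHom (MulAut.conj (g : X)).injective x.1
        rw [e]
        exact x.2⟩
      one_smul := fun x => Subtype.ext (by
        show ((1 : Q) : X) * x.1 * ((1 : Q) : X)⁻¹ = x.1
        simp)
      mul_smul := fun g k x => Subtype.ext (by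
        show ((g * k : Q) : X) * x.1 * ((g * k : Q) : X)⁻¹ = (g : X) * ((k : X) * x.1 * (k : X)⁻¹) * (g : X)⁻¹
        rw [Subgroup.coe_mul]
        group) }
  refine card_dvd_of_free (G := Q) (α := S) fun x => ?_
  rw [eq_bot_iff]
  intro g hg
  rw [MulAction.mem_stabilizer_iff] at hg
  have hg' : (g : X) * x.1 * (g : X)⁻¹ = x.1 := congrArg Subtype.val hg
  rw [Subgroup.mem_bot]
  by_contra hg1
  have hgX : (g : X) ≠ 1 := fun hh => hg1 (Subtype.ext hh)
  have hcomm : Commute (g : X) x.1 := mul_inv_eq_iff_eq_mul.1 hg'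
  have hqg : q ∣ orderOf (g : X) := by
    obtain ⟨j, hj⟩ := (Q.isPGroup' g)
    have h2 : orderOf g ∣ q ^ j := orderOf_dvd_of_pow_eq_one hj
    rw [← Subgroup.orderOf_coe] at h2
    obtain ⟨i, -, hi⟩ := (Nat.dvd_prime_pow hq).1 h2
    rw [hi]
    refine dvd_pow_self q ?_
    rintro rfl
    rw [pow_zero, orderOf_eq_one_iff] at hi
    exact hgX hi
  have hpx : p ∣ orderOf x.1 := by
    have := Nat.minFac_dvd (orderOf x.1)
    rwa [x.2] at this
  exact hqp (prime_eq h hcomm hq hp hqg hpx)

theorem minFac_eq_iff {p : ℕ} (hp : p.Prime) (h1 : (Nat.card X).factorization p = 1) (x : X) :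
    (orderOf x).minFac = p ↔ orderOf x = p := by
  constructor
  · intro hx
    have hpx : p ∣ orderOf x := by
      have := Nat.minFac_dvd (orderOf x)
      rwa [hx] at this
    have hpos : orderOf x ≠ 0 := (orderOf_pos x).ne'
    have h2 : orderOf x = p ^ (orderOf x).primeFactorsList.length := by
      refine Nat.eq_prime_pow_of_unique_prime_dvd hpos ?_
      intro q hq hqd
      exact prime_eq h (Commute.refl x) hq hp hqd hpx
    set k := (orderOf x).primeFactorsList.length with hk
    have h3 : p ^ k ∣ Nat.card X := by rw [← h2]; exact orderOf_dvd_natCard x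
    have h4 : k ≤ 1 := by
      rw [← h1]
      exact (hp.pow_dvd_iff_le_factorization Nat.card_pos.ne').1 h3
    have h5 : k ≠ 0 := by
      intro h0
      rw [h0, pow_zero] at h2
      rw [h2] at hpx
      exact hp.one_lt.ne' (Nat.dvd_one.1 hpx)
    rw [h2, show k = 1 by omega, pow_one]
  · intro hx
    rw [hx]
    exact hp.minFac_eq

theorem card_sum (h1 : Nat.card X ∣ 20160) : Nat.card X = 1 + Nat.card {x : X // (orderOf x).minFac = 2} +
    Nat.card {x : X // (orderOf x).minFac = 3} + Nat.card {x : X // (orderOf x).minFac = 5} +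
    Nat.card {x : X // (orderOf x).minFac = 7} := by
  classical
  have : Fintype X := Fintype.ofFinite X
  have key := Finset.card_eq_sum_card_fiberwise (f := fun x : X => (orderOf x).minFac) (s := Finset.univ)
    (t := {1, 2, 3, 5, 7}) (by
      intro x _
      rw [Finset.mem_coe]
      show (orderOf x).minFac ∈ ({1, 2, 3, 5, 7} : Finset ℕ)
      have hd : orderOf x ∣ 20160 := (orderOf_dvd_natCard x).trans h1
      by_cases h2 : orderOf x = 1
      · rw [h2, Nat.minFac_one]; decide
      · have h3 := Nat.minFac_prime h2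
        have h4 : (orderOf x).minFac ∣ 20160 := (Nat.minFac_dvd _).trans hd
        have h5 : (orderOf x).minFac ∈ Nat.primeFactors 20160 := Nat.mem_primeFactors.2 ⟨h3, h4, by norm_num⟩
        have h6 : Nat.primeFactors 20160 = {2, 3, 5, 7} := by
          rw [show 20160 = 2 ^ 6 * 3 ^ 2 * 5 * 7 by norm_num, Nat.primeFactors_mul (by norm_num) (by norm_num),
            Nat.primeFactors_mul (by norm_num) (by norm_num), Nat.primeFactors_mul (by norm_num) (by norm_num),
            Nat.primeFactors_prime_pow (by norm_num) Nat.prime_two, Nat.primeFactors_prime_pow (by norm_num) Nat.prime_three,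
            Nat.Prime.primeFactors Nat.prime_five, Nat.Prime.primeFactors (by norm_num)]
          rfl
        rw [h6] at h5
        exact Finset.mem_insert_of_mem h5)
  have e : ∀ p : ℕ, Nat.card {x : X // (orderOf x).minFac = p} = (Finset.univ.filter fun x : X => (orderOf x).minFac = p).card := by
    intro p
    rw [Nat.card_eq_fintype_card, Fintype.card_subtype]
  have e1 : (Finset.univ.filter fun x : X => (orderOf x).minFac = 1).card = 1 := by
    rw [Finset.card_eq_one]
    refine ⟨1, ?_⟩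
    ext x
    simp only [Finset.mem_filter, Finset.mem_univ, true_and, Finset.mem_singleton]
    rw [Nat.minFac_eq_one_iff, orderOf_eq_one_iff]
  rw [Finset.sum_insert (by decide), Finset.sum_insert (by decide), Finset.sum_insert (by decide),
    Finset.sum_insert (by decide), Finset.sum_singleton, e1, ← e, ← e, ← e, ← e, Finset.card_univ,
    ← Nat.card_eq_fintype_card] at key
  rw [key]
  ring

end Iso

theorem num_aux {n s k M c : ℕ} (hc : c ≠ 0) (h1 : n * s = M) (h2 : n * c = M * k) (hM : M ≠ 0) : s * k = c := by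
  have hn : n ≠ 0 := by
    rintro rfl
    rw [zero_mul] at h1
    exact hM h1.symm
  rw [← h1, mul_assoc] at h2
  exact (Nat.eq_of_mul_eq_mul_left (Nat.pos_of_ne_zero hn) h2).symm

theorem num_six {s k : ℕ} (h : s * k = 6) : k = 1 ∨ k = 2 ∨ k = 3 ∨ k = 6 := by
  have h1 : k ∈ Nat.divisors 6 := Nat.mem_divisors.2 ⟨⟨s, by rw [mul_comm, h]⟩, by norm_num⟩
  have h2 : Nat.divisors 6 = {1, 2, 3, 6} := by decide
  rw [h2] at h1
  simpa using h1

theorem num_four {s k : ℕ} (h : s * k = 4) : k = 1 ∨ k = 2 ∨ k = 4 := by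
  have h1 : k ∈ Nat.divisors 4 := Nat.mem_divisors.2 ⟨⟨s, by rw [mul_comm, h]⟩, by norm_num⟩
  have h2 : Nat.divisors 4 = {1, 2, 4} := by decide
  rw [h2] at h1
  simpa using h1

theorem num {m k7 k5 f2 f3 : ℕ} (hm : m ∣ 192) (h7 : k7 = 1 ∨ k7 = 2 ∨ k7 = 3 ∨ k7 = 6) (h5 : k5 = 1 ∨ k5 = 2 ∨ k5 = 4)
    (H2 : ∀ M, M ∣ 105 * m → ¬ 2 ∣ M → M ∣ f2) (H3 : ∀ M, M ∣ 105 * m → ¬ 3 ∣ M → M ∣ f3)
    (hsum : 105 * m = 1 + f2 + f3 + 21 * m * k5 + 15 * m * k7) : m = 192 := by
  have hm' : m ∈ Nat.divisors 192 := Nat.mem_divisors.2 ⟨hm, by norm_num⟩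
  have hd : Nat.divisors 192 = {1, 2, 3, 4, 6, 8, 12, 16, 24, 32, 48, 64, 96, 192} := by decide +kernel
  rw [hd] at hm'
  simp only [Finset.mem_insert, Finset.mem_singleton] at hm'
  rcases hm' with rfl | rfl | rfl | rfl | rfl | rfl | rfl | rfl | rfl | rfl | rfl | rfl | rfl | rfl
  · obtain ⟨a, rfl⟩ := H2 105 (by norm_num) (by norm_num)
    obtain ⟨b, rfl⟩ := H3 35 (by norm_num) (by norm_num)
    rcases h7 with rfl | rfl | rfl | rfl <;> rcases h5 with rfl | rfl | rfl <;> omega
  · obtain ⟨a, rfl⟩ := H2 105 (by norm_num) (by norm_num)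
    obtain ⟨b, rfl⟩ := H3 70 (by norm_num) (by norm_num)
    rcases h7 with rfl | rfl | rfl | rfl <;> rcases h5 with rfl | rfl | rfl <;> omega
  · obtain ⟨a, rfl⟩ := H2 315 (by norm_num) (by norm_num)
    obtain ⟨b, rfl⟩ := H3 35 (by norm_num) (by norm_num)
    rcases h7 with rfl | rfl | rfl | rfl <;> rcases h5 with rfl | rfl | rfl <;> omega
  · obtain ⟨a, rfl⟩ := H2 105 (by norm_num) (by norm_num)
    obtain ⟨b, rfl⟩ := H3 140 (by norm_num) (by norm_num)
    rcases h7 with rfl | rfl | rfl | rfl <;> rcases h5 with rfl | rfl | rfl <;> omega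
  · obtain ⟨a, rfl⟩ := H2 315 (by norm_num) (by norm_num)
    obtain ⟨b, rfl⟩ := H3 70 (by norm_num) (by norm_num)
    rcases h7 with rfl | rfl | rfl | rfl <;> rcases h5 with rfl | rfl | rfl <;> omega
  · obtain ⟨a, rfl⟩ := H2 105 (by norm_num) (by norm_num)
    obtain ⟨b, rfl⟩ := H3 280 (by norm_num) (by norm_num)
    rcases h7 with rfl | rfl | rfl | rfl <;> rcases h5 with rfl | rfl | rfl <;> omega
  · obtain ⟨a, rfl⟩ := H2 315 (by norm_num) (by norm_num)
    obtain ⟨b, rfl⟩ := H3 140 (by norm_num) (by norm_num)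
    rcases h7 with rfl | rfl | rfl | rfl <;> rcases h5 with rfl | rfl | rfl <;> omega
  · obtain ⟨a, rfl⟩ := H2 105 (by norm_num) (by norm_num)
    obtain ⟨b, rfl⟩ := H3 560 (by norm_num) (by norm_num)
    rcases h7 with rfl | rfl | rfl | rfl <;> rcases h5 with rfl | rfl | rfl <;> omega
  · obtain ⟨a, rfl⟩ := H2 315 (by norm_num) (by norm_num)
    obtain ⟨b, rfl⟩ := H3 280 (by norm_num) (by norm_num)
    rcases h7 with rfl | rfl | rfl | rfl <;> rcases h5 with rfl | rfl | rfl <;> omega
  · obtain ⟨a, rfl⟩ := H2 105 (by norm_num) (by norm_num)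
    obtain ⟨b, rfl⟩ := H3 1120 (by norm_num) (by norm_num)
    rcases h7 with rfl | rfl | rfl | rfl <;> rcases h5 with rfl | rfl | rfl <;> omega
  · obtain ⟨a, rfl⟩ := H2 315 (by norm_num) (by norm_num)
    obtain ⟨b, rfl⟩ := H3 560 (by norm_num) (by norm_num)
    rcases h7 with rfl | rfl | rfl | rfl <;> rcases h5 with rfl | rfl | rfl <;> omega
  · obtain ⟨a, rfl⟩ := H2 105 (by norm_num) (by norm_num)
    obtain ⟨b, rfl⟩ := H3 2240 (by norm_num) (by norm_num)
    rcases h7 with rfl | rfl | rfl | rfl <;> rcases h5 with rfl | rfl | rfl <;> omega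
  · obtain ⟨a, rfl⟩ := H2 315 (by norm_num) (by norm_num)
    obtain ⟨b, rfl⟩ := H3 1120 (by norm_num) (by norm_num)
    rcases h7 with rfl | rfl | rfl | rfl <;> rcases h5 with rfl | rfl | rfl <;> omega
  · rfl

theorem factorization_eq_one {N p k : ℕ} (hp : p.Prime) (h : N = p * k) (hk : ¬ p ∣ k) (hN : N ≠ 0) :
    N.factorization p = 1 := by
  have hk0 : k ≠ 0 := by
    rintro rfl
    exact hN (by rw [h, mul_zero])
  rw [h, Nat.factorization_mul hp.ne_zero hk0, Finsupp.add_apply, hp.factorization_self,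
    Nat.factorization_eq_zero_of_not_dvd hk]

/-- the class count for a prime dividing the order once -/
theorem exists_k {X : Type*} [Group X] [Finite X]
    (h : ∀ x y : X, Commute x y → (orderOf x).Prime → (orderOf y).Prime → orderOf x = orderOf y)
    {p M : ℕ} [hp : Fact p.Prime] (hX : Nat.card X = p * M) (hpM : ¬ p ∣ M) :
    ∃ s k, s * k = p - 1 ∧ Nat.card {x : X // (orderOf x).minFac = p} = M * k := by
  have hf : (Nat.card X).factorization p = 1 := factorization_eq_one hp.out hX hpM Nat.card_pos.ne'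
  have e : Nat.card {x : X // (orderOf x).minFac = p} = Nat.card (Sylow p X) * (p - 1) := by
    rw [← card_order_prime hf]
    exact Nat.card_congr (Equiv.subtypeEquivRight (minFac_eq_iff h hp.out hf))
  have hM : M ∣ Nat.card {x : X // (orderOf x).minFac = p} :=
    dvd_card_of_not_dvd h hp.out (by rw [hX]; exact dvd_mul_left _ _) hpM
  obtain ⟨k, hk⟩ := hM
  obtain ⟨P⟩ : Nonempty (Sylow p X) := inferInstance
  have hidx : (P : Subgroup X).index = M := by
    have h1 := (P : Subgroup X).card_mul_index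
    have h2 : Nat.card (P : Subgroup X) = p := by
      have h3 := P.card_eq_multiplicity
      rw [hf, pow_one] at h3
      exact h3
    rw [h2, hX] at h1
    exact Nat.eq_of_mul_eq_mul_left hp.out.pos h1
  have h3 : Nat.card (Sylow p X) ∣ M := by
    rw [← hidx]
    exact P.card_dvd_index
  obtain ⟨s, hs⟩ := h3
  have hM0 : M ≠ 0 := by
    rintro rfl
    rw [mul_zero] at hX
    exact Nat.card_pos.ne' hX
  have hp1 : p - 1 ≠ 0 := by have := hp.out.two_le; omega
  exact ⟨s, k, num_aux hp1 hs.symm (by rw [← e, hk]) hM0, hk⟩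

/-- **main theorem** -/
theorem card_eq_of_isolated {X : Type*} [Group X] [Finite X]
    (h : ∀ x y : X, Commute x y → (orderOf x).Prime → (orderOf y).Prime → orderOf x = orderOf y)
    (h1 : Nat.card X ∣ 20160) (h2 : 105 ∣ Nat.card X) : Nat.card X = 20160 := by
  obtain ⟨m, hm⟩ := h2
  have hm192 : m ∣ 192 := by
    rw [hm, show 20160 = 105 * 192 by norm_num] at h1
    exact Nat.dvd_of_mul_dvd_mul_left (by norm_num) h1
  have n7 : ¬ 7 ∣ m := fun h7 => absurd (h7.trans hm192) (by norm_num)
  have n5 : ¬ 5 ∣ m := fun h5 => absurd (h5.trans hm192) (by norm_num)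
  have : Fact (Nat.Prime 7) := ⟨by norm_num⟩
  have : Fact (Nat.Prime 5) := ⟨by norm_num⟩
  obtain ⟨s7, k7, e7, c7⟩ := exists_k h (p := 7) (M := 15 * m) (by rw [hm]; ring) (by
    intro h7
    rcases (Nat.Prime.dvd_mul (by norm_num)).1 h7 with h8 | h8
    · norm_num at h8
    · exact n7 h8)
  obtain ⟨s5, k5, e5, c5⟩ := exists_k h (p := 5) (M := 21 * m) (by rw [hm]; ring) (by
    intro h7
    rcases (Nat.Prime.dvd_mul (by norm_num)).1 h7 with h8 | h8
    · norm_num at h8
    · exact n5 h8)
  have hsum := card_sum h h1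
  rw [c7, c5, hm] at hsum
  have key := num hm192 (num_six e7) (num_four e5)
    (fun M hM hM2 => dvd_card_of_not_dvd h Nat.prime_two (by rw [hm]; exact hM) hM2)
    (fun M hM hM2 => dvd_card_of_not_dvd h Nat.prime_three (by rw [hm]; exact hM) hM2) hsum
  rw [hm, key]

end Cfsg.Agent.H180.MEl
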