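import Cfsg.Agent.Cit.Eleven
import Cfsg.Agent.SporadicA.M11Facts2
import Cfsg.Agent.H771.KTools_m3
import Cfsg.Agent.Prune
set_option linter.all false

section
prune_inst 0x7f00000000000000000000000000000000000000000000000000000000000000000000000000000000000000000000000000000000000000000000000000000000000000000000000000000000000000003fffffffffffffffffffffffffffbeffbdffffffff

-- part: H180/KM11
section
set_option linter.all false
open scoped Cfsg.Agent.FastGrp

/-!
# `M₁₁` has exactly 10 conjugacy classes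

Ten pairwise non conjugate elements whose classes have sizes of sum at least `|M₁₁|`: the centralizers of
the elements of order 2, 3, 5, 11 are known, the centralizer of an involution is `GL(2,3)` (elements of
order 4 and 8), and the elements of order 6 are products.
-/

set_option autoImplicit false

namespace Cfsg.Agent.H180.KM11

open Subgroup Cfsg.Agent.H92.KTools

section Count

variable {G : Type*} [Group G] [Finite G]

omit [Finite G] in
theorem card_class_mul (x : G) :
    Nat.card {y : G // IsConj x y} * Nat.card (centralizer ({x} : Set G)) = Nat.card G := by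
  classical
  have h1 : Nat.card {y : G // IsConj x y} = Nat.card (MulAction.orbit (ConjAct G) x) := by
    refine Nat.card_congr (Equiv.subtypeEquivRight fun y => ?_)
    rw [ConjAct.mem_orbit_conjAct, isConj_comm]
  rw [h1, Subgroup.nat_card_centralizer_nat_card_stabilizer,
    Nat.card_congr (MulAction.orbitEquivQuotientStabilizer (ConjAct G) x), mul_comm]
  exact (Subgroup.card_eq_card_quotient_mul_card_subgroup (MulAction.stabilizer (ConjAct G) x)).symm.trans rfl |>.symm ▸ (by
    rw [mul_comm])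

/-- **exact class number from the class equation** -/
theorem card_classes_eq {n : ℕ} (x : Fin n → G) (s : Fin n → ℕ)
    (hx : ∀ i j, IsConj (x i) (x j) → i = j)
    (hs : ∀ i, s i * Nat.card (centralizer ({x i} : Set G)) ≤ Nat.card G)
    (hsum : Nat.card G ≤ ∑ i, s i) : Nat.card (ConjClasses G) = n := by
  classical
  let f : (Σ i, {y : G // IsConj (x i) y}) → G := fun p => p.2.1
  have hf : Function.Injective f := by
    rintro ⟨i, y, hy⟩ ⟨j, z, hz⟩ h
    have h' : y = z := h
    subst h'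
    have hij : i = j := hx i j (hy.trans hz.symm)
    subst hij
    rfl
  have hcard : ∀ i, s i ≤ Nat.card {y : G // IsConj (x i) y} := by
    intro i
    have h1 := card_class_mul (x i)
    have h2 := hs i
    rw [← h1] at h2
    exact Nat.le_of_mul_le_mul_right h2 Nat.card_pos
  have h1 : Nat.card G ≤ Nat.card (Σ i, {y : G // IsConj (x i) y}) := by
    rw [Nat.card_sigma]
    exact hsum.trans (Finset.sum_le_sum fun i _ => hcard i)
  have hsurj : Function.Surjective f := by
    have h2 : Nat.card (Σ i, {y : G // IsConj (x i) y}) = Nat.card G :=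
      le_antisymm (Nat.card_le_card_of_injective f hf) h1
    exact ((Nat.bijective_iff_injective_and_card f).2 ⟨hf, h2⟩).2
  have hbij : Function.Bijective (fun i => ConjClasses.mk (x i)) := by
    constructor
    · intro i j hij
      exact hx i j (ConjClasses.mk_eq_mk_iff_isConj.1 hij)
    · intro c
      obtain ⟨g, rfl⟩ := ConjClasses.exists_rep c
      obtain ⟨⟨i, y, hy⟩, h⟩ := hsurj g
      have h' : y = g := h
      subst h'
      exact ⟨i, ConjClasses.mk_eq_mk_iff_isConj.2 hy⟩
  rw [← Nat.card_congr (Equiv.ofBijective _ hbij), Nat.card_fin]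

end Count

/-! ### computations in `GL(2,3)` -/

open Cfsg.Agent.Cit.Eleven

/-- product of `2 × 2` matrices in coordinates -/
def mm (x y : ZMod 3 × ZMod 3 × ZMod 3 × ZMod 3) : ZMod 3 × ZMod 3 × ZMod 3 × ZMod 3 :=
  (x.1 * y.1 + x.2.1 * y.2.2.1, x.1 * y.2.1 + x.2.1 * y.2.2.2,
    x.2.2.1 * y.1 + x.2.2.2 * y.2.2.1, x.2.2.1 * y.2.1 + x.2.2.2 * y.2.2.2)

/-- coordinates -/
def co (g : X) : ZMod 3 × ZMod 3 × ZMod 3 × ZMod 3 := (g.1 0 0, g.1 0 1, g.1 1 0, g.1 1 1)

theorem co_mul (g h : X) : co (g * h) = mm (co g) (co h) := by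
  unfold co mm
  simp only [Units.val_mul, Matrix.mul_apply, Fin.sum_univ_two]

theorem co_injective : Function.Injective co := by
  intro g h hgh
  unfold co at hgh
  simp only [Prod.mk.injEq] at hgh
  apply Units.ext
  ext i j
  fin_cases i <;> fin_cases j
  · exact hgh.1
  · exact hgh.2.1
  · exact hgh.2.2.1
  · exact hgh.2.2.2

/-- determinant -/
def dt (x : ZMod 3 × ZMod 3 × ZMod 3 × ZMod 3) : ZMod 3 := x.1 * x.2.2.2 - x.2.1 * x.2.2.1

theorem dt_co (g : X) : dt (co g) ≠ 0 := by
  have h : g.1.det = dt (co g) := det_eq g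
  rw [← h]
  exact (Matrix.GeneralLinearGroup.det g).ne_zero

theorem co_neg_one : co (-1) = (-1, 0, 0, -1) := by decide

theorem cent_four : ∀ g : ZMod 3 × ZMod 3 × ZMod 3 × ZMod 3, mm g g = (-1, 0, 0, -1) →
    (Finset.univ.filter fun h : ZMod 3 × ZMod 3 × ZMod 3 × ZMod 3 => mm h g = mm g h ∧ dt h ≠ 0).card ≤ 8 := by
  decide +kernel

theorem not_inv_eight : ∀ g h : ZMod 3 × ZMod 3 × ZMod 3 × ZMod 3, mm (mm g g) (mm g g) = (-1, 0, 0, -1) →
    dt h ≠ 0 → mm (mm g h) g ≠ h := by
  decide +kernel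

/-- an element of order 8 -/
def g8 : X := ⟨!![1, 1; -1, 1], !![-1, 1; -1, -1], by decide, by decide⟩

theorem g8_pow : g8 ^ 4 = -1 := by
  rw [val_eq_neg_one]
  decide

section Main

variable {L : Type*} [Group L]

theorem card_four (h : Cfsg.Spor.IsoM11 L) {x : L} (hx : orderOf x = 4) :
    Nat.card (centralizer ({x} : Set L)) ≤ 8 := by
  have := Cfsg.Agent.Cit.Eleven.finite h
  have hz : orderOf (x ^ 2) = 2 := by
    rw [orderOf_pow_of_dvd (by norm_num) (by rw [hx]; norm_num), hx]
  obtain ⟨e, he⟩ := exists_equiv h hz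
  have hxC : x ∈ centralizer ({x ^ 2} : Set L) := by
    rw [mem_centralizer_singleton_iff]
    exact ((Commute.refl x).pow_right 2).eq
  set g : X := e ⟨x, hxC⟩ with hg
  have hgg : g * g = -1 := by
    rw [hg, ← map_mul, ← he]
    congr 1
    apply Subtype.ext
    exact (pow_two x).symm
  have hle : ∀ y : L, y ∈ centralizer ({x} : Set L) → y ∈ centralizer ({x ^ 2} : Set L) := by
    intro y hy
    rw [mem_centralizer_singleton_iff] at hy ⊢
    exact ((show Commute y x from hy).pow_right 2).eq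
  have h1 := cent_four (co g) (by rw [← co_mul, hgg, co_neg_one])
  refine le_trans ?_ h1
  have h2 : Nat.card (Finset.univ.filter fun h : ZMod 3 × ZMod 3 × ZMod 3 × ZMod 3 =>
      mm h (co g) = mm (co g) h ∧ dt h ≠ 0) = (Finset.univ.filter fun h : ZMod 3 × ZMod 3 × ZMod 3 × ZMod 3 =>
      mm h (co g) = mm (co g) h ∧ dt h ≠ 0).card := by
    rw [Nat.card_eq_fintype_card, Fintype.card_coe]
  rw [← h2]
  refine Nat.card_le_card_of_injective (fun y => ⟨co (e ⟨y.1, hle _ y.2⟩), ?_⟩) ?_
  · rw [Finset.mem_filter]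
    refine ⟨Finset.mem_univ _, ?_, dt_co _⟩
    rw [← co_mul, ← co_mul, hg, ← map_mul, ← map_mul]
    congr 2
    apply Subtype.ext
    exact mem_centralizer_singleton_iff.1 y.2
  · intro y z hyz
    have h3 := co_injective (congrArg Subtype.val hyz)
    have h4 := e.injective h3
    exact Subtype.ext (congrArg (fun w : centralizer ({x ^ 2} : Set L) => (w : L)) h4)

theorem card_eight (h : Cfsg.Spor.IsoM11 L) {x : L} (hx : orderOf x = 8) :
    Nat.card (centralizer ({x} : Set L)) ≤ 8 := by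
  have := Cfsg.Agent.Cit.Eleven.finite h
  have hz : orderOf (x ^ 2) = 4 := by
    rw [orderOf_pow_of_dvd (by norm_num) (by rw [hx]; norm_num), hx]
  refine le_trans (Nat.card_le_card_of_injective (Subgroup.inclusion ?_) (Subgroup.inclusion_injective _))
    (card_four h hz)
  intro y hy
  rw [mem_centralizer_singleton_iff] at hy ⊢
  exact ((show Commute y x from hy).pow_right 2).eq

theorem not_isConj_eight (h : Cfsg.Spor.IsoM11 L) {x : L} (hx : orderOf x = 8) : ¬ IsConj x x⁻¹ := by
  have := Cfsg.Agent.Cit.Eleven.finite h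
  intro hc
  obtain ⟨c, hc⟩ := isConj_iff.1 hc
  have hz : orderOf (x ^ 4) = 2 := by
    rw [orderOf_pow_of_dvd (by norm_num) (by rw [hx]; norm_num), hx]
  obtain ⟨e, he⟩ := exists_equiv h hz
  have hxC : x ∈ centralizer ({x ^ 4} : Set L) := by
    rw [mem_centralizer_singleton_iff]
    exact ((Commute.refl x).pow_right 4).eq
  have h8 : x ^ 8 = 1 := by rw [← hx]; exact pow_orderOf_eq_one x
  have hcx : c * x = x⁻¹ * c := by rw [← hc, inv_mul_cancel_right]
  have hcC : c ∈ centralizer ({x ^ 4} : Set L) := by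
    rw [mem_centralizer_singleton_iff]
    have h1 : c * x ^ 4 * c⁻¹ = x ^ 4 := by
      rw [← conj_pow, hc, inv_pow, inv_eq_iff_mul_eq_one, ← pow_add, h8]
    rw [← h1]
    rw [inv_mul_cancel_right, h1]
  have h2 : x * c * x = c := by rw [mul_assoc, hcx, mul_inv_cancel_left]
  set g : X := e ⟨x, hxC⟩ with hg
  have hgg : (g * g) * (g * g) = -1 := by
    rw [hg, ← map_mul, ← map_mul, ← he]
    congr 1
    apply Subtype.ext
    show x * x * (x * x) = x ^ 4
    rw [← pow_two, ← pow_two, ← pow_mul]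
  refine not_inv_eight (co g) (co (e ⟨c, hcC⟩)) (by rw [← co_mul, ← co_mul, hgg, co_neg_one]) (dt_co _) ?_
  rw [← co_mul, ← co_mul, hg, ← map_mul, ← map_mul]
  congr 2
  exact Subtype.ext h2

theorem card_six (h : Cfsg.Spor.IsoM11 L) {x : L} (hx : orderOf x = 6) :
    Nat.card (centralizer ({x} : Set L)) ≤ 6 := by
  have := Cfsg.Agent.Cit.Eleven.finite h
  have hG := isM11 h
  have h2 : orderOf (x ^ 3) = 2 := by
    rw [orderOf_pow_of_dvd (by norm_num) (by rw [hx]; norm_num), hx]
  have h3 : orderOf (x ^ 2) = 3 := by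
    rw [orderOf_pow_of_dvd (by norm_num) (by rw [hx]; norm_num), hx]
  have hle : ∀ n : ℕ, centralizer ({x} : Set L) ≤ centralizer ({x ^ n} : Set L) := by
    intro n y hy
    rw [mem_centralizer_singleton_iff] at hy ⊢
    exact ((show Commute y x from hy).pow_right n).eq
  have d2 : Nat.card (centralizer ({x} : Set L)) ∣ 48 := by
    have := Subgroup.card_dvd_of_le (hle 3)
    rwa [SporadicA.M11Facts.card_centralizer_two hG h2] at this
  have d3 : Nat.card (centralizer ({x} : Set L)) ∣ 18 := by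
    have := Subgroup.card_dvd_of_le (hle 2)
    rwa [SporadicA.M11Facts2.card_centralizer_three hG h3] at this
  have : Nat.card (centralizer ({x} : Set L)) ∣ 6 := by
    have h4 := Nat.dvd_gcd d2 d3
    norm_num at h4
    exact h4
  exact Nat.le_of_dvd (by norm_num) this

theorem exists_six (h : Cfsg.Spor.IsoM11 L) : ∃ x : L, orderOf x = 6 := by
  have := Cfsg.Agent.Cit.Eleven.finite h
  have hG := isM11 h
  obtain ⟨y, hy⟩ := hasOrd_prime (G := L) Nat.prime_three (by rw [hG.2]; norm_num)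
  have hc := SporadicA.M11Facts2.card_centralizer_three hG hy
  obtain ⟨t, ht⟩ := hasOrd_prime (G := centralizer ({y} : Set L)) Nat.prime_two (by rw [hc]; norm_num)
  have ht' : orderOf (t : L) = 2 := by rw [Subgroup.orderOf_coe, ht]
  have hcomm : Commute (t : L) y := mem_centralizer_singleton_iff.1 t.2
  exact HasOrd.mul_of_commute ht' hy hcomm (by norm_num)

theorem exists_eight (h : Cfsg.Spor.IsoM11 L) : ∃ x : L, orderOf x = 8 := by
  have := Cfsg.Agent.Cit.Eleven.finite h
  have hG := isM11 h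
  obtain ⟨z, hz⟩ := hasOrd_prime (G := L) Nat.prime_two (by rw [hG.2]; norm_num)
  obtain ⟨e, he⟩ := exists_equiv h hz
  refine ⟨(e.symm g8 : L), ?_⟩
  have hz1 : z ≠ 1 := by rintro rfl; simp at hz
  have h1 : e.symm (-1) = ⟨z, self_mem z⟩ := by rw [← he, e.symm_apply_apply]
  have h4 : (e.symm g8 : L) ^ 4 = z := by
    rw [← Subgroup.coe_pow, ← map_pow, g8_pow, h1]
  have h2 : z ^ 2 = 1 := by rw [← hz]; exact pow_orderOf_eq_one z
  have : orderOf (e.symm g8 : L) = 2 ^ (2 + 1) := by
    apply orderOf_eq_prime_pow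
    · rw [show 2 ^ 2 = 4 by norm_num, h4]; exact hz1
    · rw [show 2 ^ (2 + 1) = 4 * 2 by norm_num, pow_mul, h4, h2]
  rw [this]; norm_num

theorem isoM11 (h : Cfsg.Spor.IsoM11 L) : Nat.card (ConjClasses L) = 10 := by
  have := Cfsg.Agent.Cit.Eleven.finite h
  have hG := isM11 h
  have hcard : Nat.card L = 7920 := hG.2
  obtain ⟨x6, h6⟩ := exists_six h
  obtain ⟨x8, h8⟩ := exists_eight h
  obtain ⟨x5, h5⟩ := hasOrd_prime (G := L) Nat.prime_five (by rw [hcard]; norm_num)
  obtain ⟨x11, h11⟩ := hasOrd_prime (G := L) (p := 11) (by norm_num) (by rw [hcard]; norm_num)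
  have h3 : orderOf (x6 ^ 2) = 3 := by
    rw [orderOf_pow_of_dvd (by norm_num) (by rw [h6]; norm_num), h6]
  have h2 : orderOf (x6 ^ 3) = 2 := by
    rw [orderOf_pow_of_dvd (by norm_num) (by rw [h6]; norm_num), h6]
  have h4 : orderOf (x8 ^ 2) = 4 := by
    rw [orderOf_pow_of_dvd (by norm_num) (by rw [h8]; norm_num), h8]
  have h8i : orderOf x8⁻¹ = 8 := by rw [orderOf_inv, h8]
  have h11i : orderOf x11⁻¹ = 11 := by rw [orderOf_inv, h11]
  have n8 := not_isConj_eight h h8
  have n11 := SporadicA.M11Sylow.not_isConj_inv hG h11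
  let x : Fin 10 → L := ![1, x6 ^ 3, x6 ^ 2, x8 ^ 2, x5, x6, x8, x8⁻¹, x11, x11⁻¹]
  let s : Fin 10 → ℕ := ![1, 165, 440, 990, 1584, 1320, 990, 990, 720, 720]
  let o : Fin 10 → ℕ := ![1, 2, 3, 4, 5, 6, 8, 8, 11, 11]
  have ho : ∀ i, orderOf (x i) = o i := by
    intro i
    fin_cases i
    · exact orderOf_one
    · exact h2
    · exact h3
    · exact h4
    · exact h5
    · exact h6
    · exact h8
    · exact h8i
    · exact h11
    · exact h11i
  refine card_classes_eq x s ?_ ?_ ?_
  · intro i j hij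
    have h0 : o i = o j := by rw [← ho, ← ho]; exact orderOf_eq_of_isConj hij
    have key : ∀ i j : Fin 10, o i = o j → i = j ∨ (i = 6 ∧ j = 7) ∨ (i = 7 ∧ j = 6) ∨
        (i = 8 ∧ j = 9) ∨ (i = 9 ∧ j = 8) := by decide
    rcases key i j h0 with hh | ⟨rfl, rfl⟩ | ⟨rfl, rfl⟩ | ⟨rfl, rfl⟩ | ⟨rfl, rfl⟩
    · exact hh
    · exact absurd hij n8
    · exact absurd hij.symm n8
    · exact absurd hij n11
    · exact absurd hij.symm n11
  · intro i
    rw [hcard]
    have hc1 : Nat.card (centralizer ({(1 : L)} : Set L)) ≤ 7920 := by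
      rw [← hcard]; exact Nat.card_le_card_of_injective _ (Subgroup.subtype_injective _)
    have hc2 := SporadicA.M11Facts.card_centralizer_two hG h2
    have hc3 := SporadicA.M11Facts2.card_centralizer_three hG h3
    have hc4 := card_four h h4
    have hc5 := SporadicA.M11Facts.card_centralizer_five hG h5
    have hc6 := card_six h h6
    have hc8 := card_eight h h8
    have hc8i := card_eight h h8i
    have hc11 := SporadicA.M11Sylow.card_centralizer_eleven hG h11
    have hc11i := SporadicA.M11Sylow.card_centralizer_eleven hG h11i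
    fin_cases i
    · show 1 * Nat.card (centralizer ({(1 : L)} : Set L)) ≤ 7920
      omega
    · show 165 * Nat.card (centralizer ({x6 ^ 3} : Set L)) ≤ 7920
      omega
    · show 440 * Nat.card (centralizer ({x6 ^ 2} : Set L)) ≤ 7920
      omega
    · show 990 * Nat.card (centralizer ({x8 ^ 2} : Set L)) ≤ 7920
      omega
    · show 1584 * Nat.card (centralizer ({x5} : Set L)) ≤ 7920
      omega
    · show 1320 * Nat.card (centralizer ({x6} : Set L)) ≤ 7920
      omega
    · show 990 * Nat.card (centralizer ({x8} : Set L)) ≤ 7920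
      omega
    · show 990 * Nat.card (centralizer ({x8⁻¹} : Set L)) ≤ 7920
      omega
    · show 720 * Nat.card (centralizer ({x11} : Set L)) ≤ 7920
      omega
    · show 720 * Nat.card (centralizer ({x11⁻¹} : Set L)) ≤ 7920
      omega
  · rw [hcard]
    decide

end Main

theorem m11 : Nat.card (ConjClasses ↥Cfsg.Spor.M11) = 10 := isoM11 ⟨MulEquiv.refl _⟩

end Cfsg.Agent.H180.KM11
end

-- part: H180/KM11Cube
section
set_option linter.all false
open scoped Cfsg.Agent.FastGrp

/-!
# In `M₁₁` every 3-regular element is conjugate to its cube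
-/

set_option autoImplicit false

namespace Cfsg.Agent.H180.KM11

open Subgroup Cfsg.Agent.H92.KTools Cfsg.Agent.Cit.Eleven

/-- the elements are covered by the classes of the representatives -/
theorem exists_isConj_of_class {G : Type*} [Group G] [Finite G] {n : ℕ} (x : Fin n → G) (s : Fin n → ℕ)
    (hx : ∀ i j, IsConj (x i) (x j) → i = j)
    (hs : ∀ i, s i * Nat.card (centralizer ({x i} : Set G)) ≤ Nat.card G)
    (hsum : Nat.card G ≤ ∑ i, s i) (g : G) : ∃ i, IsConj (x i) g := by
  have h1 := card_classes_eq x s hx hs hsum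
  have : Finite (ConjClasses G) := Quotient.finite _
  have h2 : Function.Bijective (fun i => ConjClasses.mk (x i)) := by
    rw [Nat.bijective_iff_injective_and_card]
    refine ⟨fun i j hij => hx i j (ConjClasses.mk_eq_mk_iff_isConj.1 hij), ?_⟩
    rw [h1, Nat.card_fin]
  obtain ⟨i, hi⟩ := h2.2 (ConjClasses.mk g)
  exact ⟨i, ConjClasses.mk_eq_mk_iff_isConj.1 hi⟩

/-- inverse in coordinates -/
def iv (h : ZMod 3 × ZMod 3 × ZMod 3 × ZMod 3) : ZMod 3 × ZMod 3 × ZMod 3 × ZMod 3 :=
  (h.2.2.2 * dt h, -(h.2.1 * dt h), -(h.2.2.1 * dt h), h.1 * dt h)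

theorem iv_spec : ∀ h : ZMod 3 × ZMod 3 × ZMod 3 × ZMod 3, dt h ≠ 0 →
    mm h (iv h) = (1, 0, 0, 1) ∧ mm (iv h) h = (1, 0, 0, 1) := by
  decide +kernel

theorem cube_four' : ∀ g : ZMod 3 × ZMod 3 × ZMod 3 × ZMod 3, mm g g = (-1, 0, 0, -1) →
    ∃ h : ZMod 3 × ZMod 3 × ZMod 3 × ZMod 3, dt h ≠ 0 ∧ mm h g = mm (mm g (mm g g)) h := by
  decide +kernel

theorem cube_eight' : ∀ g : ZMod 3 × ZMod 3 × ZMod 3 × ZMod 3, mm (mm g g) (mm g g) = (-1, 0, 0, -1) →
    ∃ h : ZMod 3 × ZMod 3 × ZMod 3 × ZMod 3, dt h ≠ 0 ∧ mm h g = mm (mm g (mm g g)) h := by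
  decide +kernel

theorem cube_four (g : ZMod 3 × ZMod 3 × ZMod 3 × ZMod 3) (hg : mm g g = (-1, 0, 0, -1)) :
    ∃ h k : ZMod 3 × ZMod 3 × ZMod 3 × ZMod 3, mm h k = (1, 0, 0, 1) ∧ mm k h = (1, 0, 0, 1) ∧
      mm h g = mm (mm g (mm g g)) h := by
  obtain ⟨h, h1, h2⟩ := cube_four' g hg
  exact ⟨h, iv h, (iv_spec h h1).1, (iv_spec h h1).2, h2⟩

theorem cube_eight (g : ZMod 3 × ZMod 3 × ZMod 3 × ZMod 3) (hg : mm (mm g g) (mm g g) = (-1, 0, 0, -1)) :
    ∃ h k : ZMod 3 × ZMod 3 × ZMod 3 × ZMod 3, mm h k = (1, 0, 0, 1) ∧ mm k h = (1, 0, 0, 1) ∧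
      mm h g = mm (mm g (mm g g)) h := by
  obtain ⟨h, h1, h2⟩ := cube_eight' g hg
  exact ⟨h, iv h, (iv_spec h h1).1, (iv_spec h h1).2, h2⟩

/-- the matrix with given entries -/
def mat (x : ZMod 3 × ZMod 3 × ZMod 3 × ZMod 3) : Matrix (Fin 2) (Fin 2) (ZMod 3) :=
  !![x.1, x.2.1; x.2.2.1, x.2.2.2]

theorem mat_mul (x y : ZMod 3 × ZMod 3 × ZMod 3 × ZMod 3) : mat (mm x y) = mat x * mat y := by
  unfold mat mm
  rw [Matrix.mul_fin_two]

theorem mat_one : mat (1, 0, 0, 1) = 1 := by
  unfold mat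
  exact Matrix.one_fin_two.symm

/-- lift of coordinates -/
def lift (h k : ZMod 3 × ZMod 3 × ZMod 3 × ZMod 3) (h1 : mm h k = (1, 0, 0, 1)) (h2 : mm k h = (1, 0, 0, 1)) : X :=
  ⟨mat h, mat k, by rw [← mat_mul, h1, mat_one], by rw [← mat_mul, h2, mat_one]⟩

theorem co_lift (h k : ZMod 3 × ZMod 3 × ZMod 3 × ZMod 3) (h1 : mm h k = (1, 0, 0, 1)) (h2 : mm k h = (1, 0, 0, 1)) :
    co (lift h k h1 h2) = h := rfl

section Main

variable {L : Type*} [Group L]

/-- conjugation to the cube inside the centralizer of an involution `x ^ n` -/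
theorem cube_of (h : Cfsg.Spor.IsoM11 L) {x : L} {n : ℕ} (hz : orderOf (x ^ n) = 2)
    (key : ∀ g : X, g ^ n = -1 → ∃ c : X, c * g = g ^ 3 * c) : IsConj x (x ^ 3) := by
  obtain ⟨e, he⟩ := exists_equiv h hz
  have hxC : x ∈ centralizer ({x ^ n} : Set L) := by
    rw [mem_centralizer_singleton_iff]
    exact ((Commute.refl x).pow_right n).eq
  have h1 : (e ⟨x, hxC⟩) ^ n = -1 := by
    rw [← map_pow, ← he]
    rfl
  obtain ⟨c, hc⟩ := key _ h1
  obtain ⟨d, rfl⟩ := e.surjective c
  rw [← map_pow, ← map_mul, ← map_mul] at hc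
  have h2 := congrArg (Subtype.val) (e.injective hc)
  refine isConj_iff.2 ⟨(d : L), ?_⟩
  rw [mul_inv_eq_iff_eq_mul]
  exact h2

theorem cube_order_four (h : Cfsg.Spor.IsoM11 L) {x : L} (hx : orderOf x = 4) : IsConj x (x ^ 3) := by
  refine cube_of h (n := 2) (by rw [orderOf_pow_of_dvd (by norm_num) (by rw [hx]; norm_num), hx]) ?_
  intro g hg
  obtain ⟨c, k, h1, h2, h3⟩ := cube_four (co g) (by rw [← co_mul, ← pow_two, hg, co_neg_one])
  refine ⟨lift c k h1 h2, co_injective ?_⟩
  rw [co_mul, co_mul, co_lift, h3, pow_succ', pow_two, co_mul, co_mul]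

theorem cube_order_eight (h : Cfsg.Spor.IsoM11 L) {x : L} (hx : orderOf x = 8) : IsConj x (x ^ 3) := by
  refine cube_of h (n := 4) (by rw [orderOf_pow_of_dvd (by norm_num) (by rw [hx]; norm_num), hx]) ?_
  intro g hg
  obtain ⟨c, k, h1, h2, h3⟩ := cube_eight (co g) (by
    rw [← co_mul, ← co_mul, ← pow_two, ← pow_two, ← pow_mul, hg, co_neg_one])
  refine ⟨lift c k h1 h2, co_injective ?_⟩
  rw [co_mul, co_mul, co_lift, h3, pow_succ', pow_two, co_mul, co_mul]

/-- the element orders of `M₁₁` -/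
theorem orders (h : Cfsg.Spor.IsoM11 L) (g : L) : orderOf g ∈ [1, 2, 3, 4, 5, 6, 8, 11] := by
  have := Cfsg.Agent.Cit.Eleven.finite h
  have hG := isM11 h
  have hcard : Nat.card L = 7920 := hG.2
  obtain ⟨x6, h6⟩ := exists_six h
  obtain ⟨x8, h8⟩ := exists_eight h
  obtain ⟨x5, h5⟩ := hasOrd_prime (G := L) Nat.prime_five (by rw [hcard]; norm_num)
  obtain ⟨x11, h11⟩ := hasOrd_prime (G := L) (p := 11) (by norm_num) (by rw [hcard]; norm_num)
  have h3 : orderOf (x6 ^ 2) = 3 := by
    rw [orderOf_pow_of_dvd (by norm_num) (by rw [h6]; norm_num), h6]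
  have h2 : orderOf (x6 ^ 3) = 2 := by
    rw [orderOf_pow_of_dvd (by norm_num) (by rw [h6]; norm_num), h6]
  have h4 : orderOf (x8 ^ 2) = 4 := by
    rw [orderOf_pow_of_dvd (by norm_num) (by rw [h8]; norm_num), h8]
  have h8i : orderOf x8⁻¹ = 8 := by rw [orderOf_inv, h8]
  have h11i : orderOf x11⁻¹ = 11 := by rw [orderOf_inv, h11]
  have n8 := not_isConj_eight h h8
  have n11 := SporadicA.M11Sylow.not_isConj_inv hG h11
  let x : Fin 10 → L := ![1, x6 ^ 3, x6 ^ 2, x8 ^ 2, x5, x6, x8, x8⁻¹, x11, x11⁻¹]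
  let s : Fin 10 → ℕ := ![1, 165, 440, 990, 1584, 1320, 990, 990, 720, 720]
  let o : Fin 10 → ℕ := ![1, 2, 3, 4, 5, 6, 8, 8, 11, 11]
  have ho : ∀ i, orderOf (x i) = o i := by
    intro i
    fin_cases i
    · exact orderOf_one
    · exact h2
    · exact h3
    · exact h4
    · exact h5
    · exact h6
    · exact h8
    · exact h8i
    · exact h11
    · exact h11i
  obtain ⟨i, hi⟩ := exists_isConj_of_class x s (by
    intro i j hij
    have h0 : o i = o j := by rw [← ho, ← ho]; exact orderOf_eq_of_isConj hij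
    have key : ∀ i j : Fin 10, o i = o j → i = j ∨ (i = 6 ∧ j = 7) ∨ (i = 7 ∧ j = 6) ∨
        (i = 8 ∧ j = 9) ∨ (i = 9 ∧ j = 8) := by decide
    rcases key i j h0 with hh | ⟨rfl, rfl⟩ | ⟨rfl, rfl⟩ | ⟨rfl, rfl⟩ | ⟨rfl, rfl⟩
    · exact hh
    · exact absurd hij n8
    · exact absurd hij.symm n8
    · exact absurd hij n11
    · exact absurd hij.symm n11) (by
    intro i
    rw [hcard]
    have hc1 : Nat.card (centralizer ({(1 : L)} : Set L)) ≤ 7920 := by
      rw [← hcard]; exact Nat.card_le_card_of_injective _ (Subgroup.subtype_injective _)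
    have hc2 := SporadicA.M11Facts.card_centralizer_two hG h2
    have hc3 := SporadicA.M11Facts2.card_centralizer_three hG h3
    have hc4 := card_four h h4
    have hc5 := SporadicA.M11Facts.card_centralizer_five hG h5
    have hc6 := card_six h h6
    have hc8 := card_eight h h8
    have hc8i := card_eight h h8i
    have hc11 := SporadicA.M11Sylow.card_centralizer_eleven hG h11
    have hc11i := SporadicA.M11Sylow.card_centralizer_eleven hG h11i
    fin_cases i
    · show 1 * Nat.card (centralizer ({(1 : L)} : Set L)) ≤ 7920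
      omega
    · show 165 * Nat.card (centralizer ({x6 ^ 3} : Set L)) ≤ 7920
      omega
    · show 440 * Nat.card (centralizer ({x6 ^ 2} : Set L)) ≤ 7920
      omega
    · show 990 * Nat.card (centralizer ({x8 ^ 2} : Set L)) ≤ 7920
      omega
    · show 1584 * Nat.card (centralizer ({x5} : Set L)) ≤ 7920
      omega
    · show 1320 * Nat.card (centralizer ({x6} : Set L)) ≤ 7920
      omega
    · show 990 * Nat.card (centralizer ({x8} : Set L)) ≤ 7920
      omega
    · show 990 * Nat.card (centralizer ({x8⁻¹} : Set L)) ≤ 7920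
      omega
    · show 720 * Nat.card (centralizer ({x11} : Set L)) ≤ 7920
      omega
    · show 720 * Nat.card (centralizer ({x11⁻¹} : Set L)) ≤ 7920
      omega) (by
    rw [hcard]
    decide) g
  have h0 : orderOf g = o i := by rw [← ho]; exact (orderOf_eq_of_isConj hi).symm
  rw [h0]
  have key : ∀ i : Fin 10, o i ∈ [1, 2, 3, 4, 5, 6, 8, 11] := by decide
  exact key i

/-- **every 3-regular element of `M₁₁` is conjugate to its cube** -/
theorem m11_conj_cube {M : Type*} [Group M] (h : Cfsg.Spor.IsoM11 M) (g : M) (hg : ¬ 3 ∣ orderOf g) :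
    IsConj g (g ^ 3) := by
  have := Cfsg.Agent.Cit.Eleven.finite h
  have hG := isM11 h
  have ho := orders h g
  simp only [List.mem_cons, List.not_mem_nil, or_false] at ho
  rcases ho with ho | ho | ho | ho | ho | ho | ho | ho
  · rw [orderOf_eq_one_iff.1 ho, one_pow]
  · have : g ^ 3 = g := by
      rw [pow_succ, ← ho, pow_orderOf_eq_one, one_mul]
    rw [this]
  · rw [ho] at hg; exact absurd (by norm_num) hg
  · exact cube_order_four h ho
  · have h1 := SporadicA.M11Facts.isConj_five hG ho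
    have h2 : ∀ n : ℕ, IsConj (g ^ n) ((g ^ 2) ^ n) := by
      intro n
      obtain ⟨c, hc⟩ := isConj_iff.1 h1
      exact isConj_iff.2 ⟨c, by rw [← conj_pow, hc]⟩
    have h5 : g ^ 5 = 1 := by rw [← ho]; exact pow_orderOf_eq_one g
    have h3 : g ^ 3 = ((g ^ 2) ^ 4) := by
      rw [← pow_mul, show 2 * 4 = 5 + 3 by norm_num, pow_add, h5, one_mul]
    have h4 : g ^ 4 = (g ^ 2) ^ 2 := by rw [← pow_mul]
    rw [h3]
    refine h1.trans ((h2 2).trans ?_)
    rw [← h4]
    exact h2 4
  · rw [ho] at hg; exact absurd (by norm_num) hg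
  · exact cube_order_eight h ho
  · exact SporadicA.M11Sylow.isConj_pow_three hG ho

end Main

end Cfsg.Agent.H180.KM11
end
end
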