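import Mathlib
import Cfsg.Agent.H771.KTools_m3
import Cfsg.Agent.Lib.FieldFour
import Cfsg.Agent.LieClassical.FieldTransfer
import Cfsg.Agent.S0278
import Cfsg.Agent.FastGrp
import Cfsg.Agent.Prune
set_option linter.all false
prune_inst 0x7ffebdffeff8bfffffff7e7ffffffffffbfdffffffdffbfbfffdffffffff7b6ffbe5fbafffefdafffef7e2be30f87bd3fffffeffee6ffd7ffffdfff45fffffdfffffbd8c719fbcb41ffe6ffffbf97fdf7f3fffffffffffffffffffffffffffffffffffffffff
open scoped Cfsg.Agent.FastGrp

/-- decoders of the packed data (elaboration time only) -/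
private noncomputable def pk61d (b S i : Nat) : Nat := Nat.mod (Nat.shiftRight S (Nat.mul b i)) (Nat.shiftLeft (nat_lit 1) b)
private noncomputable def pk61f {α : Type} (t : Nat) (f : Nat → α) : α := Nat.rec (f Nat.zero) (fun k _ => f (Nat.succ k)) t
private noncomputable def pk61l {α : Type} (f : Nat → α) (s e : Nat) (tl : List α) : List α :=
  pk61f e fun e => Nat.rec tl (fun k ih => List.cons (pk61f (Nat.sub e (Nat.succ k)) f) ih) (Nat.sub e s)
private noncomputable def lq26ab190999 {T : Sort _} (f :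
    type_of% (@_root_.List.cons.{0}) →
    type_of% (@_root_.List.cons.{0} (Nat)) →
    type_of% (@_root_.List.nil.{0}) →
    type_of% (@_root_.List.cons.{0} (List Nat)) →
    type_of% (@_root_.Prod.mk.{0, 0}) →
    type_of% (@_root_.List.cons.{0} (Prod Nat (Prod Nat Nat))) →
    type_of% (@_root_.Matrix.vecCons.{0}) →
    type_of% (@_root_.Cfsg.Agent.Lib.FieldFour.F4.o) →
    type_of% (@_root_.Nat.mod) →
    type_of% (@_root_.Nat.div) →
    type_of% (@_root_.Nat.mul) →
    type_of% (@_root_.Matrix.vecEmpty.{0}) →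
    type_of% (@_root_.Cfsg.Agent.Lib.FieldFour.F4.i) →
    type_of% (@_root_.Nat.xor) →
    type_of% (@_root_.Nat.add) →
    type_of% (@_root_.Cfsg.Agent.Lib.FieldFour.F4.w) →
    type_of% (@_root_.Cfsg.Agent.Lib.FieldFour.F4.v) → T) : T :=
  f (@_root_.List.cons.{0}) (@_root_.List.cons.{0} (Nat)) (@_root_.List.nil.{0}) (@_root_.List.cons.{0} (List Nat)) (@_root_.Prod.mk.{0, 0}) (@_root_.List.cons.{0} (Prod Nat (Prod Nat Nat))) (@_root_.Matrix.vecCons.{0}) (@_root_.Cfsg.Agent.Lib.FieldFour.F4.o) (@_root_.Nat.mod) (@_root_.Nat.div) (@_root_.Nat.mul) (@_root_.Matrix.vecEmpty.{0}) (@_root_.Cfsg.Agent.Lib.FieldFour.F4.i) (@_root_.Nat.xor) (@_root_.Nat.add) (@_root_.Cfsg.Agent.Lib.FieldFour.F4.w) (@_root_.Cfsg.Agent.Lib.FieldFour.F4.v)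

/-- Laplace expansion which skips zero entries -/
private noncomputable def detL_af70c {R : Type*} [CommRing R] [DecidableEq R] (n : ℕ) : Matrix (Fin n) (Fin n) R → R :=
  @Nat.rec (fun n => Matrix (Fin n) (Fin n) R → R) (fun _ => 1) (fun n ih M =>
    ∑ j : Fin (n + 1), if M 0 j = 0 then 0 else (-1) ^ (j : ℕ) * M 0 j * ih (M.submatrix Fin.succ j.succAbove)) n

private theorem detL_eq_af70c {R : Type*} [CommRing R] [DecidableEq R] {n : ℕ} (M : Matrix (Fin n) (Fin n) R) :
    M.det = detL_af70c n M := by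
  induction n with
  | zero => exact Matrix.det_fin_zero
  | succ n ih =>
    rw [Matrix.det_succ_row_zero]
    refine Finset.sum_congr rfl fun j _ => ?_
    by_cases h : M 0 j = 0
    · rw [if_pos h, h, mul_zero, zero_mul]
    · rw [if_neg h, ih]
      rfl


-- part: H180/U42Data
section
/-!
# Data for the class fusion in `U₄(2)`: codes and words

An `F₂`-linear map of `F₄⁴ = F₂⁸` is coded by its eight images (bytes).
-/

set_option autoImplicit false

namespace Cfsg.Agent.H180.U42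

/-- the value of the map with code `n` at `c` -/
def ap (n c : ℕ) : ℕ :=
  (beta% delta% lq26ab190999 fun _ _ _ _ _ _ _ _ k l o _ _ r _ _ _ =>
 r (o (k c 2) (k n 256))
 (r (o (k (l c 2) 2) (k (l n 256) 256))
 (r (o (k (l c 4) 2) (k (l n 65536) 256))
 (r (o (k (l c 8) 2) (k (l n 16777216) 256))
 (r (o (k (l c 16) 2) (k (l n 4294967296) 256))
 (r (o (k (l c 32) 2) (k (l n 1099511627776) 256))
 (r (o (k (l c 64) 2) (k (l n 281474976710656) 256))
 (o (k (l c 128) 2) (k (l n 72057594037927936) 256)))))))))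

/-- the code of the composition -/
def cmp (n m : ℕ) : ℕ :=
  (beta% delta% lq26ab190999 fun _ _ _ _ _ _ _ _ k l o _ _ _ s _ _ =>
 s (ap n (k m 256)) (o 256
 (s (ap n (k (l m 256) 256)) (o 256
 (s (ap n (k (l m 65536) 256)) (o 256
 (s (ap n (k (l m 16777216) 256)) (o 256
 (s (ap n (k (l m 4294967296) 256)) (o 256
 (s (ap n (k (l m 1099511627776) 256)) (o 256
 (s (ap n (k (l m 281474976710656) 256)) (o 256
 (ap n (k (l m 72057594037927936) 256))))))))))))))))

/-- the identity -/
def one : ℕ := 9241421688590303745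

/-- the generators -/
def gen : ℕ → ℕ
  | 0 => 9241421688523719426
  | 1 => 144537675956750340
  | _ => 15615238731472306689

/-- the code of a word -/
def ev : List ℕ → ℕ
  | [] => one
  | i :: w => cmp (gen i) (ev w)

/-- words of the 216 elements of the stabilizer of `e₁` -/
def SW : List (List ℕ) :=
  (by
  refine (?fq9001 : ((pk61l (fun i1 => ((fun g1 : Nat → Nat => pk61l (fun i2 => (pk61d (nat_lit 2) 
    (nat_lit 0x8546821a512951801a4581a45808691424469421a45446960a516008569654608215a502516245a582456a9158a82415206950529841582244161069809a5414a609105841a60269505106a041a6821691a56021692069588a9152a4692a451291a620546205a65046a4518a2450624a564562a914180905605a6254608a456215182209514a5628915a205168546024a518145808546251605069109458a52995a4695296694108544816920546244515181116291460151824518911644160145810562445824414516041580a9158a45481458915a529a94694214591588456a09055158a2105485a411298a45605a49129805a629158085a44a564a54929584506091a64518892952450646982456a115a95a4612955046aa54651068106910692546a506954691291a544a58469a5468915a456091169519a51a6945116251184a55295269154419a45a516a945846991a491a6091a5a504914551aaa54541191461158a245611a54a6a54184568a45444a416915a4694a552965299469611594a69a565416959506504544694a65116945416115915824561155105a45a514469469151a516a95195195a5945a54551845541545a515505a556994454a55182082515692008aaa)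 i2)) (g1 i1) (g1 (Nat.succ i1)) List.nil) fun j => (pk61d (nat_lit 11) 
    (nat_lit 0x72ae3fc5384efede7ba36eed2d8faf358ea6d37a434367cce59a32f654c959031b62cc4586307604bf57c2f35dcba5722df5b4b55682cb58cb055e2b7564ab5542a353ca654a28f514a154027b4ec9c5362674c49752c253c9e92b23241c7a8e31a22fc5689b1121dc328530820bc0e80aff1f9bea7c2f61e7bc677aed1d5ba2732e41c3b7e6eadb1b1b5a6a2d219fb3665ac918db12612c017baee5cab7169aca582ae157aa653aa5145a824f29c133a5f4ae93d23a3f46e8bd13a1f42e83d039ff3ee7bcf39df3ae73ce39bf36e6bcd399f32e63cc397f2ee5bcb395f2ae53ca393f26e4bc9391f230444851031f83d4770e71c0364690cb1882f45b0af1502844d0931182143f0770e01a43185d0ae1442584507e0e41982d04e0880e8180260380500600600400000) j))) (nat_lit 0) (nat_lit 216) List.nil) : List (List ℕ))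
    = ?xq9001 → (List (List ℕ))) ?hq9001; (case hq9001 => (set_option maxRecDepth 1000000 in set_option simprocs false in conv => lhs; reduce; dsimp only)); intro _; exact ?xq9001 : List (List ℕ))

/-- their codes -/
noncomputable def SC : List ℕ :=
  (by
  refine (?fq9002 : ((pk61l (fun i1 => (pk61d (nat_lit 64) (Nat.add 
    (nat_lit 0x9c78d8b454fc02019874f8a4bc6802019874d4bca45c0201947cf4acdcb802017ce858f4dcb8020178e4fca8b46c020178e46cd854fc020178e454fc6cd8020174ecf8a4d4bc020174eca45c68d4020174ec68d4a45c020174ec5cf8bc6802016cd8a854e49c02016cd854fc78e4020168d4a45c74ec020168d498745cf8020168d45cf89874020164dce89458f4020164dcac58947c020164dc947cac58020164dc58f4e894020158f4e89464dc020154fce49cb46c020154fcd8b49c78020154fc9c78d8b402013020c0800c08020130200c08c0800201103040c0040c020110300804c08002011030040c40c002010c08c080302002010c0840c0201002010804c080103002010804302040c00201040c804030200201040c302080400201fca89c786cd80201f8a4ec9868d40201f4ace894b8640201e89458f4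64dc0201e49cd8b4fca80201d8b4fca8e49c0201d8b454fc9c780201d4bc9874a45c0201c0800c0830200201c080080410300201c080040c20100201b46cfca878e40201b46ce49c54fc0201b46ca8549c780201a85478e4d8b402019c78b46ca85402019c78a854b46c02019c7854fcd8b402019874a45cd4bc0201947cac5864dc02018040040c302002017ce8ac58b864020178e4b46cfca802016cd8fca89c7802016cd89c78fca8020168d4ec98f8a4020164dc7ce8f4ac02015cf8bc6874ec020154fc6cd878e4020140c00c082010020140c0040c1030020130208040040c02012010c080040c020120100c0840c002012010040cc08002010c088040103002010c08103080400201080440c03020020108041030c0800201040cc08020100201040c103040c00201e49cfca8d8b40201e49c6cd8a8540201e49c54fcb46c0201d8b4a85478e40201d8b49c7854fc0201c08030200c080201b46c78e4fca80201a854b46c9c7802019c78fca86cd8020180400c08103002016cd8e49ca85402016cd878e454fc020168d474eca45c020158f4b864947c020154fcb46ce49c020140c01030040c020140c0080430200201302040c0080402013020080440c002013020040c80400201201040c00c0802011030c08008040201103080400c0802010c083020c080020108048040201002010804201080400201fca86cd89c780201d8b4e49cfca80201c0802010040c0201c080103008040201b46c9c78a8540201a854d8b478e4020180403020040c0201804008042010020178e4a854d8b4020140c020100c08020110300c0880400201804010300c0802017ce8dcb858f4020174ecd4bcf8a4020140c03020080402012010080480400201dcb87ce858f40201d4bc74ecf8a4020178e4d8b4a85402012010804008040201d8b478e4a85402018040201008040201)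 (Nat.shiftLeft 
    (nat_lit 0xf8a49874bc680201f8a474ecd4bc0201e894dcb8ac580201bc68a45cec980201b864ac587ce80201ac58e894dcb80201ac5864dc947c0201a45cec98bc680201a45c68d474ec0201947cb86458f402015cf8d4bcec9802015cf8987468d4020158f4dcb87ce8020154fc78e46cd80201f8a4d4bc74ec0201f8a4bc6898740201f4acb864e8940201f4ac947cdcb80201f4ac7ce864dc0201ec98f8a468d40201ec98d4bc5cf80201ec98bc68a45c0201ec98a45cbc680201ec9868d4f8a40201e894f4acb8640201e894b864f4ac0201e894ac58dcb80201e89464dc58f40201e49cb46c54fc0201e49ca8546cd80201dcb8f4ac947c0201dcb8ac58e8940201d4bcf8a474ec0201d4bca45c98740201bc685cf874ec0201ac58947c64dc0201ac587ce8b8640201a8549c78b46c0201a45c9874d4bc0201a45c74ec68d402019c786cd8fca802019874bc68f8a40201987468d45cf8020198745cf868d40201947cdcb8f4ac0201947c64dcac580201947c58f4b86402017ce8f4ac64dc02017ce8b864ac5802017ce864dcf4ac020174ecbc685cf8020168d4f8a4ec98020164dcf4ac7ce802015cf8ec98d4bc02015cf874ecbc6802015cf868d49874020158f4947cb864020158f47ce8dcb8020158f464dce8940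2010c08201040c00201040c40c010300201040c2010c0800201fca8e49cd8b40201fca8d8b4e49c0201fca8b46c78e40201fca878e4b46c0201f8a468d4ec980201f4acdcb8947c0201f4ac64dc7ce80201ec985cf8d4bc0201dcb8e894ac580201dcb8947cf4ac0201dcb858f47ce80201d4bcec985cf80201d4bc5cf8ec980201bc68f8a498740201bc68ec98a45c0201bc689874f8a40201bc6874ec5cf80201b864f4ace8940201b864e894f4ac0201b864947c58f40201b8647ce8ac580201b86458f4947c0201b46c54fce49c0201ac58dcb8e8940201ac58b8647ce80201a854e49c6cd80201a8546cd8e49c0201a45cd4bc98740201a45cbc68ec980201) (nat_lit 8000))) i1)) (nat_lit 0) (nat_lit 216) List.nil) : List ℕ)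
    = ?xq9002 → (List ℕ)) ?hq9002; (case hq9002 => (set_option maxRecDepth 1000000 in set_option simprocs false in conv => lhs; reduce; dsimp only)); intro _; exact ?xq9002 : List ℕ)

/-- words of seven elements of the double cosets -/
def TW : List (List ℕ) :=
  (beta% delta% lq26ab190999 fun a _ e _ _ _ _ _ _ _ _ _ _ _ _ _ _ =>
 (a e<|a (a 0<|e)<|a (a 0<|a 0<|e)<|a (a 1<|e)<|a (a 1<|a 1<|a 1<|a 2<|a 1<|e)<|a (a 1<|a 1<|a 1<|a 0<|a 0<|a 2<|a 1<|e)<|
 a (a 2<|a 1<|a 0<|a 2<|a 0<|a 1<|e)<|e))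

/-- their codes -/
def TC : List ℕ :=
  [9241421688590303745, 9241421688523719426, 9241421688657674499, 144537675956750340, 9241446002772748821, 4665789885187762966,
  6123861894467365143]

/-- words of the conjugating elements -/
noncomputable def XW : List (List ℕ) :=
  let y0 : List (List ℕ) := (by
  refine (?fq9003 : (pk61l (fun i0 => ((fun g0 : Nat → Nat => pk61l (fun i1 => (pk61d (nat_lit 2) 
    (nat_lit 0x25828182955825161a94442685842819624424a594256410844246464198506a142185692) i1)) (g0 i0) (g0 (Nat.succ i0)) List.nil) fun j => (pk61d (nat_lit 8) 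
    (nat_lit 0x93897f756b61574d43392f251b120900) j))) (nat_lit 0) (nat_lit 15) List.nil : List (List ℕ))
    = ?xq9003 → (List (List ℕ))) ?hq9003; (case hq9003 => (set_option maxRecDepth 1000000 in set_option simprocs false in conv => lhs; reduce; dsimp only)); intro _; exact ?xq9003 : List (List ℕ))
  let y1 : List (List ℕ) := (by
  refine (?fq9004 : (fun tl : List (List ℕ) => pk61l (fun i0 => ((fun g0 : Nat → Nat => pk61l (fun i1 => (pk61d (nat_lit 2) 
    (nat_lit 0x50842a52a0862484101a9251248a96262a4442a6659a55a5888590058582459545a42164944a8290a149266110466418661618994695189146119492660a5166049481a2656a924209294412526a52644214a582658914591994a19641a954959a586590582919528a9609058a411469850562958448466511191065969149822998651aa410829401454461042102460491019252995989049144988646490660a45865485969619514146181562a81859612584a4a90625965484164850914506085154211258096106a8118a9994292a6891614109961018598112998504a2944a9a416a405959aa59520656901a958a91890985a91642124a4609169404459641581855961a41a952504989181064592966266521120596444421405959058124481419624166992a62a1085a194968618498945)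 i1)) (g0 i0) (g0 (Nat.succ i0)) List.nil) fun j => (pk61d (nat_lit 11) 
    (nat_lit 0x4d899f31a5ecb495728a4cc9090f1fa3ac6c8c716a28c4887f0da16c2483704a04c007eefb9f2bdc7a6f29e0bb875ee9dcfb9771ee1dbfb776ded9dafb5769ed1d9fb3765ec9d8fb1761ec1d7faf75deb9d6fad759eb1d5fab755ea9d4fa9751ea1d3fa774de99d2fa5749e91d1fa384628a911a1c42a83903a003f27c8f59e43ba758e79c83826e8d99ac34a678cb990312608be1762e05a8b215e2b0548a61462804e89a12e2524908f91a22a440859062023f07b8f21dc3a8730e21bc36c6c8ce1862e0568a212e230410780dc1902d05008c0f01902803c05005000) j))) (nat_lit 0) (nat_lit 160) tl)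
    = ?xq9004 → (List (List ℕ))) ?hq9004; (case hq9004 => (set_option maxRecDepth 1000000 in set_option simprocs false in conv => lhs; reduce; dsimp only)); intro _; exact ?xq9004 y0 : List (List ℕ))
  (by
  refine (?fq9005 : (fun tl : List (List ℕ) => pk61l (fun i0 => ((fun g0 : Nat → Nat => pk61l (fun i1 => (pk61d (nat_lit 2) 
    (nat_lit 0x165948145989949545989492421482269821582696a61605a9951586a9524658599a95952a558a68a984491aa91209845195a86a622460a59521459a569826459a44421a460a524025a82a5842642181946992465015a5858a96865896a41a15a4151a5655a0a56914a55a66912a626a618126945816056642181a1509049296519842119514250061898120512148941a665841464191649889a48860a482590896a42606204994264a18a92995a54920926a15869469821089952885625629464462469a905865906459945606a64898299a4a548444654a14651486021815459a5aaa581819520521606560521059956652469891a645622455158891589150804591251981266a511659596515965294a552969696969441586916696941652991585a69455169955069546955a546914a56994a544551)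 i1)) (g0 i0) (g0 (Nat.succ i0)) List.nil) fun j => (pk61d (nat_lit 11) 
    (nat_lit 0x9c736667cc59772ca54ca092f23a42c7c8e71aa30c5889f11a1ec3485708a0cc1080eff9fabed7caf75eabcd78aef5dabad74ce7dcc391714e0dbe3756dcda1b135d6b0d4da734968ad059eb3a66ecb190b16618c097c2ee5c8b69682c6578ac95429e528a29402764d89892c24f48c8f51a22b444865082073fc7d4f61e43b8750e61c43786d0d69a6340654c59812ee5b8b295d2ae544a313c2664a89091a222424808f91e23a4710de1b8344630bc1662a85089811e21c408780e01a43105b0a8138240420820f01982b0480740b81201601400000) j))) (nat_lit 0) (nat_lit 155) tl)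
    = ?xq9005 → (List (List ℕ))) ?hq9005; (case hq9005 => (set_option maxRecDepth 1000000 in set_option simprocs false in conv => lhs; reduce; dsimp only)); intro _; exact ?xq9005 y1 : List (List ℕ))

/-- their codes -/
def XC : List ℕ :=
  (by
  refine (?fq9006 : ((pk61l (fun i1 => (pk61d (nat_lit 64) (Nat.add 
    (nat_lit 0x8f4a2a15d1b3bc68cf8a9874352fe392854f2f1a63d2b46c8f4a251f9372e49c51f33f2afca845cf51f3864d1d3ba45c80402a152d1b271ecd8b54fc163da352c98720108a454bc680400804030210301e399c7849c7e3928f4a251fe1939c78c987947c173e9372854f2f1ab1636cd8040c02012010c0808040080401033020103008040201c0800c080201201040c0e193a251080463d28040080402012010804002013020040c080402012010804030200804020140c08040020110300c082010080402018040804002012010080472e1c58f1f3a78e4f1a38f4a352f58f4cf8a9271ec98352f1d3bc68de49c73e25cf8874ef1a3271e1937ce89ec989173e392f2a1040cb362d8b44dcbd3b22d1bec98cd8b93722d1b78e4c78e71e3271ec68d10304ec9cf8a61d345cf1f3ab864f2a11f3aa45c4fcaec981b36cd8be193352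fd2b14fcad8b44fcaf2a1a45c1f3a1f3a72e1c58f78e42f1a52f18f4a58f41a359271cf8a987446cdb8641d3bd1b3864d2b16e89492718e49291768d4b26149c7302046cd854fd3b21f3a64dccf8a52f1352fac58c58f45cfb8641f3a61d3ca85d8b4352f63d272e1362dec98cd8bc78e58f4372ef3a24fcaf8a41f3aa153d2b14fca352fd8b453f2854f1f3af8a4f1a31e39a45c874e3a25b26145cfb86453f292710c08d1b3cd8b10308e494fca78e43927c78ee392f4ac1b368d4ba153e392cf8a352f9874ce899874372e73e2271e874ef8a452f1f1a3b261040c73e25cf83927874ea352251ff2a1854ff8a41f3a78e472e1c58f3a25b864b26145cf352fd8b4d2b14fca1a3598749271cf8a2f1a58f452f18f4a251ff8a4f2a1854f8a452a15a251a854854f2f1ad2b1d8b48f4a251f72e178e4153fca85947c73e23f2a4ac5bc68d1b3153fca857ce891733f2a4ac5d4bcb3622a158a4554fcf3a22a158a45fca851f368d45cf898740201947cac5864dc0201f4ace894b86402015cf8bc6874ec020164dc7ce8f4ac0201f8a4ec9868d4020158f4b864947c0201d4bc74ecf8a40201804020100c0801031b36cd8b937274ec392747ceb163dcb81e39c78e71e39c78271e874ef1a35cf8362d4dcbd3b2b46c2d1b8d4b53f2f4ac302040c0020108041030c0800201080420108040020108048040201002010804bc6874ec5cf80201b46ca8549c78020180400201080420106cd8e49ca8540201e49cfca8d8b4020168d474eca45c020178e4a854d8b40201a854d8b478e40201b46c9c78a8540201d8b478e4a85402018040362d1e392a150c0840c020100201040cc0802010020108048040201002013020040c8040020110300c08804002012010080480400201a854b46c9c78020140c020100c080201804010300c0802018040201008040201)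 (Nat.shiftLeft (Nat.add 
    (nat_lit 0xe1930804f3a2d2b1040c51f3b16372e18a4571e3352f987420108e494fca8b4651f3372eac5849c7cf8a8d4b20104ec9d1b31d3b64dc8b468040163d19373a2558f4c58f352fa3529372362d8b46ec98c58f9c78251f9372cb86c58fce8930203f2ad4bc62d18f4a947c3e2993724ec90c08927153f2d1b3f3a2b16372e10804e49cfca80302b46c1030cd8b8e494fcaf4ac03027ce8dcb8947ccb863d2b71e3d1b3b864261dcd8bb864261d8b4662d12010030240c0080472e12d1b8b46987452f158f42f1a8f4ad1b371e3040c53f2a352040cb2619173e3921e3949c79c78030240c03020040c010374ec68d4f8a40103c08010300c08040c51f3d2b1e19398742e198947e2912e1989479173ec9854fc020178e46cd83927c78e92719c7854fc3f2a45cff3a2271e2a152d1b8040fca8153fcf8a51f3173e2f1a1d3b80401d3b2917352fc0803f2a54fccf8a51f3040c52f1d3b2917330204dcbce898f4a1b366cd8864db2610c088040010320109c78e1933a254ac503022010c0800c080302040c40c030200c08e19363d251f30201040c80403020040ce29161d3a352a2510804b1639372a25108049372b1630804a25163d2e1935cf80103d4bc74ec20108d4b4ec9cf8a040c8040030220100201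2010c080040cca851a35d2b1d8b4e19363d251f30c080302dcb8e89458f4040c63d2e193f3a249c7e3921e399c7802010c08804010300c0862d1e392a15351f38a453f2aa854030220108040040cfca80201d8b4e49c63d2e193f3a2040ca8540201b46c9c788a458d4b874e2010020180403020040c0201804010300c083f2a8f4ad1b368d4d3b2173e49c7bc68ce89a153173efca863d23d2b4bc6d4bcc78e61d3173ebc68e193173ec9877ce8362db46ccb8661d33f2ac58fb36268d44dcbe3923d2b947c153f854f73e2e894ce8920104ac5cb864bc663d23d2bd4bc47cefca83e29a153c78e2010ca858b46f2a1173e8947fca8c987e193173e7ce84ac5352f52f158f480401d3b3e29352f8f4a2f1af1a3ac58854f2a1591737ce8854f2a1573e2947c854f251f53f2a45c8a452a15f3a254fc854f251fa1535cf88f4a2f1aa352f4ac46cda3523d2b54fc153f4fca9173e89445cf352f92719874cf8a1f3ab261b864c58f1f3a72e178e452f13d2b8b4654fc2a1545cff3a2a85471e362d10804a15352f1e291080461d3e392163d947ccb862a15cf8a51f3a8544ec97ce83e29e19353f23e29fca88947cb86947c163de3928040251f163d2e198a452f1a71e3ec98d2b147ce64dc1e3978e43a25c58f9372f4ac1a358f4af1a38f4a2a15b362d4bce291153f947c4fca8a452a1551f3fca84fca352fd2b1d8b4e49c71e3271e49c780402d1b3f2a1e39a85453f247ce2917)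 (Nat.shiftLeft 
    (nat_lit 0x8b46261d62d1b8641030c78e46cd854f4ac5ce8910304dcbec98cf8a352f927151f3040c72e1b16361d3040cf1a39173f1a31a354ac558f4302046cd854f49c71e39e3929c7849c7b46c2e19c98762d172e1362d8b4674ec2a15392780401b366cd854fc01039c78173ea854f2a1ce89030278e4fca86cd8e2910c0852f1d3b2854fd2b12f1ad8b445cf3a2564dcd3b24fca46cdc78e201051f358f42e19c78ea153a45cca853a25c58f1a35ac58f1a3c58fce894dcb201051f354fc3f2acf8a46cdec9893721b36dcb87ce80302f4ac2b16864de89492711e399c788e499271ca851a356cd8b163080440c0030220102e1989479874e2918f4a93721f3a78e420100103c080080449c7a2512e19ac58b864d3b2251f45cfc68da153362df4acc78e1937ac5851f3cd8be193362d74ec10300302804008048040173e1a35261de193874ee8943e298a452f1ae39274ec372e2b161f3a40c047ceb16364dc271e91730804d3b2f1a3f3a2153f54fccf8ace8954fc173e53f219372b161f3ac080f3a20c08d2b19372f3a2fca8153f45cfc78ee49c71e339271e3949c771e378e44fca3a25a45c53f2173ece89a854f2a1d3b273e2a352040c8f4a58f452f12f1a271e52f15cf84ec92010874ec68d45cfb1636cd8ca851a35d1b30c08927153f262d1d4bc3f2a8f4a0c08f2a171e3b3622010cf8a4bc6874e89472e19e29198742e1962d1c987b46c03020c0840c0103001039c78a854d8b4030240c010300c081937c987d1b36cd89271040cf2a1d1b3874ef8a4f1a33927e291f1a3040cd3b2e19378e4251fc58f020140c008043020372e49c751f3ac58271e927178e48e4972e13a254ac578e4271e8e4971e39c7801030c08c08010300103c0803020040c)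 (nat_lit 8000))) (nat_lit 8000))) i1)) (nat_lit 0) (nat_lit 330) List.nil) : List ℕ)
    = ?xq9006 → (List ℕ)) ?hq9006; (case hq9006 => (set_option maxRecDepth 1000000 in set_option simprocs false in conv => lhs; reduce; dsimp only)); intro _; exact ?xq9006 : List ℕ)

/-- the vectors of norm 1: code, number of the double coset, number of the element of the stabilizer -/
def NC : List (ℕ × ℕ × ℕ) :=
  (by
  refine (?fq9007 : ((pk61l (fun i1 => (_root_.Prod.mk (pk61d (nat_lit 8) 
    (nat_lit 0xfcf8f4f3f2f1ece8e4e3e2e1dcd8d4d3d2d1cfcecdcbcac9c7c6c5c0bcb8b4b3b2b1aca8a4a3a2a19c98949392918f8e8d8b8a89878685807c78747372716c68646362615c58545352514f4e4d4b4a49474645403f3e3d3b3a39373635302f2e2d2b2a29272625201f1e1d1b1a19171615100c0804030201) i1) (_root_.Prod.mk (pk61d (nat_lit 3) 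
    (nat_lit 0x6deb1b7ac6deb359acd636deb1b7ac6deb359acd636deb1b7ac6deb359acd63d66b358f59acd63d66b358db688) i1) (pk61d (nat_lit 8) 
    (nat_lit 0x246d052121213d81100303034527574040405f5f5f1b1b1b1d1d1d1d46780d0101013e1404151515217d682d2d2d2e2e2e6262621a1a1a1822156c2727272d71434c4c4c236901101010090909040404020202062020200a0a0a121212260f0f0f2a2a2a0707071f0505050808080000000e0f0a00000000) i1)))) (nat_lit 0) (nat_lit 120) List.nil) : List (ℕ × ℕ × ℕ))
    = ?xq9007 → (List (ℕ × ℕ × ℕ))) ?hq9007; (case hq9007 => (set_option maxRecDepth 1000000 in set_option simprocs false in conv => lhs; reduce; dsimp only)); intro _; exact ?xq9007 : List (ℕ × ℕ × ℕ))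

/-- the conjugating elements -/
def XI : List (List ℕ) :=
  (by
  refine (?fq9008 : ((pk61l (fun i1 => (pk61l (fun i2 => (pk61d (nat_lit 9) (Nat.add 
    (nat_lit 0x5479915b13f000000000791f6427300220b0d73291d74d65cbc4667d2b9f05a8700000562a0012c00564db56402f252740000598d864001b800925524000609c6a0bc00472a0d40053389f18c724e8be3e9731270000062a1c60f0174f800000b800e2d34c8a4e0304331056006920d30d11711934a95c26c5e2d408f800ef8e9488a85160b8008426800f2c3418a860001e9ec0051000c46800411345081008003e000006030160005c0000002dc00003793888020007c007a21800746100001dc1f171bc5242302c9347a0107c02000000030000b0002e001c140504f3c85cf0334c8088200160f000180000400000007c3e000b0009c000b04874000b8007616000600098090012e00760023412000000000000000000000000000000000c00000000000000001000000000e00000240000000000000000000000000000008000000e07000000000000000006000000800010000005000001004038180e04000200000000200c000001c08000001c0800000200c00030000800048000008030000000000000000020000000000000000000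040001008080402000080000000000800000000c000000000000000000000480000000200000000301c1005000000000008040400010000400000000a00028000a05028000a090401c1200000000201000000000010001209000001209000000a000080000000000400000000000000380012000000000000002400000001800000002400000380000040000000050000000050001008050481808070001c00000280000000282408040281c0800000140000008000c00000000000000000000048000e070000000090000000050300000000000000060001000000002000000001c00080001c0000000240000048200000000080002010040201000040008020140008000200000000001000000201000000000000000180c00000000000000000000010080200008000200000180006000000000000000000000000000000000402000000000008000000000000000000000000010000000000080000000000000108401e130984026100983c2610098501c130983420100602c1a110802c18031003c260e0980c0611068501c2110030160d0182c180c0183c2203070841c0e080442200000002814138981811078441a0e060841a0d05884060c058341c0e1283c2226138301c220884406100788c4c0d08830200f138341613070301613068904e260000000000000000000000000240704406231383c0600000001e20138904626078402000018884a20018341814000000000000000000000000000130884425128004a14110004a241083c460000000000000000000000000462400000482300000440000000160b00000160b100004000)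 (Nat.shiftLeft 
    (nat_lit 0x51f86e1a000003a630012000008c801100a2a8f054000dcf46aa36800000288c100b84c4545ceaaa0b200d2003a4f11600002809477360027619480000065370c928181e8b496170046c9c0075a922d15052b03d14489740000002951e000a9e09e1235800006a1887071494a80000a7002346c7f00224bcc20e000008c0014c53130024c741a1d870ac9f33800c21b3b002240a23078b2391f82a2266494e800000025832000a876202b9c858e644542bcbe2c42d20e000090019e000543cb03e55ce0b60000000005200048001b001902b37002b400a1870d15c47054d80033510014c1830000b41d0000014000b904008e1a9b8b0a8002589e000ca547c280000024ea4a190bc80361668e009a9021a0a35a4cce001c8280049000003086000014e1d002982ea500000a80021800c546001419c1a00078140a9a171241599854ee121b4c87eaf0f06000910d129041721070aa900d118fe1629914008f00000c084608a8002900000d40086000702c168011c00989691aae000c95a00748d2604c0000014312e998140a3b1f8005652231581e1d92c32000015ca20000000000034801468b2d800008a199d55689a280024000a8287a008e001d11e3a42d44003187142009786dcee650065cb0a4f13436163680212002f9a00000002aa5d2d158753e00158016c1e390559b2c0007689080e050392b1a0016a320041e5506721020a030041001038100c0129a180152126038c2a0000064010101c000003000a400e276800624922108281470b81be1ea1068be1b143fd7e1b000000012003f969287e8017c1a002f64ecc2f50400fc0f0b64cde1b3743ab16e0e64a3f2e8aa48fb7d17196ca31000007b29001f23c28800a04c64b6c062c5e0000600369a2465b0a870240064168012201800001b018683214000000000000dcc20000001f0006d31c3ab00c800b2005da786af76cbda8000003d490412bbd086)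 (nat_lit 8000))) i2)) (Nat.mul (nat_lit 216) i1) (Nat.mul (nat_lit 216) (Nat.succ i1)) List.nil)) (nat_lit 0) (nat_lit 7) List.nil) : List (List ℕ))
    = ?xq9008 → (List (List ℕ))) ?hq9008; (case hq9008 => (set_option maxRecDepth 1000000 in set_option simprocs false in conv => lhs; reduce; dsimp only)); intro _; exact ?xq9008 : List (List ℕ))

/-- the check of one element `m = t s` with conjugating element `x` -/
def chkm (m x m2 m3 : ℕ) (m6 : ℕ) (m7 : ℕ) : Bool :=
  Nat.beq (cmp x m) (cmp m7 x) && (Nat.beq (cmp m6 m6) one || (Nat.beq (cmp m7 m2) one || Nat.beq (cmp m3 m2) one))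

/-- the check of one element `m` with conjugating element `x` -/
def chk (m x : ℕ) : Bool :=
  chkm m x (cmp m m) (cmp (cmp m m) m) (cmp (cmp (cmp m m) m) (cmp (cmp m m) m))
    (cmp (cmp (cmp (cmp m m) m) (cmp (cmp m m) m)) m)

/-- the check of one double coset -/
def chkT (t : ℕ) : List ℕ → List ℕ → Bool
  | s :: S, i :: I => chk (cmp t s) (XC.getD i one) && chkT t S I
  | [], _ => true
  | _, _ => false

end Cfsg.Agent.H180.U42
end

-- part: H180/U42Code
section
/-!
# `U₄(2)`: codes of elements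

`IsCode g n`: the element `g` of `SU₄(2)` has the code `n`.
-/

set_option autoImplicit false
set_option maxRecDepth 100000

namespace Cfsg.Agent.H180.U42

open Matrix Cfsg.Agent.Lib.FieldFour Cfsg.Agent.LieClassical Cfsg.Agent.H674.SUTools

/-! ### arithmetic of codes -/

theorem bit_xor_mul {a b : ℕ} (ha : a < 2) (hb : b < 2) (n : ℕ) : (a ^^^ b) * n = (a * n) ^^^ (b * n) := by
  have h1 : a = 0 ∨ a = 1 := by omega
  have h2 : b = 0 ∨ b = 1 := by omega
  rcases h1 with rfl | rfl <;> rcases h2 with rfl | rfl <;> simp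

theorem ap_def (n c : ℕ) : ap n c =
    (c / 2 ^ 0 % 2 ^ 1 * (n / 256 ^ 0 % 256)) ^^^ ((c / 2 ^ 1 % 2 ^ 1 * (n / 256 ^ 1 % 256)) ^^^
    ((c / 2 ^ 2 % 2 ^ 1 * (n / 256 ^ 2 % 256)) ^^^ ((c / 2 ^ 3 % 2 ^ 1 * (n / 256 ^ 3 % 256)) ^^^
    ((c / 2 ^ 4 % 2 ^ 1 * (n / 256 ^ 4 % 256)) ^^^ ((c / 2 ^ 5 % 2 ^ 1 * (n / 256 ^ 5 % 256)) ^^^
    ((c / 2 ^ 6 % 2 ^ 1 * (n / 256 ^ 6 % 256)) ^^^ (c / 2 ^ 7 % 2 ^ 1 * (n / 256 ^ 7 % 256)))))))) := by
  simp only [pow_zero, Nat.div_one]
  rfl

theorem bit_xor (x y i : ℕ) : (x ^^^ y) / 2 ^ i % 2 ^ 1 = (x / 2 ^ i % 2 ^ 1) ^^^ (y / 2 ^ i % 2 ^ 1) := by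
  rw [Nat.xor_div_two_pow, Nat.xor_mod_two_pow]

theorem bit_lt (x i : ℕ) : x / 2 ^ i % 2 ^ 1 < 2 := Nat.mod_lt _ (by norm_num)

theorem ap_xor (n x y : ℕ) : ap n (x ^^^ y) = ap n x ^^^ ap n y := by
  rw [ap_def, ap_def, ap_def]
  simp only [bit_xor, bit_xor_mul (bit_lt _ _) (bit_lt _ _)]
  ac_rfl

theorem ap_zero (n : ℕ) : ap n 0 = 0 := by
  rw [ap_def]
  simp

theorem ap_mul_bit {b : ℕ} (hb : b < 2) (n x : ℕ) : ap n (b * x) = b * ap n x := by
  have h1 : b = 0 ∨ b = 1 := by omega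
  rcases h1 with rfl | rfl
  · rw [zero_mul, zero_mul, ap_zero]
  · rw [one_mul, one_mul]

theorem ap_lt (n c : ℕ) : ap n c < 256 := by
  have h : ∀ i j : ℕ, c / 2 ^ i % 2 ^ 1 * (n / 256 ^ j % 256) < 2 ^ 8 := by
    intro i j
    have h1 := bit_lt c i
    have h2 : n / 256 ^ j % 256 < 256 := Nat.mod_lt _ (by norm_num)
    have h3 : c / 2 ^ i % 2 ^ 1 = 0 ∨ c / 2 ^ i % 2 ^ 1 = 1 := by omega
    rcases h3 with h3 | h3 <;> rw [h3] <;> omega
  rw [ap_def]
  exact Nat.xor_lt_two_pow (h _ _) (Nat.xor_lt_two_pow (h _ _) (Nat.xor_lt_two_pow (h _ _)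
    (Nat.xor_lt_two_pow (h _ _) (Nat.xor_lt_two_pow (h _ _) (Nat.xor_lt_two_pow (h _ _)
    (Nat.xor_lt_two_pow (h _ _) (h _ _)))))))

theorem cmp_def (n m : ℕ) : cmp n m =
    ap n (m / 256 ^ 0 % 256) + 256 * (ap n (m / 256 ^ 1 % 256) + 256 * (ap n (m / 256 ^ 2 % 256) + 256 *
    (ap n (m / 256 ^ 3 % 256) + 256 * (ap n (m / 256 ^ 4 % 256) + 256 * (ap n (m / 256 ^ 5 % 256) + 256 *
    (ap n (m / 256 ^ 6 % 256) + 256 * ap n (m / 256 ^ 7 % 256))))))) := by
  simp only [pow_zero, Nat.div_one]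
  rfl

theorem ap_cmp (n m c : ℕ) : ap (cmp n m) c = ap n (ap m c) := by
  have h : ∀ {a0 a1 a2 a3 a4 a5 a6 a7 N : ℕ}, a0 < 256 → a1 < 256 → a2 < 256 → a3 < 256 → a4 < 256 → a5 < 256 →
      a6 < 256 → a7 < 256 → N = a0 + 256 * (a1 + 256 * (a2 + 256 * (a3 + 256 * (a4 + 256 * (a5 + 256 *
        (a6 + 256 * a7)))))) →
      N / 256 ^ 0 % 256 = a0 ∧ N / 256 ^ 1 % 256 = a1 ∧ N / 256 ^ 2 % 256 = a2 ∧ N / 256 ^ 3 % 256 = a3 ∧
      N / 256 ^ 4 % 256 = a4 ∧ N / 256 ^ 5 % 256 = a5 ∧ N / 256 ^ 6 % 256 = a6 ∧ N / 256 ^ 7 % 256 = a7 := by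
    intro a0 a1 a2 a3 a4 a5 a6 a7 N h0 h1 h2 h3 h4 h5 h6 h7 hN
    norm_num
    omega
  obtain ⟨h0, h1, h2, h3, h4, h5, h6, h7⟩ := h (ap_lt n _) (ap_lt n _) (ap_lt n _) (ap_lt n _) (ap_lt n _)
    (ap_lt n _) (ap_lt n _) (ap_lt n _) (cmp_def n m)
  rw [ap_def (cmp n m) c, h0, h1, h2, h3, h4, h5, h6, h7, ap_def m c]
  simp only [ap_xor, ap_mul_bit (bit_lt _ _)]

/-! ### codes of vectors -/

/-- code of a scalar -/
def c4 : F4 → ℕ
  | .o => 0
  | .i => 1
  | .w => 2
  | .v => 3

/-- code of a vector -/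
def vc (v : Fin 4 → F4) : ℕ := c4 (v 0) + 4 * c4 (v 1) + 16 * c4 (v 2) + 64 * c4 (v 3)

theorem c4_lt (a : F4) : c4 a < 4 := by cases a <;> decide

theorem c4_inj {a b : F4} (h : c4 a = c4 b) : a = b := by
  revert a b; decide

theorem vc_inj : Function.Injective vc := by
  intro u v h
  unfold vc at h
  have := c4_lt (u 0)
  have := c4_lt (u 1)
  have := c4_lt (u 2)
  have := c4_lt (u 3)
  have := c4_lt (v 0)
  have := c4_lt (v 1)
  have := c4_lt (v 2)
  have := c4_lt (v 3)
  funext i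
  fin_cases i
  · exact c4_inj (by show c4 (u 0) = c4 (v 0); omega)
  · exact c4_inj (by show c4 (u 1) = c4 (v 1); omega)
  · exact c4_inj (by show c4 (u 2) = c4 (v 2); omega)
  · exact c4_inj (by show c4 (u 3) = c4 (v 3); omega)

/-! ### the group -/

/-- `SU₄(2)` -/
abbrev GG := Cfsg.SU 4 F4 2

theorem hF4 : Fintype.card F4 = 2 ^ 2 := rfl

/-- the action on vectors -/
def act (g : GG) (v : Fin 4 → F4) : Fin 4 → F4 := cm g *ᵥ v

theorem act_mul (g h : GG) (v : Fin 4 → F4) : act (g * h) v = act g (act h v) := by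
  unfold act
  rw [map_mul, Matrix.mulVec_mulVec]

theorem act_one (v : Fin 4 → F4) : act 1 v = v := by
  unfold act
  rw [map_one, Matrix.one_mulVec]

theorem act_ext {g h : GG} (H : ∀ v, act g v = act h v) : g = h := by
  apply cm_injective
  exact Matrix.mulVec_injective (funext H)

/-- the code of an element -/
def IsCode (g : GG) (n : ℕ) : Prop := ∀ v, vc (act g v) = ap n (vc v)

theorem IsCode.mul {g h : GG} {n m : ℕ} (hg : IsCode g n) (hh : IsCode h m) : IsCode (g * h) (cmp n m) := by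
  intro v
  rw [act_mul, hg, hh, ap_cmp]

theorem IsCode.eq {g h : GG} {n m : ℕ} (hg : IsCode g n) (hh : IsCode h m) (e : n = m) : g = h := by
  subst e
  apply act_ext
  intro v
  apply vc_inj
  rw [hg, hh]

theorem exists_vec : ∀ i < 8, ∃ a b c d : F4, vc ![a, b, c, d] = 2 ^ i := by decide

theorem IsCode.cmp_one {g : GG} {n m : ℕ} (hg : IsCode g n) (hh : IsCode g m) : cmp n one = cmp m one := by
  have key : ∀ i < 8, ap n (2 ^ i) = ap m (2 ^ i) := by
    intro i hi
    obtain ⟨a, b, c, d, h⟩ := exists_vec i hi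
    rw [← h, ← hg, ← hh]
  have b0 : one / 256 ^ 0 % 256 = 2 ^ 0 := by decide
  have b1 : one / 256 ^ 1 % 256 = 2 ^ 1 := by decide
  have b2 : one / 256 ^ 2 % 256 = 2 ^ 2 := by decide
  have b3 : one / 256 ^ 3 % 256 = 2 ^ 3 := by decide
  have b4 : one / 256 ^ 4 % 256 = 2 ^ 4 := by decide
  have b5 : one / 256 ^ 5 % 256 = 2 ^ 5 := by decide
  have b6 : one / 256 ^ 6 % 256 = 2 ^ 6 := by decide
  have b7 : one / 256 ^ 7 % 256 = 2 ^ 7 := by decide
  rw [cmp_def, cmp_def, b0, b1, b2, b3, b4, b5, b6, b7, key 0 (by norm_num), key 1 (by norm_num), key 2 (by norm_num),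
    key 3 (by norm_num), key 4 (by norm_num), key 5 (by norm_num), key 6 (by norm_num), key 7 (by norm_num)]

/-! ### generators -/

def M0 : Matrix (Fin 4) (Fin 4) F4 := (beta% delta% lq26ab190999 fun _ _ _ _ _ _ i j _ _ _ p q _ _ t u =>
 (@_root_.Matrix.of (Fin 4) (Fin 4) _ (i (i t<|i j<|i j<|i j<|p)
 (i (i j<|i u<|i j<|i j<|p)
 (i (i j<|i j<|i q<|i j<|p)
 (i (i j<|i j<|i j<|i q<|p)
 p))))))
def M1 : Matrix (Fin 4) (Fin 4) F4 := (beta% delta% lq26ab190999 fun _ _ _ _ _ _ i j _ _ _ p q _ _ _ _ =>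
 (@_root_.Matrix.of (Fin 4) (Fin 4) _ (i (i j<|i j<|i j<|i q<|p)
 (i (i q<|i j<|i j<|i j<|p)
 (i (i j<|i q<|i j<|i j<|p)
 (i (i j<|i j<|i q<|i j<|p)
 p))))))
def M2 : Matrix (Fin 4) (Fin 4) F4 := (beta% delta% lq26ab190999 fun _ _ _ _ _ _ i j _ _ _ p q _ _ t u =>
 (@_root_.Matrix.of (Fin 4) (Fin 4) _ (i (i q<|i j<|i j<|i j<|p)
 (i (i j<|i q<|i q<|i q<|p)
 (i (i j<|i q<|i t<|i u<|p)
 (i (i j<|i q<|i u<|i t<|p)
 p))))))

theorem det0 : M0.det = 1 := by (simp only [detL_eq_af70c]; decide +kernel)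
theorem det1 : M1.det = 1 := by (simp only [detL_eq_af70c]; decide +kernel)
theorem det2 : M2.det = 1 := by (simp only [detL_eq_af70c]; decide +kernel)
theorem isom0 : M0ᵀ * M0.map (fun x => x ^ 2) = 1 := by decide +kernel
theorem isom1 : M1ᵀ * M1.map (fun x => x ^ 2) = 1 := by decide +kernel
theorem isom2 : M2ᵀ * M2.map (fun x => x ^ 2) = 1 := by decide +kernel

/-- the generators of `SU₄(2)` -/
def genG : ℕ → GG
  | 0 => mkSU hF4 M0 det0 isom0
  | 1 => mkSU hF4 M1 det1 isom1
  | _ => mkSU hF4 M2 det2 isom2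

theorem code0 : ∀ a b c d : F4, vc (M0 *ᵥ ![a, b, c, d]) = ap (gen 0) (vc ![a, b, c, d]) := by decide +kernel
theorem code1 : ∀ a b c d : F4, vc (M1 *ᵥ ![a, b, c, d]) = ap (gen 1) (vc ![a, b, c, d]) := by decide +kernel
theorem code2 : ∀ a b c d : F4, vc (M2 *ᵥ ![a, b, c, d]) = ap (gen 2) (vc ![a, b, c, d]) := by decide +kernel
theorem codeI : ∀ a b c d : F4, vc ![a, b, c, d] = ap one (vc ![a, b, c, d]) := by decide +kernel

theorem vec_eta (v : Fin 4 → F4) : v = ![v 0, v 1, v 2, v 3] := by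
  funext i
  fin_cases i <;> rfl

theorem isCode_one : IsCode 1 one := by
  intro v
  rw [act_one, vec_eta v]
  exact codeI _ _ _ _

theorem isCode_gen (i : ℕ) : IsCode (genG i) (gen i) := by
  intro v
  rw [vec_eta v]
  match i with
  | 0 => exact code0 _ _ _ _
  | 1 => exact code1 _ _ _ _
  | (k + 2) => exact code2 _ _ _ _

/-- the element of a word -/
def evG : List ℕ → GG
  | [] => 1
  | i :: w => genG i * evG w

theorem isCode_ev : ∀ w : List ℕ, IsCode (evG w) (ev w)
  | [] => isCode_one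
  | i :: w => (isCode_gen i).mul (isCode_ev w)

theorem card_GG : Nat.card GG = 25920 := by
  have h := Cfsg.Agent.S0278.result hF4 4 (by norm_num)
  have h2 : (2 + 1) * Nat.card GG = 3 * 25920 := by
    rw [h]; decide
  omega

end Cfsg.Agent.H180.U42
end

-- part: H180/U42Check
section
/-!
# `U₄(2)`: the kernel checks
-/

set_option autoImplicit false
set_option maxRecDepth 100000

namespace Cfsg.Agent.H180.U42

theorem SW_SC : SW.map ev = SC := by decide +kernel
theorem TW_TC : TW.map ev = TC := by decide +kernel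
theorem XW_XC : XW.map ev = XC := by decide +kernel

private theorem _root_.Cfsg.Agent.KO219f31b.e4.{ku, kv} {α : Type kv} {M : List α → Sort ku} (φ : ∀ l, M l) {z : M List.nil} {s : ∀ a l, M l → M (List.cons a l)} (h0 : φ List.nil = z) (hs : ∀ a l, φ (List.cons a l) = s a l (φ l)) (l : List α) : φ l = @List.rec α M z s l := List.rec h0 (fun a l ih => (hs a l).trans (congrArg (s a l) ih)) l
private noncomputable def _root_.Cfsg.Agent.KO219f31b.k43 : (by first | exact type_of% @Cfsg.Agent.H180.U42.ap | exact Unit : Sort _) := by first | (refine @Subtype.val _ (fun g => @Cfsg.Agent.H180.U42.ap = @g) (@Subtype.mk _ _ (@(fun x0 x1 => @Nat.xor (@Nat.mul (@Nat.mod @x1 (nat_lit 2)) (@Nat.mod @x0 (nat_lit 256))) (@Nat.xor (@Nat.mul (@Nat.mod (@Nat.div @x1 (nat_lit 2)) (nat_lit 2)) (@Nat.mod (@Nat.div @x0 (nat_lit 256)) (nat_lit 256))) (@Nat.xor (@Nat.mul (@Nat.mod (@Nat.div @x1 (nat_lit 4)) (nat_lit 2)) (@Nat.mod (@Nat.div @x0 (nat_lit 65536)) (nat_lit 256))) (@Nat.xor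 (@Nat.mul (@Nat.mod (@Nat.div @x1 (nat_lit 8)) (nat_lit 2)) (@Nat.mod (@Nat.div @x0 (nat_lit 16777216)) (nat_lit 256))) (@Nat.xor (@Nat.mul (@Nat.mod (@Nat.div @x1 (nat_lit 16)) (nat_lit 2)) (@Nat.mod (@Nat.div @x0 (nat_lit 4294967296)) (nat_lit 256))) (@Nat.xor (@Nat.mul (@Nat.mod (@Nat.div @x1 (nat_lit 32)) (nat_lit 2)) (@Nat.mod (@Nat.div @x0 (nat_lit 1099511627776)) (nat_lit 256))) (@Nat.xor (@Nat.mul (@Nat.mod (@Nat.div @x1 (nat_lit 64)) (nat_lit 2)) (@Nat.mod (@Nat.div @x0 (nat_lit 281474976710656)) (nat_lit 256))) (@Nat.mul (@Nat.mod (@Nat.div @x1 (nat_lit 128)) (nat_lit 2)) (@Nat.mod (@Nat.div @x0 (nat_lit 72057594037927936)) (nat_lit 256))))))))))) ?_); rfl') | exact @Cfsg.Agent.H180.U42.ap | exact ()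
private theorem _root_.Cfsg.Agent.KO219f31b.e43 : (by first | exact @Cfsg.Agent.H180.U42.ap = @_root_.Cfsg.Agent.KO219f31b.k43 | exact True : Prop) := by first | (delta _root_.Cfsg.Agent.KO219f31b.k43; exact @Subtype.property _ (fun g => @Cfsg.Agent.H180.U42.ap = @g) _) | rfl | trivial
private noncomputable def _root_.Cfsg.Agent.KO219f31b.k48 : (by first | exact type_of% @Cfsg.Agent.H180.U42.cmp | exact Unit : Sort _) := by first | (refine @Subtype.val _ (fun g => @Cfsg.Agent.H180.U42.cmp = @g) (@Subtype.mk _ _ (@(fun x0 x1 => @Nat.add (@Cfsg.Agent.KO219f31b.k43 @x0 (@Nat.mod @x1 (nat_lit 256))) (@Nat.mul (nat_lit 256) (@Nat.add (@Cfsg.Agent.KO219f31b.k43 @x0 (@Nat.mod (@Nat.div @x1 (nat_lit 256)) (nat_lit 256))) (@Nat.mul (nat_lit 256) (@Nat.add (@Cfsg.Agent.KO219f31b.k43 @x0 (@Nat.mod (@Nat.div @x1 (nat_lit 65536)) (nat_lit 256))) (@Nat.mul (nat_lit 256) (@Nat.add (@Cfsg.Agent.KO219f31b.k43 @x0 (@Nat.mod (@Nat.div @x1 (nat_lit 16777216)) (nat_lit 256))) (@Nat.mul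 (nat_lit 256) (@Nat.add (@Cfsg.Agent.KO219f31b.k43 @x0 (@Nat.mod (@Nat.div @x1 (nat_lit 4294967296)) (nat_lit 256))) (@Nat.mul (nat_lit 256) (@Nat.add (@Cfsg.Agent.KO219f31b.k43 @x0 (@Nat.mod (@Nat.div @x1 (nat_lit 1099511627776)) (nat_lit 256))) (@Nat.mul (nat_lit 256) (@Nat.add (@Cfsg.Agent.KO219f31b.k43 @x0 (@Nat.mod (@Nat.div @x1 (nat_lit 281474976710656)) (nat_lit 256))) (@Nat.mul (nat_lit 256) (@Cfsg.Agent.KO219f31b.k43 @x0 (@Nat.mod (@Nat.div @x1 (nat_lit 72057594037927936)) (nat_lit 256)))))))))))))))))) ?_); rewrite [← Cfsg.Agent.KO219f31b.e43]; (try delta Cfsg.Agent.H180.U42.cmp); (try generalize @Cfsg.Agent.H180.U42.ap = g0); rfl') | exact @Cfsg.Agent.H180.U42.cmp | exact ()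
private theorem _root_.Cfsg.Agent.KO219f31b.e48 : (by first | exact @Cfsg.Agent.H180.U42.cmp = @_root_.Cfsg.Agent.KO219f31b.k48 | exact True : Prop) := by first | (delta _root_.Cfsg.Agent.KO219f31b.k48; exact @Subtype.property _ (fun g => @Cfsg.Agent.H180.U42.cmp = @g) _) | rfl | trivial
private noncomputable def _root_.Cfsg.Agent.KO219f31b.k50 : (by first | exact type_of% @Cfsg.Agent.H180.U42.chkm | exact Unit : Sort _) := by first | (refine @Subtype.val _ (fun g => @Cfsg.Agent.H180.U42.chkm = @g) (@Subtype.mk _ _ (@(fun x0 x1 x2 x3 x4 x5 => @Bool.rec.{1} @(fun x6 => @Bool) @Bool.false (@Bool.rec.{1} @(fun x6 => @Bool) (@Bool.rec.{1} @(fun x6 => @Bool) (@Nat.beq (@Cfsg.Agent.KO219f31b.k48 @x3 @x2) @Cfsg.Agent.H180.U42.one) @Bool.true (@Nat.beq (@Cfsg.Agent.KO219f31b.k48 @x5 @x2) @Cfsg.Agent.H180.U42.one)) @Bool.true (@Nat.beq (@Cfsg.Agent.KO219f31b.k48 @x4 @x4) @Cfsg.Agent.H180.U42.one)) (@Nat.beq (@Cfsg.Agent.KO219f31b.k48 @x1 @x0) (@Cfsg.Agent.KO219f31b.k48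 @x5 @x1)))) ?_); rewrite [← Cfsg.Agent.KO219f31b.e48]; (try delta Cfsg.Agent.H180.U42.chkm); (try generalize @Cfsg.Agent.H180.U42.cmp = g0); (try generalize @Cfsg.Agent.H180.U42.one = g1); rfl') | exact @Cfsg.Agent.H180.U42.chkm | exact ()
private theorem _root_.Cfsg.Agent.KO219f31b.e50 : (by first | exact @Cfsg.Agent.H180.U42.chkm = @_root_.Cfsg.Agent.KO219f31b.k50 | exact True : Prop) := by first | (delta _root_.Cfsg.Agent.KO219f31b.k50; exact @Subtype.property _ (fun g => @Cfsg.Agent.H180.U42.chkm = @g) _) | rfl | trivial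
private noncomputable def _root_.Cfsg.Agent.KO219f31b.k51 : (by first | exact type_of% @Cfsg.Agent.H180.U42.chk | exact Unit : Sort _) := by first | (refine @Subtype.val _ (fun g => @Cfsg.Agent.H180.U42.chk = @g) (@Subtype.mk _ _ (@(fun x0 x1 => @Cfsg.Agent.KO219f31b.k50 @x0 @x1 (@Cfsg.Agent.KO219f31b.k48 @x0 @x0) (@Cfsg.Agent.KO219f31b.k48 (@Cfsg.Agent.KO219f31b.k48 @x0 @x0) @x0) (@Cfsg.Agent.KO219f31b.k48 (@Cfsg.Agent.KO219f31b.k48 (@Cfsg.Agent.KO219f31b.k48 @x0 @x0) @x0) (@Cfsg.Agent.KO219f31b.k48 (@Cfsg.Agent.KO219f31b.k48 @x0 @x0) @x0)) (@Cfsg.Agent.KO219f31b.k48 (@Cfsg.Agent.KO219f31b.k48 (@Cfsg.Agent.KO219f31b.k48 (@Cfsg.Agent.KO219f31b.k48 @x0 @x0) @x0) (@Cfsg.Agent.KO219f31b.k48 (@Cfsg.Agent.KO219f31b.k48 @x0 @x0) @x0)) @x0))) ?_); rewrite [← Cfsg.Agent.KO219f31b.e48, ← Cfsg.Agent.KO219f31b.e50]; (try delta Cfsg.Agent.H180.U42.chk); (try generalize @Cfsg.Agent.H180.U42.chkm = g0); (try generalize @Cfsg.Agent.H180.U42.cmp = g1); rfl') | exact @Cfsg.Agent.H180.U42.chk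 | exact ()
private theorem _root_.Cfsg.Agent.KO219f31b.e51 : (by first | exact @Cfsg.Agent.H180.U42.chk = @_root_.Cfsg.Agent.KO219f31b.k51 | exact True : Prop) := by first | (delta _root_.Cfsg.Agent.KO219f31b.k51; exact @Subtype.property _ (fun g => @Cfsg.Agent.H180.U42.chk = @g) _) | rfl | trivial
private noncomputable def _root_.Cfsg.Agent.KO219f31b.k53.{ku0} : type_of% @List.get?Internal.{ku0} := @(fun x0 x1 x2 => @List.rec.{(ku0+1), ku0} @x0 @(fun x3 => ℕ → @Option.{ku0} @x0) @(fun x3 => @Option.none.{ku0} _) @(fun x3 x4 x5 x6 => @Nat.rec.{(ku0+1)} @(fun x7 => @Option.{ku0} @x0) (@Option.some.{ku0} _ @x3) @(fun x7 x8 => @x5 @x7) @x6) @x1 @x2)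
private theorem _root_.Cfsg.Agent.KO219f31b.e53.{ku0} : @List.get?Internal.{ku0} = @_root_.Cfsg.Agent.KO219f31b.k53.{ku0} := by delta _root_.Cfsg.Agent.KO219f31b.k53; funext a0 a1 a2; refine (congrFun (_root_.Cfsg.Agent.KO219f31b.e4 (fun a1 a2 => @List.get?Internal.{ku0} a0 a1 a2) ?_ (fun c0 c1 => ?_) a1) a2 :) <;> [(funext b0; (rfl')); (funext b0; (cases b0 with | @zero  => (rfl') | @succ b0_0 => (rfl')))]
private noncomputable def _root_.Cfsg.Agent.KO219f31b.k55 : (by first | exact type_of% @Cfsg.Agent.H180.U42.chkT | exact Unit : Sort _) := by first | (refine @Subtype.val _ (fun g => @Cfsg.Agent.H180.U42.chkT = @g) (@Subtype.mk _ _ (@(fun x0 x1 x2 => @List.rec.{1, 0} ℕ @(fun x3 => (@List.{0} ℕ) → @Bool) @(fun x3 => @Bool.true) @(fun x3 x4 x5 x6 => @List.rec.{1, 0} ℕ @(fun x7 => ((@Nat.hasNotBit (nat_lit 2) (@List.ctorIdx.{0} _ @x7)) → @Bool) → @Bool) @(fun x7 => @x7 (@Nat.ne_of_beq_eq_false _ _ (@Eq.refl.{1} _ @Bool.false))) @(fun x7 x8 x9 x10 => @Bool.rec.{1}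 @(fun x11 => @Bool) @Bool.false (@x5 @x8) (@Cfsg.Agent.KO219f31b.k51 (@Cfsg.Agent.KO219f31b.k48 @x0 @x3) (@Option.rec.{1, 0} ℕ @(fun x11 => ℕ) @Cfsg.Agent.H180.U42.one @(fun x11 => @x11) (@Cfsg.Agent.KO219f31b.k53.{0} _ @Cfsg.Agent.H180.U42.XC @x7)))) @x6 @(fun x7 => @Bool.false)) @x1 @x2)) ?_); rewrite [← Cfsg.Agent.KO219f31b.e53.{0}, ← Cfsg.Agent.KO219f31b.e48, ← Cfsg.Agent.KO219f31b.e51]; funext a0 a1 a2; refine (congrFun (_root_.Cfsg.Agent.KO219f31b.e4 (fun a1 a2 => @Cfsg.Agent.H180.U42.chkT a0 a1 a2) ?_ (fun c0 c1 => ?_) a1) a2 :) <;> [(funext b0; ((try delta Cfsg.Agent.H180.U42.chkT Cfsg.Agent.H180.U42.chkT._f); (try generalize @Cfsg.Agent.H180.U42.chk = g0); (try generalize @Cfsg.Agent.H180.U42.cmp = g1); (try generalize @Cfsg.Agent.H180.U42.one = g2); (try generalize @Cfsg.Agent.H180.U42.XC = g3); rfl')); (funext b0; (cases b0 with | @nil  => ((try delta Cfsg.Agent.H180.U42.chkT Cfsg.Agent.H180.U42.chkT._f); (try generalize @Cfsg.Agent.H180.U42.chk =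 g0); (try generalize @Cfsg.Agent.H180.U42.cmp = g1); (try generalize @Cfsg.Agent.H180.U42.one = g2); (try generalize @Cfsg.Agent.H180.U42.XC = g3); rfl') | @cons b0_0 b0_1 => ((try delta Cfsg.Agent.H180.U42.chkT Cfsg.Agent.H180.U42.chkT._f); (try generalize @Cfsg.Agent.H180.U42.chk = g0); (try generalize @Cfsg.Agent.H180.U42.cmp = g1); (try generalize @Cfsg.Agent.H180.U42.one = g2); (try generalize @Cfsg.Agent.H180.U42.XC = g3); rfl')))]) | exact @Cfsg.Agent.H180.U42.chkT | exact ()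
private theorem _root_.Cfsg.Agent.KO219f31b.e55 : (by first | exact @Cfsg.Agent.H180.U42.chkT = @_root_.Cfsg.Agent.KO219f31b.k55 | exact True : Prop) := by first | (delta _root_.Cfsg.Agent.KO219f31b.k55; exact @Subtype.property _ (fun g => @Cfsg.Agent.H180.U42.chkT = @g) _) | rfl | trivial
private noncomputable def _root_.Cfsg.Agent.KO219f31b.k56.{ku0} : type_of% @List.getD.{ku0} := @(fun x0 x1 x2 x3 => @Option.rec.{(ku0+1), ku0} @x0 @(fun x4 => @x0) @x3 @(fun x4 => @x4) (@Cfsg.Agent.KO219f31b.k53.{ku0} _ @x1 @x2))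
private theorem _root_.Cfsg.Agent.KO219f31b.e56.{ku0} : @List.getD.{ku0} = @_root_.Cfsg.Agent.KO219f31b.k56.{ku0} := by delta _root_.Cfsg.Agent.KO219f31b.k56; rewrite [← Cfsg.Agent.KO219f31b.e53.{ku0}]; rfl'

theorem chk0 : chkT (TC.getD 0 one) SC (XI.getD 0 []) = true := by (first | (rewrite [Cfsg.Agent.KO219f31b.e55, Cfsg.Agent.KO219f31b.e56.{0}]; decide +kernel) | decide +kernel)
theorem chk1 : chkT (TC.getD 1 one) SC (XI.getD 1 []) = true := by (first | (rewrite [Cfsg.Agent.KO219f31b.e55, Cfsg.Agent.KO219f31b.e56.{0}]; decide +kernel) | decide +kernel)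
theorem chk2 : chkT (TC.getD 2 one) SC (XI.getD 2 []) = true := by (first | (rewrite [Cfsg.Agent.KO219f31b.e55, Cfsg.Agent.KO219f31b.e56.{0}]; decide +kernel) | decide +kernel)
theorem chk3 : chkT (TC.getD 3 one) SC (XI.getD 3 []) = true := by (first | (rewrite [Cfsg.Agent.KO219f31b.e55, Cfsg.Agent.KO219f31b.e56.{0}]; decide +kernel) | decide +kernel)
theorem chk4 : chkT (TC.getD 4 one) SC (XI.getD 4 []) = true := by (first | (rewrite [Cfsg.Agent.KO219f31b.e55, Cfsg.Agent.KO219f31b.e56.{0}]; decide +kernel) | decide +kernel)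
theorem chk5 : chkT (TC.getD 5 one) SC (XI.getD 5 []) = true := by (first | (rewrite [Cfsg.Agent.KO219f31b.e55, Cfsg.Agent.KO219f31b.e56.{0}]; decide +kernel) | decide +kernel)
theorem chk6 : chkT (TC.getD 6 one) SC (XI.getD 6 []) = true := by (first | (rewrite [Cfsg.Agent.KO219f31b.e55, Cfsg.Agent.KO219f31b.e56.{0}]; decide +kernel) | decide +kernel)

/-- the elements of the stabilizer fix `e₁` -/
theorem SC_fix : (SC.all fun s => Nat.beq (ap s 1) 1) = true := by decide +kernel

/-- the codes are canonical -/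
theorem SC_canon : (SC.all fun s => Nat.beq (cmp s one) s) = true := by decide +kernel

private noncomputable def _root_.Cfsg.Agent.KO219f31b.k0 : type_of% @Decidable.decide := @(fun x0 x1 => @Decidable.rec.{1} _ @(fun x2 => @Bool) @(fun x2 => @Bool.false) @(fun x2 => @Bool.true) @x1)
private theorem _root_.Cfsg.Agent.KO219f31b.e0 : @Decidable.decide = @_root_.Cfsg.Agent.KO219f31b.k0 := by delta _root_.Cfsg.Agent.KO219f31b.k0; rfl'
private noncomputable def _root_.Cfsg.Agent.KO219f31b.k14 : type_of% @Nat.decEq := @(fun x0 x1 => @Bool.rec.{1} @(fun x2 => (@Eq.{1} _ (@Nat.beq @x0 @x1) @x2) → @Decidable (@Eq.{1} _ @x0 @x1)) @(fun x2 => @Decidable.isFalse _ (@Nat.ne_of_beq_eq_false _ _ @x2)) @(fun x2 => @Decidable.isTrue _ (@Nat.eq_of_beq_eq_true _ _ @x2)) (@Nat.beq @x0 @x1) (@Eq.refl.{1} _ (@Nat.beq @x0 @x1)))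
private theorem _root_.Cfsg.Agent.KO219f31b.e14 : @Nat.decEq = @_root_.Cfsg.Agent.KO219f31b.k14 := by delta _root_.Cfsg.Agent.KO219f31b.k14; rfl'
private noncomputable def _root_.Cfsg.Agent.KO219f31b.k15 : type_of% @instDecidableEqNat := @Cfsg.Agent.KO219f31b.k14
private theorem _root_.Cfsg.Agent.KO219f31b.e15 : @instDecidableEqNat = @_root_.Cfsg.Agent.KO219f31b.k15 := by delta _root_.Cfsg.Agent.KO219f31b.k15; rewrite [← Cfsg.Agent.KO219f31b.e14]; rfl'
private noncomputable def _root_.Cfsg.Agent.KO219f31b.k25.{ku0} : type_of% @List.decidableBAll.{ku0} := @(fun x0 x1 x2 x3 => @List.rec.{1, ku0} @x0 @(fun x4 => @Decidable ((x5 : @x0) → (@Membership.mem.{ku0, ku0} _ _ _ @x4 @x5) → @x1 @x5)) (@Decidable.isTrue _ (@List.decidableBAll._proof_1.{ku0} _ @x1)) @(fun x4 x5 x6 => @Decidable.rec.{1} _ @(fun x7 => @Decidable ((x8 : @x0) → (@Membership.mem.{ku0, ku0} _ _ _ (@x4 :: @x5) @x8) → @x1 @x8)) @(fun x7 => @Decidable.isFalse _ (@List.decidableBAll._proof_4.{ku0} _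 @x1 @x4 @x5 @x7)) @(fun x7 => @Decidable.rec.{1} _ @(fun x8 => @Decidable ((x9 : @x0) → (@Membership.mem.{ku0, ku0} _ _ _ (@x4 :: @x5) @x9) → @x1 @x9)) @(fun x8 => @Decidable.isFalse _ (@List.decidableBAll._proof_3.{ku0} _ @x1 @x4 @x5 @x8)) @(fun x8 => @Decidable.isTrue _ (@List.decidableBAll._proof_2.{ku0} _ @x1 @x4 @x5 @x7 @x8)) @x6) (@x2 @x4)) @x3)
private theorem _root_.Cfsg.Agent.KO219f31b.e25.{ku0} : @List.decidableBAll.{ku0} = @_root_.Cfsg.Agent.KO219f31b.k25.{ku0} := by delta _root_.Cfsg.Agent.KO219f31b.k25; funext a0 a1 a2 a3; refine (_root_.Cfsg.Agent.KO219f31b.e4 (fun a3 => @List.decidableBAll.{ku0} a0 a1 a2 a3) ?_ (fun c0 c1 => ?_) a3 :) <;> (rfl')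
private noncomputable def _root_.Cfsg.Agent.KO219f31b.k58.{ku0} : type_of% @List.instDecidablePairwise.{ku0} := @(fun x0 x1 x2 x3 => @List.rec.{1, ku0} @x0 @(fun x4 => @Decidable (@List.Pairwise.{ku0} _ @x1 @x4)) (@Decidable.isTrue _ (@List.Pairwise.nil.{ku0} _ _)) @(fun x4 x5 x6 => @Decidable.rec.{1} _ @(fun x7 => @Decidable (@List.Pairwise.{ku0} _ @x1 (@x4 :: @x5))) @(fun x7 => @Decidable.isFalse _ (@List.instDecidablePairwise._proof_3.{ku0} _ _ @x4 @x5 @x7)) @(fun x7 => @Decidable.rec.{1} _ @(fun x8 => @Decidable (@List.Pairwise.{ku0} _ @x1 (@x4 :: @x5))) @(fun x8 => @Decidable.isFalse _ (@List.instDecidablePairwise._proof_1.{ku0} _ _ @x4 @x5 @x8)) @(fun x8 => @Decidable.isTrue _ (@List.instDecidablePairwise._proof_2.{ku0} _ _ @x4 @x5 @x7 @x8)) (@Cfsg.Agent.KO219f31b.k25.{ku0} _ (@x1 @x4) (@x2 @x4) @x5)) @x6) @x3)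
private theorem _root_.Cfsg.Agent.KO219f31b.e58.{ku0} : @List.instDecidablePairwise.{ku0} = @_root_.Cfsg.Agent.KO219f31b.k58.{ku0} := by delta _root_.Cfsg.Agent.KO219f31b.k58; rewrite [← Cfsg.Agent.KO219f31b.e25.{ku0}]; funext a0 a1 a2 a3; refine (_root_.Cfsg.Agent.KO219f31b.e4 (fun a3 => @List.instDecidablePairwise.{ku0} a0 a1 a2 a3) ?_ (fun c0 c1 => ?_) a3 :) <;> (rfl')
private noncomputable def _root_.Cfsg.Agent.KO219f31b.k59.{ku0} : type_of% @List.nodupDecidable.{ku0} := @(fun x0 x1 => @Cfsg.Agent.KO219f31b.k58.{ku0} _ @(fun x2 x3 => @Ne.{(ku0+1)} _ @x2 @x3) @(fun x2 x3 => @Decidable.rec.{1} _ @(fun x4 => @Decidable (¬ (@Eq.{(ku0+1)} _ @x2 @x3))) @(fun x4 => @Decidable.isTrue _ @x4) @(fun x4 => @Decidable.isFalse _ (@absurd.{0} _ _ @x4)) (@x1 @x2 @x3)))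
private theorem _root_.Cfsg.Agent.KO219f31b.e59.{ku0} : @List.nodupDecidable.{ku0} = @_root_.Cfsg.Agent.KO219f31b.k59.{ku0} := by delta _root_.Cfsg.Agent.KO219f31b.k59; rewrite [← Cfsg.Agent.KO219f31b.e58.{ku0}]; rfl'

theorem SC_nodup : SC.Nodup := by (first | (refine of_decide_eq_true ?_; rewrite [Cfsg.Agent.KO219f31b.e0, Cfsg.Agent.KO219f31b.e59.{0}, Cfsg.Agent.KO219f31b.e15]; decide +kernel) | decide +kernel)

theorem SC_length : SC.length = 216 := by decide +kernel

private noncomputable def _root_.Cfsg.Agent.KO219f31b.k57.{ku0} : type_of% @List.all.{ku0} := @(fun x0 x1 x2 => @List.rec.{(ku0+1), ku0} @x0 @(fun x3 => (@x0 → @Bool) → @Bool) @(fun x3 => @Bool.true) @(fun x3 x4 x5 x6 => @Bool.rec.{1} @(fun x7 => @Bool) @Bool.false (@x5 @x6) (@x6 @x3)) @x1 @x2)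
private theorem _root_.Cfsg.Agent.KO219f31b.e57.{ku0} : @List.all.{ku0} = @_root_.Cfsg.Agent.KO219f31b.k57.{ku0} := by delta _root_.Cfsg.Agent.KO219f31b.k57; funext a0 a1 a2; refine (congrFun (_root_.Cfsg.Agent.KO219f31b.e4 (fun a1 a2 => @List.all.{ku0} a0 a1 a2) ?_ (fun c0 c1 => ?_) a1) a2 :) <;> (rfl')
private noncomputable def _root_.Cfsg.Agent.KO219f31b.k60 : type_of% @Bool.and := @(fun x0 x1 => @Bool.rec.{1} @(fun x2 => @Bool) @Bool.false @x1 @x0)
private theorem _root_.Cfsg.Agent.KO219f31b.e60 : @Bool.and = @_root_.Cfsg.Agent.KO219f31b.k60 := by delta _root_.Cfsg.Agent.KO219f31b.k60; rfl'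

/-- the vectors of norm 1 -/
theorem NC_ok : (NC.all fun p => Nat.beq (ap (SC.getD p.2.2 one) (ap (TC.getD p.2.1 one) 1)) p.1 && Nat.blt p.2.1 7) =
    true := by (first | (rewrite [Cfsg.Agent.KO219f31b.e57.{0}, Cfsg.Agent.KO219f31b.e60, Cfsg.Agent.KO219f31b.e43, Cfsg.Agent.KO219f31b.e56.{0}]; decide +kernel) | decide +kernel)

private noncomputable def _root_.Cfsg.Agent.KO219f31b.k41.{ku0, ku1} : type_of% @List.map.{ku0, ku1} := @(fun x0 x1 x2 x3 => @List.rec.{(ku1+1), ku0} @x0 @(fun x4 => @List.{ku1} @x1) [] @(fun x4 x5 x6 => (@x2 @x4) :: @x6) @x3)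
private theorem _root_.Cfsg.Agent.KO219f31b.e41.{ku0, ku1} : @List.map.{ku0, ku1} = @_root_.Cfsg.Agent.KO219f31b.k41.{ku0, ku1} := by delta _root_.Cfsg.Agent.KO219f31b.k41; funext a0 a1 a2 a3; refine (_root_.Cfsg.Agent.KO219f31b.e4 (fun a3 => @List.map.{ku0, ku1} a0 a1 a2 a3) ?_ (fun c0 c1 => ?_) a3 :) <;> (rfl')

theorem NC_nodup : (NC.map Prod.fst).Nodup := by (first | (refine of_decide_eq_true ?_; rewrite [Cfsg.Agent.KO219f31b.e0, Cfsg.Agent.KO219f31b.e59.{0}, Cfsg.Agent.KO219f31b.e15, Cfsg.Agent.KO219f31b.e41.{0, 0}]; decide +kernel) | decide +kernel)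

theorem NC_length : NC.length = 120 := by decide +kernel

theorem nil_mem : ([] : List ℕ) ∈ SW := by decide +kernel

end Cfsg.Agent.H180.U42
end

-- part: H180/U42Conj
section
/-!
# `U₄(2)`: every element is conjugate to its powers `g ^ k`, `k = 1 mod 3` prime to the order (task 173)
-/

set_option autoImplicit false
set_option maxRecDepth 100000

namespace Cfsg.Agent.H180.U42

open Matrix Cfsg.Agent.Lib.FieldFour Cfsg.Agent.LieClassical Cfsg.Agent.H674.SUTools

/-- the property -/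
def P {G : Type*} [Group G] (g : G) : Prop := IsConj g (g ^ 7) ∧ (g ^ 12 = 1 ∨ g ^ 9 = 1 ∨ g ^ 5 = 1)

theorem P_of_chk {g x : GG} {m n : ℕ} (hg : IsCode g m) (hx : IsCode x n) (h : chk m n = true) : P g := by
  unfold chk chkm at h
  rw [Bool.and_eq_true, Bool.or_eq_true, Bool.or_eq_true] at h
  have h2 : IsCode (g * g) (cmp m m) := hg.mul hg
  have h3 := h2.mul hg
  have h6 := h3.mul h3
  have h7 := h6.mul hg
  refine ⟨?_, ?_⟩
  · have e1 := (hx.mul hg).eq (h7.mul hx) (Nat.eq_of_beq_eq_true h.1)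
    rw [isConj_iff]
    refine ⟨x, ?_⟩
    rw [e1, mul_inv_cancel_right]
    simp only [pow_succ, pow_zero, one_mul, mul_assoc]
  · rcases h.2 with h' | h' | h'
    · left
      have e1 := (h6.mul h6).eq isCode_one (Nat.eq_of_beq_eq_true h')
      rw [← e1]; simp only [pow_succ, pow_zero, one_mul, mul_assoc]
    · right; left
      have e1 := (h7.mul h2).eq isCode_one (Nat.eq_of_beq_eq_true h')
      rw [← e1]; simp only [pow_succ, pow_zero, one_mul, mul_assoc]
    · right; right
      have e1 := (h3.mul h2).eq isCode_one (Nat.eq_of_beq_eq_true h')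
      rw [← e1]; simp only [pow_succ, pow_zero, one_mul, mul_assoc]

theorem P_conj {G : Type*} [Group G] {g h : G} (hc : IsConj g h) (hg : P g) : P h := by
  obtain ⟨c, rfl⟩ := isConj_iff.1 hc
  obtain ⟨h1, h2⟩ := hg
  refine ⟨?_, ?_⟩
  · rw [conj_pow]
    have e1 : IsConj (c * g * c⁻¹) g := isConj_iff.2 ⟨c⁻¹, by group⟩
    have e2 : IsConj (g ^ 7) (c * g ^ 7 * c⁻¹) := isConj_iff.2 ⟨c, rfl⟩
    exact e1.trans (h1.trans e2)
  · rw [conj_pow, conj_pow, conj_pow]
    rcases h2 with h2 | h2 | h2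
    · left; rw [h2]; group
    · right; left; rw [h2]; group
    · right; right; rw [h2]; group

theorem XC_getD (i : ℕ) : XC.getD i one = ev (XW.getD i []) := by
  rw [← XW_XC]
  exact List.getD_map XW [] ev

theorem SC_getD (i : ℕ) : SC.getD i one = ev (SW.getD i []) := by
  rw [← SW_SC]
  exact List.getD_map SW [] ev

theorem TC_getD (i : ℕ) : TC.getD i one = ev (TW.getD i []) := by
  rw [← TW_TC]
  exact List.getD_map TW [] ev

theorem chkT_spec {t : ℕ} : ∀ {S I : List ℕ}, chkT t S I = true → ∀ s ∈ S, ∃ i, chk (cmp t s) (XC.getD i one) = true := by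
  intro S
  induction S with
  | nil => intro I _ s hs; exact absurd hs List.not_mem_nil
  | cons a S ih =>
    intro I h s hs
    cases I with
    | nil => exact absurd h (by simp [chkT])
    | cons i I =>
      rw [chkT, Bool.and_eq_true] at h
      rcases List.mem_cons.1 hs with rfl | hs
      · exact ⟨i, h.1⟩
      · exact ih h.2 s hs

theorem chk_all {i : ℕ} (hi : i < 7) : ∀ s ∈ SC, ∃ j, chk (cmp (TC.getD i one) s) (XC.getD j one) = true := by
  have h : i = 0 ∨ i = 1 ∨ i = 2 ∨ i = 3 ∨ i = 4 ∨ i = 5 ∨ i = 6 := by omega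
  rcases h with rfl | rfl | rfl | rfl | rfl | rfl | rfl
  · exact chkT_spec chk0
  · exact chkT_spec chk1
  · exact chkT_spec chk2
  · exact chkT_spec chk3
  · exact chkT_spec chk4
  · exact chkT_spec chk5
  · exact chkT_spec chk6

theorem getD_mem (i : ℕ) : SW.getD i [] ∈ SW := by
  rw [List.getD_eq_getElem?_getD]
  cases h : SW[i]? with
  | none => exact nil_mem
  | some a => exact List.mem_of_getElem? h

theorem ev_mem {w : List ℕ} (hw : w ∈ SW) : ev w ∈ SC := by
  rw [← SW_SC]
  exact List.mem_map_of_mem hw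

/-- the property holds for the products `t s` -/
theorem P_ts {i : ℕ} (hi : i < 7) {w : List ℕ} (hw : w ∈ SW) : P (evG (TW.getD i []) * evG w) := by
  obtain ⟨j, hj⟩ := chk_all hi (ev w) (ev_mem hw)
  rw [TC_getD, XC_getD] at hj
  exact P_of_chk ((isCode_ev _).mul (isCode_ev _)) (isCode_ev _) hj

/-! ### the stabilizer -/

/-- the first basis vector -/
def e1 : Fin 4 → F4 := ![F4.i, F4.o, F4.o, F4.o]

theorem vc_e1 : vc e1 = 1 := rfl

theorem act_fix {w : List ℕ} (hw : w ∈ SW) : act (evG w) e1 = e1 := by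
  apply vc_inj
  rw [isCode_ev w, vc_e1]
  exact Nat.eq_of_beq_eq_true (List.all_eq_true.1 SC_fix (ev w) (ev_mem hw))

theorem norm_mem_aux : ∀ a b c d : F4, hermForm 4 F4 2 ![a, b, c, d] ![a, b, c, d] = 1 →
    (NC.any fun p => Nat.beq p.1 (vc ![a, b, c, d])) = true := by decide +kernel

theorem norm_mem {v : Fin 4 → F4} (h : hermForm 4 F4 2 v v = 1) : ∃ p ∈ NC, p.1 = vc v := by
  rw [vec_eta v] at h ⊢
  have h1 := norm_mem_aux _ _ _ _ h
  rw [List.any_eq_true] at h1
  obtain ⟨p, hp, h2⟩ := h1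
  exact ⟨p, hp, Nat.eq_of_beq_eq_true h2⟩

theorem norm_e1 : hermForm 4 F4 2 e1 e1 = 1 := by decide +kernel

theorem norm_act (g : GG) : hermForm 4 F4 2 (act g e1) (act g e1) = 1 := by
  have h := g.2 e1 e1
  rw [norm_e1] at h
  exact h

theorem NC_spec {p : ℕ × ℕ × ℕ} (hp : p ∈ NC) : p.2.1 < 7 ∧
    vc (act (evG (SW.getD p.2.2 []) * evG (TW.getD p.2.1 [])) e1) = p.1 := by
  have h := List.all_eq_true.1 NC_ok p hp
  rw [Bool.and_eq_true] at h
  refine ⟨Nat.le_of_ble_eq_true h.2, ?_⟩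
  rw [act_mul, isCode_ev, isCode_ev, vc_e1, ← SC_getD, ← TC_getD]
  exact Nat.eq_of_beq_eq_true h.1

theorem stab_eq (g : GG) (hg : act g e1 = e1) : ∃ w ∈ SW, g = evG w := by
  classical
  have hfin : Finite GG := Nat.finite_of_card_ne_zero (by rw [card_GG]; norm_num)
  have : Fintype GG := Fintype.ofFinite GG
  set St : Finset GG := Finset.univ.filter fun g => act g e1 = e1 with hSt
  -- upper bound
  have hNC : ∀ k : Fin 120, (k : ℕ) < NC.length := fun k => by rw [NC_length]; exact k.2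
  have h1 : 120 * St.card ≤ 25920 := by
    have hle : Fintype.card (Fin 120 × St) ≤ Fintype.card GG := by
      refine Fintype.card_le_of_injective (fun q : Fin 120 × St =>
        (evG (SW.getD (NC[(q.1 : ℕ)]'(hNC q.1)).2.2 []) * evG (TW.getD (NC[(q.1 : ℕ)]'(hNC q.1)).2.1 [])) *
          (q.2 : GG)) ?_
      rintro ⟨k, s, hs⟩ ⟨k', s', hs'⟩ h
      dsimp only at h
      rw [hSt, Finset.mem_filter] at hs hs'
      have e := congrArg (fun g : GG => vc (act g e1)) h
      rw [act_mul _ s, act_mul _ s', hs.2, hs'.2, (NC_spec (List.getElem_mem (hNC k))).2,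
        (NC_spec (List.getElem_mem (hNC k'))).2] at e
      have hk : k = k' := by
        have hn := NC_nodup
        rw [List.nodup_iff_injective_getElem] at hn
        have hl : (NC.map Prod.fst).length = 120 := by rw [List.length_map, NC_length]
        have e2 := @hn ⟨k, by rw [hl]; exact k.2⟩ ⟨k', by rw [hl]; exact k'.2⟩ (by
          show (NC.map Prod.fst)[(k : ℕ)]'_ = (NC.map Prod.fst)[(k' : ℕ)]'_
          rw [List.getElem_map, List.getElem_map]
          exact e)
        exact Fin.ext (congrArg Fin.val e2)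
      subst hk
      have e3 : s = s' := mul_left_cancel h
      subst e3
      rfl
    rw [Fintype.card_prod, Fintype.card_fin, Fintype.card_coe] at hle
    have hc : Fintype.card GG = 25920 := by rw [← Nat.card_eq_fintype_card, card_GG]
    rwa [hc] at hle
  -- lower bound
  set A : Finset GG := (SW.map evG).toFinset with hA
  have hnd : (SW.map evG).Nodup := by
    rw [List.nodup_iff_injective_getElem]
    rintro ⟨i, hi⟩ ⟨j, hj⟩ hij
    have hi' : i < SW.length := by rwa [List.length_map] at hi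
    have hj' : j < SW.length := by rwa [List.length_map] at hj
    have h2 : evG (SW[i]'hi') = evG (SW[j]'hj') := by
      have h3 : (SW.map evG)[i]'hi = (SW.map evG)[j]'hj := hij
      rwa [List.getElem_map, List.getElem_map] at h3
    have h3 : cmp (ev (SW[i]'hi')) one = cmp (ev (SW[j]'hj')) one := by
      refine IsCode.cmp_one (g := evG (SW[i]'hi')) (isCode_ev _) ?_
      rw [h2]
      exact isCode_ev _
    have h4 : ∀ w ∈ SW, cmp (ev w) one = ev w := fun w hw =>
      Nat.eq_of_beq_eq_true (List.all_eq_true.1 SC_canon (ev w) (ev_mem hw))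
    rw [h4 _ (List.getElem_mem hi'), h4 _ (List.getElem_mem hj')] at h3
    have hn := SC_nodup
    rw [← SW_SC, List.nodup_iff_injective_getElem] at hn
    have e2 := @hn ⟨i, by rw [List.length_map]; exact hi'⟩ ⟨j, by rw [List.length_map]; exact hj'⟩ (by
      show (SW.map ev)[i]'_ = (SW.map ev)[j]'_
      rw [List.getElem_map, List.getElem_map]
      exact h3)
    have e3 : i = j := congrArg Fin.val e2
    subst e3
    rfl
  have hAc : A.card = 216 := by
    rw [hA, List.toFinset_card_of_nodup hnd, List.length_map, ← List.length_map (f := ev), SW_SC, SC_length]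
  have hAS : A ⊆ St := by
    intro g hg
    rw [hA, List.mem_toFinset, List.mem_map] at hg
    obtain ⟨w, hw, rfl⟩ := hg
    rw [hSt, Finset.mem_filter]
    exact ⟨Finset.mem_univ _, act_fix hw⟩
  have hEq : A = St := Finset.eq_of_subset_of_card_le hAS (by omega)
  have hgS : g ∈ St := by
    rw [hSt, Finset.mem_filter]
    exact ⟨Finset.mem_univ _, hg⟩
  rw [← hEq, hA, List.mem_toFinset, List.mem_map] at hgS
  obtain ⟨w, hw, e⟩ := hgS
  exact ⟨w, hw, e.symm⟩

/-- **every element has the property** -/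
theorem P_all (g : GG) : P g := by
  obtain ⟨p, hp, hpv⟩ := norm_mem (norm_act g)
  obtain ⟨hp7, hp1⟩ := NC_spec hp
  rw [hpv] at hp1
  have e := vc_inj hp1
  set s := evG (SW.getD p.2.2 []) with hs
  set t := evG (TW.getD p.2.1 []) with ht
  have hsf : act s e1 = e1 := act_fix (getD_mem _)
  have hsi : act s⁻¹ e1 = e1 := by
    conv_lhs => rw [← hsf]
    rw [← act_mul, inv_mul_cancel, act_one]
  have h1 : act (t⁻¹ * (s⁻¹ * g * s)) e1 = e1 := by
    rw [act_mul, act_mul, hsf, act_mul, ← e, ← act_mul, ← act_mul, mul_assoc, inv_mul_cancel_left, inv_mul_cancel,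
      act_one]
  obtain ⟨w, hw, h2⟩ := stab_eq _ h1
  have h3 : s⁻¹ * g * s = t * evG w := by rw [← h2, mul_inv_cancel_left]
  have h4 : P (s⁻¹ * g * s) := by
    rw [h3]
    exact P_ts hp7 hw
  exact P_conj (isConj_iff.2 ⟨s, by group⟩) h4

/-! ### conclusion -/

theorem P_map {G H : Type*} [Group G] [Group H] (f : G →* H) {g : G} (h : P g) : P (f g) := by
  obtain ⟨h1, h2⟩ := h
  refine ⟨?_, ?_⟩
  · rw [← map_pow]
    exact f.map_isConj h1
  · rw [← map_pow, ← map_pow, ← map_pow]
    rcases h2 with h2 | h2 | h2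
    · left; rw [h2, map_one]
    · right; left; rw [h2, map_one]
    · right; right; rw [h2, map_one]

theorem isConj_pow_seven {G : Type*} [Group G] {g : G} (h : IsConj g (g ^ 7)) : ∀ j : ℕ, IsConj g (g ^ 7 ^ j)
  | 0 => by rw [pow_zero, pow_one]
  | j + 1 => by
    obtain ⟨c, hc⟩ := isConj_iff.1 h
    refine (isConj_pow_seven h j).trans (isConj_iff.2 ⟨c, ?_⟩)
    rw [← conj_pow, hc, ← pow_mul, pow_succ']

theorem mod_aux (n : ℕ) (hn : n ∣ 12 ∨ n ∣ 9 ∨ n ∣ 5) (k : ℕ) (h3 : k % 3 = 1) (hc : Nat.Coprime k n) :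
    ∃ j, k ≡ 7 ^ j [MOD n] := by
  have hn' : n ∈ ({1, 2, 3, 4, 5, 6, 9, 12} : Finset ℕ) := by
    have d1 : ∀ m ≤ 12, (m ∣ 12 ∨ m ∣ 9 ∨ m ∣ 5) → m ∈ ({1, 2, 3, 4, 5, 6, 9, 12} : Finset ℕ) := by decide
    refine d1 n ?_ hn
    rcases hn with h | h | h
    · exact Nat.le_of_dvd (by norm_num) h
    · exact (Nat.le_of_dvd (by norm_num) h).trans (by norm_num)
    · exact (Nat.le_of_dvd (by norm_num) h).trans (by norm_num)
  have key : ∀ m ∈ ({1, 2, 3, 4, 5, 6, 9, 12} : Finset ℕ), ∀ r < 3 * m, r % 3 = 1 → Nat.Coprime r m →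
      ∃ j < 4, r % m = 7 ^ j % m := by decide
  have hpos : 0 < n := by
    rcases Nat.eq_zero_or_pos n with h | h
    · rw [h] at hn'
      exact absurd hn' (by decide)
    · exact h
  obtain ⟨j, -, hj⟩ := key n hn' (k % (3 * n)) (Nat.mod_lt _ (by omega)) (by
    rw [Nat.mod_mul_right_mod, h3]) (by
    unfold Nat.Coprime at hc ⊢
    rw [← hc, Nat.gcd_comm k n, Nat.gcd_comm _ n]
    have e : (k % (3 * n)) % n = k % n := Nat.mod_mul_left_mod k 3 n
    rw [Nat.gcd_rec n, Nat.gcd_rec n, e])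
  refine ⟨j, ?_⟩
  rw [Nat.ModEq, ← hj, Nat.mod_mul_left_mod]

theorem conj_pow_of_P {G : Type*} [Group G] {g : G} (h : P g) (k : ℕ) (h3 : k % 3 = 1) (hc : Nat.Coprime k (orderOf g)) :
    IsConj g (g ^ k) := by
  obtain ⟨h1, h2⟩ := h
  obtain ⟨j, hj⟩ := mod_aux (orderOf g) (h2.imp orderOf_dvd_of_pow_eq_one (Or.imp orderOf_dvd_of_pow_eq_one
    orderOf_dvd_of_pow_eq_one)) k h3 hc
  rw [(pow_eq_pow_iff_modEq).2 hj]
  exact isConj_pow_seven h1 j

/-- every element `g` of `U₄(2)` is conjugate to `g ^ 7` and has order dividing 12, 9 or 5 -/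
theorem u42_P {K : Type} [Field K] [Fintype K] (hK : Fintype.card K = 4) (g : Cfsg.PSU 4 K 2) : P g := by
  let e : Cfsg.PSU 4 F4 2 ≃* Cfsg.PSU 4 K 2 := FieldTransfer.psuCongr 4 2 (equivOfCard hK).symm
  obtain ⟨g', rfl⟩ := e.surjective g
  obtain ⟨x, rfl⟩ := QuotientGroup.mk_surjective g'
  exact P_map ((e : Cfsg.PSU 4 F4 2 →* Cfsg.PSU 4 K 2).comp (QuotientGroup.mk' _)) (P_all x)

end Cfsg.Agent.H180.U42

namespace Cfsg.Agent.H180

/-- **task 173** -/
theorem u42_conj_pow {K : Type} [Field K] [Fintype K] (hK : Fintype.card K = 4) (g : Cfsg.PSU 4 K 2) (k : ℕ) (h3 : k % 3 = 1)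
    (hc : Nat.Coprime k (orderOf g)) : IsConj g (g ^ k) :=
  U42.conj_pow_of_P (U42.u42_P hK g) k h3 hc

end Cfsg.Agent.H180
end

private theorem dce_af70c2c30c62 : _root_.True := by
  try have : _root_.True := by simp only [_root_.Cfsg.Agent.H180.U42.chkT.eq_2]
  try have : _root_.True := by simp only [_root_.Cfsg.Agent.H180.U42.chkT._sparseCasesOn_1.else_eq]
  try have : _root_.True := by simp only [_root_.Cfsg.Agent.H180.U42.chkT.eq_1]
  try have : _root_.True := by simp only [_root_.Cfsg.Agent.H180.U42.chkT.eq_def]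
  try have : _root_.True := by simp only [_root_.Cfsg.Agent.H180.U42.chkT.eq_3]
  exact _root_.True.intro
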