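import Mathlib
import Cfsg.Agent.H180.MElNum
import Cfsg.Agent.S0752
import Cfsg.Agent.LieClassical.SLGen
import Cfsg.Agent.H278.ElDefs
import Cfsg.Agent.S0243
import Cfsg.Agent.SporadicA.FieldFour
import Cfsg.Agent.KFacts.RgdFld.Two_m3
import Cfsg.Agent.LieClassical.SympCenter
import Cfsg.Agent.LieClassical.SympCount
import Cfsg.Agent.S0765
import Cfsg.Agent.Prune
set_option linter.all false

section
prune_inst 0x7fffacfbbbfb79dfdfff7e7fa7decffdfbbbbfffe6dff9cbffe06bff1bffcb12c9c56fad8bebb1fe5ef6ea1418fc7b53fffffeffe06bdc7ffffd5ff45ffbff8ffdf7bd0851968c340fbc2fff63f0778e7f3fffffffffffffffffffffffffffbeffbffffffffd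

-- part: H180/LElInv
section
prune_inst 0x4200000482202000000000200000000400001000000000020000c000008002089002000008000001000000000000000001000200000000000000000000000000000100401000000000008000000000000000000000000000000000000000000000000000
set_option linter.all false
open scoped Cfsg.Agent.FastGrp

-- part: H180/LElBase
section
/-!
# Orbits on vectors of linear groups; transvections (team ELUSIVE, small groups)
-/

set_option autoImplicit false

namespace Cfsg.Agent.H180.LEl

open Module

/-- fixed points in an invariant set, for a permutation of prime order -/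
theorem card_mod {α : Type*} [DecidableEq α] {p : ℕ} [hp : Fact p.Prime] {σ : Equiv.Perm α} (hσ : σ ^ p = 1)
    (D : Finset α) (hD : ∀ q ∈ D, σ q ∈ D) : D.card ≡ (D.filter fun q => σ q = q).card [MOD p] := by
  classical
  let f : D → D := fun q => ⟨σ q.1, hD _ q.2⟩
  have hf : ∀ (n : ℕ) (q : D), (((show Function.End D from f) ^ n) q).1 = (σ ^ n) q.1 := by
    intro n
    induction n with
    | zero => intro q; rfl
    | succ n ih =>
      intro q
      rw [pow_succ, pow_succ]
      exact ih (f q)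
  have hp1 : (show Function.End D from f) ^ p ^ 1 = 1 := by
    rw [pow_one]
    funext q
    apply Subtype.ext
    rw [hf, hσ]
    rfl
  have h := Equiv.Perm.card_fixedPoints_modEq hp1
  have e1 : Fintype.card D = D.card := Fintype.card_coe D
  have e2 : Fintype.card (Function.fixedPoints f) = (D.filter fun q => σ q = q).card := by
    rw [← Fintype.card_coe]
    refine Fintype.card_congr ⟨fun q => ⟨q.1.1, Finset.mem_filter.2 ⟨q.1.2, congrArg Subtype.val q.2⟩⟩,
      fun q => ⟨⟨q.1, (Finset.mem_filter.1 q.2).1⟩, Subtype.ext (Finset.mem_filter.1 q.2).2⟩,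
      fun q => rfl, fun q => rfl⟩
  rw [e1] at h
  have h' : D.card ≡ Fintype.card (Function.fixedPoints f) [MOD p] := by convert h
  rwa [e2] at h'

section Lin

variable {F : Type*} [Field F] {V : Type*} [AddCommGroup V] [Module F V]

theorem pow_apply_perm (x : V ≃ₗ[F] V) (n : ℕ) (v : V) : ((x.toEquiv : Equiv.Perm V) ^ n) v = (x ^ n) v := by
  induction n generalizing v with
  | zero => rfl
  | succ n ih =>
    rw [pow_succ, pow_succ]
    exact ih (x v)

theorem perm_pow_eq_one {x : V ≃ₗ[F] V} {p : ℕ} (hx : x ^ p = 1) : (x.toEquiv : Equiv.Perm V) ^ p = 1 := by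
  ext v
  rw [pow_apply_perm, hx]
  rfl

variable [Fintype V] [DecidableEq V]

/-- the fixed vectors -/
def fixF (x : V ≃ₗ[F] V) : Finset V := Finset.univ.filter fun v => x v = v

theorem mem_fixF {x : V ≃ₗ[F] V} {v : V} : v ∈ fixF x ↔ x v = v := by
  unfold fixF
  rw [Finset.mem_filter]
  exact and_iff_right (Finset.mem_univ _)

theorem zero_mem_fixF (x : V ≃ₗ[F] V) : (0 : V) ∈ fixF x := mem_fixF.2 (map_zero x)

theorem card_mod' {p : ℕ} [hp : Fact p.Prime] {x : V ≃ₗ[F] V} (hx : x ^ p = 1)
    (D : Finset V) (hD : ∀ q ∈ D, x q ∈ D) : D.card ≡ (D ∩ fixF x).card [MOD p] := by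
  have h := card_mod (perm_pow_eq_one hx) D hD
  have e : (D.filter fun q => (x.toEquiv : Equiv.Perm V) q = q) = D ∩ fixF x := by
    ext q
    rw [Finset.mem_filter, Finset.mem_inter, mem_fixF]
    rfl
  rwa [e] at h

/-- the fixed space -/
def fixS (x : V ≃ₗ[F] V) : Submodule F V where
  carrier := {v | x v = v}
  add_mem' := fun {a b} ha hb => by
    show x (a + b) = a + b
    rw [map_add, ha, hb]
  zero_mem' := map_zero x
  smul_mem' := fun c {a} ha => by
    show x (c • a) = c • a
    rw [map_smul, ha]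

/-- the number of fixed vectors is a power of `q`, smaller than `|V|` -/
theorem card_fixF [Fintype F] {p : ℕ} [hp : Fact p.Prime] {x : V ≃ₗ[F] V} (hx : orderOf x = p) :
    ∃ k < finrank F V, (fixF x).card = Fintype.card F ^ k ∧
      Fintype.card F ^ finrank F V ≡ Fintype.card F ^ k [MOD p] := by
  have hfin : FiniteDimensional F V := Module.Finite.of_finite
  have h1 : (fixF x).card = Fintype.card F ^ finrank F (fixS x) := by
    rw [← Nat.card_eq_fintype_card, ← Module.natCard_eq_pow_finrank (K := F), ← Fintype.card_coe, ← Nat.card_eq_fintype_card]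
    exact Nat.card_congr (Equiv.subtypeEquivRight fun v => mem_fixF)
  have hV : Fintype.card V = Fintype.card F ^ finrank F V := Module.card_eq_pow_finrank
  refine ⟨finrank F (fixS x), ?_, h1, ?_⟩
  · apply Submodule.finrank_lt
    intro htop
    have h2 : x = 1 := by
      ext v
      have : v ∈ fixS x := by rw [htop]; trivial
      exact this
    rw [h2, orderOf_one] at hx
    exact hp.out.one_lt.ne hx
  · have h2 := card_mod' (p := p) (x := x) (by rw [← hx, pow_orderOf_eq_one]) Finset.univ (fun _ _ => Finset.mem_univ _)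
    rw [Finset.univ_inter, Finset.card_univ, hV, h1] at h2
    exact h2

open Classical in
/-- the orbit of a vector -/
noncomputable def orb (X : Subgroup (V ≃ₗ[F] V)) (v : V) : Finset V := Finset.univ.filter fun w => ∃ g ∈ X, g v = w

omit [DecidableEq V] in
theorem mem_orb {X : Subgroup (V ≃ₗ[F] V)} {v w : V} : w ∈ orb X v ↔ ∃ g ∈ X, g v = w := by
  classical
  unfold orb
  rw [Finset.mem_filter]
  exact and_iff_right (Finset.mem_univ _)

omit [DecidableEq V] in
theorem self_mem_orb (X : Subgroup (V ≃ₗ[F] V)) (v : V) : v ∈ orb X v := mem_orb.2 ⟨1, X.one_mem, rfl⟩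

omit [DecidableEq V] in
theorem orb_inv {X : Subgroup (V ≃ₗ[F] V)} {v : V} {x : V ≃ₗ[F] V} (hx : x ∈ X) : ∀ q ∈ orb X v, x q ∈ orb X v := by
  intro q hq
  obtain ⟨g, hg, rfl⟩ := mem_orb.1 hq
  exact mem_orb.2 ⟨x * g, X.mul_mem hx hg, rfl⟩

omit [DecidableEq V] in
theorem orb_pos (X : Subgroup (V ≃ₗ[F] V)) (v : V) : 0 < (orb X v).card := Finset.card_pos.2 ⟨v, self_mem_orb X v⟩

omit [DecidableEq V] in
theorem orb_ne_zero {X : Subgroup (V ≃ₗ[F] V)} {v : V} (hv : v ≠ 0) {w : V} (hw : w ∈ orb X v) : w ≠ 0 := by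
  obtain ⟨g, hg, rfl⟩ := mem_orb.1 hw
  intro h
  exact hv (g.map_eq_zero_iff.1 h)

theorem orb_sub {X : Subgroup (V ≃ₗ[F] V)} {v : V} (hv : v ≠ 0) : orb X v ⊆ Finset.univ.erase 0 := fun _ hw =>
  Finset.mem_erase.2 ⟨orb_ne_zero hv hw, Finset.mem_univ _⟩

omit [DecidableEq V] in
/-- two vectors in the same orbit -/
theorem orb_symm {X : Subgroup (V ≃ₗ[F] V)} {v w : V} (h : w ∈ orb X v) : v ∈ orb X w := by
  obtain ⟨g, hg, rfl⟩ := mem_orb.1 h
  exact mem_orb.2 ⟨g⁻¹, X.inv_mem hg, LinearEquiv.symm_apply_apply g v⟩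

omit [DecidableEq V] in
theorem orb_trans {X : Subgroup (V ≃ₗ[F] V)} {u v w : V} (h1 : v ∈ orb X u) (h2 : w ∈ orb X v) : w ∈ orb X u := by
  obtain ⟨g, hg, rfl⟩ := mem_orb.1 h1
  obtain ⟨k, hk, rfl⟩ := mem_orb.1 h2
  exact mem_orb.2 ⟨k * g, X.mul_mem hk hg, rfl⟩

omit [DecidableEq V] in
theorem orb_eq {X : Subgroup (V ≃ₗ[F] V)} {u v : V} (h : v ∈ orb X u) : orb X v = orb X u := by
  ext w
  exact ⟨fun h2 => orb_trans h h2, fun h2 => orb_trans (orb_symm h) h2⟩

end Lin

/-! ### transvections -/

section Transv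

variable {F : Type*} [Field F] {V : Type*} [AddCommGroup V] [Module F V]

/-- `X` contains the transvection `w ↦ w + f w • v` -/
def HasT (X : Subgroup (V ≃ₗ[F] V)) (v : V) (f : Dual F V) : Prop := ∃ t ∈ X, ∀ w, t w = w + f w • v

theorem HasT.conj {X : Subgroup (V ≃ₗ[F] V)} {v : V} {f : Dual F V} (h : HasT X v f) {g : V ≃ₗ[F] V} (hg : g ∈ X) :
    HasT X (g v) (f.comp (g⁻¹ : V ≃ₗ[F] V).toLinearMap) := by
  obtain ⟨t, ht, h⟩ := h
  refine ⟨g * t * g⁻¹, X.mul_mem (X.mul_mem hg ht) (X.inv_mem hg), fun w => ?_⟩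
  show g (t (g⁻¹ w)) = w + f (g⁻¹ w) • g v
  rw [h, map_add, map_smul]
  congr 1
  exact LinearEquiv.apply_symm_apply g w

theorem HasT.conj' {X : Subgroup (V ≃ₗ[F] V)} {v : V} {f : Dual F V} (h : HasT X v f) {g : V ≃ₗ[F] V} (hg : g ∈ X) :
    HasT X (g⁻¹ v) (f.comp g.toLinearMap) := by
  have := h.conj (X.inv_mem hg)
  rwa [inv_inv] at this

theorem HasT.add {X : Subgroup (V ≃ₗ[F] V)} {v : V} {f f' : Dual F V} (h : HasT X v f) (h' : HasT X v f') (hf : f v = 0) :
    HasT X v (f + f') := by
  obtain ⟨t, ht, h⟩ := h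
  obtain ⟨t', ht', h'⟩ := h'
  refine ⟨t * t', X.mul_mem ht ht', fun w => ?_⟩
  show t (t' w) = _
  rw [h', h, map_add, map_smul, hf, smul_zero, add_zero, LinearMap.add_apply, add_smul]
  abel

/-- averaging over the powers of an element -/
theorem sum_fix {x : V ≃ₗ[F] V} {p : ℕ} (hx : x ^ p = 1) (v : V) :
    x (∑ i ∈ Finset.range p, (x ^ i) v) = ∑ i ∈ Finset.range p, (x ^ i) v := by
  have h1 : x (∑ i ∈ Finset.range p, (x ^ i) v) = ∑ i ∈ Finset.range p, (x ^ (i + 1)) v := by
    rw [map_sum]
    refine Finset.sum_congr rfl fun i _ => ?_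
    rw [pow_succ']
    rfl
  rw [h1]
  have h2 := Finset.sum_range_succ' (fun i => (x ^ i) v) p
  have h3 := Finset.sum_range_succ (fun i => (x ^ i) v) p
  rw [h2] at h3
  have h4 : (x ^ 0) v = (x ^ p) v := by rw [hx, pow_zero]
  rw [h4] at h3
  exact add_right_cancel h3

theorem comp_pow {x : V ≃ₗ[F] V} {f : Dual F V} (hf : ∀ v, f (x v) = f v) (i : ℕ) (v : V) : f ((x ^ i) v) = f v := by
  induction i with
  | zero => rfl
  | succ i ih =>
    rw [pow_succ']
    show f (x ((x ^ i) v)) = f v
    rw [hf, ih]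

/-- an invariant functional vanishing on the fixed vectors is zero -/
theorem eq_zero_of_fix {x : V ≃ₗ[F] V} {p : ℕ} (hx : x ^ p = 1) (hp : (p : F) ≠ 0) {f : Dual F V}
    (hf : ∀ v, f (x v) = f v) (h0 : ∀ v, x v = v → f v = 0) : f = 0 := by
  ext v
  have h1 := h0 _ (sum_fix hx v)
  rw [map_sum, Finset.sum_congr rfl fun i _ => comp_pow hf i v, Finset.sum_const, Finset.card_range, nsmul_eq_mul] at h1
  rw [LinearMap.zero_apply]
  exact (mul_eq_zero.1 h1).resolve_left hp

end Transv

end Cfsg.Agent.H180.LEl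
end

-- part: H180/LElSL
section
/-!
# Subgroups of `GL₆(2)` (team ELUSIVE, small groups)
-/

set_option autoImplicit false

namespace Cfsg.Agent.H180.LEl

open Module

section Two

variable {F : Type*} [Field F] [Fintype F] (hF : Fintype.card F = 2)
include hF

theorem two_cases (c : F) : c = 0 ∨ c = 1 := by
  classical
  by_contra h
  push Not at h
  have h1 : ({0, 1, c} : Finset F).card ≤ 2 := by
    rw [← hF]
    exact Finset.card_le_univ _
  rw [Finset.card_insert_of_notMem, Finset.card_pair h.2.symm] at h1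
  · norm_num at h1
  · rw [Finset.mem_insert, Finset.mem_singleton]
    push Not
    exact ⟨zero_ne_one, h.1.symm⟩

theorem one_add_one' : (1 : F) + 1 = 0 := by
  rcases two_cases hF ((1 : F) + 1) with h | h
  · exact h
  · exact absurd (add_eq_left.1 h) one_ne_zero

theorem add_self' {V : Type*} [AddCommGroup V] [Module F V] (v : V) : v + v = 0 := by
  have h : ((1 : F) + 1) • v = 0 := by rw [one_add_one' hF, zero_smul]
  rwa [add_smul, one_smul] at h

theorem odd_ne_zero {n : ℕ} (hn : Odd n) : (n : F) ≠ 0 := by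
  obtain ⟨k, rfl⟩ := hn
  push_cast
  have h : (2 : F) = 0 := by
    rw [← one_add_one_eq_two]
    exact one_add_one' hF
  rw [h, zero_mul, zero_add]
  exact one_ne_zero

end Two

section Dual

variable {F : Type*} [Field F] {V : Type*} [AddCommGroup V] [Module F V]

theorem card_sub [Fintype F] {M : Type*} [AddCommGroup M] [Module F M] [FiniteDimensional F M] (W : Submodule F M) (S : Finset M)
    (h : ∀ m, m ∈ S ↔ m ∈ W) : S.card = Fintype.card F ^ finrank F W := by
  rw [← Nat.card_eq_fintype_card, ← Module.natCard_eq_pow_finrank (K := F) (V := W), ← Fintype.card_coe, ← Nat.card_eq_fintype_card]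
  exact Nat.card_congr (Equiv.subtypeEquivRight h)

end Dual

theorem order_three {F : Type*} [Field F] {V : Type*} [AddCommGroup V] [Module F V] {d : V ≃ₗ[F] V} (hd : ∀ v, v + d v + d (d v) = 0) : d ^ 3 = 1 := by
  ext v
  have h1 := hd v
  have h2 := hd (d v)
  show d (d (d v)) = v
  have h3 : v + d v + d (d v) = d v + d (d v) + d (d (d v)) := by rw [h1, h2]
  rw [add_assoc, add_comm v] at h3
  exact (add_left_cancel h3).symm

section Main

variable {F : Type*} [Field F] [Fintype F] {V : Type*} [AddCommGroup V] [Module F V] [Fintype V] [DecidableEq V]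

end Main

end Cfsg.Agent.H180.LEl
end

-- part: H180/LElFour
section
/-!
# Subgroups of `GL₄(4)` (team ELUSIVE, small groups)
-/

set_option autoImplicit false

namespace Cfsg.Agent.H180.LEl

open Module

section

variable {F : Type*} [Field F] {V : Type*} [AddCommGroup V] [Module F V]

/-- a homology with center `c` -/
def IsHom (h : V ≃ₗ[F] V) (lam mu : F) (c : V) : Prop := h c = mu • c ∧ ∀ v, ∃ a : F, h v = lam • v + a • c

theorem IsHom.conj {h : V ≃ₗ[F] V} {lam mu : F} {c : V} (H : IsHom h lam mu c) (g : V ≃ₗ[F] V) :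
    IsHom (g * h * g⁻¹) lam mu (g c) := by
  constructor
  · show g (h ((g⁻¹ : V ≃ₗ[F] V) (g c))) = mu • g c
    rw [show (g⁻¹ : V ≃ₗ[F] V) (g c) = c from LinearEquiv.symm_apply_apply g c, H.1, map_smul]
  · intro v
    obtain ⟨a, ha⟩ := H.2 ((g⁻¹ : V ≃ₗ[F] V) v)
    refine ⟨a, ?_⟩
    show g (h ((g⁻¹ : V ≃ₗ[F] V) v)) = _
    rw [ha, map_add, map_smul, map_smul]
    rw [show g ((g⁻¹ : V ≃ₗ[F] V) v) = v from LinearEquiv.apply_symm_apply g v]

theorem IsHom.smul {h : V ≃ₗ[F] V} {lam mu : F} {c : V} (H : IsHom h lam mu c) {b : F} (hb : b ≠ 0) :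
    IsHom h lam mu (b • c) := by
  refine ⟨by rw [map_smul, H.1, smul_comm], fun v => ?_⟩
  obtain ⟨a, ha⟩ := H.2 v
  refine ⟨a * b⁻¹, ?_⟩
  rw [ha, smul_smul, mul_assoc, inv_mul_cancel₀ hb, mul_one]

end

section Four

variable {F : Type*} [Field F] [Fintype F] {V : Type*} [AddCommGroup V] [Module F V] [Fintype V] [DecidableEq V]

end Four

end Cfsg.Agent.H180.LEl
end

-- part: H180/LElInv
section
/-!
# Transvections, homologies and fixed point free elements by centralizer conditions
-/

set_option autoImplicit false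

namespace Cfsg.Agent.H180.LEl

open Module

section

variable {F : Type*} [Field F] {V : Type*} [AddCommGroup V] [Module F V]

end

section

variable {F : Type*} [Field F] [Fintype F] {V : Type*} [AddCommGroup V] [Module F V] [Fintype V] [DecidableEq V]

end

section Eig

variable {F : Type*} [Field F] {V : Type*} [AddCommGroup V] [Module F V]

end Eig

section Four

variable {F : Type*} [Field F] [Fintype F] {V : Type*} [AddCommGroup V] [Module F V] [Fintype V] [DecidableEq V]

end Four

end Cfsg.Agent.H180.LEl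
end
end

-- part: H180/LElSpFinal
section
prune_inst 0x1004400000000000000000010000040000000000000000000000000000000020000000000000000000080000008000000000000420000000a000000000000000000020080080000000001000000000000000000000000000000000000000000000000000
set_option linter.all false
open scoped Cfsg.Agent.FastGrp

-- part: H180/LElSp
section
/-!
# Transitivity on vectors for subgroups of `Sp₆(2)` and `Sp₈(2)` (team ELUSIVE, small groups)
-/

set_option autoImplicit false

namespace Cfsg.Agent.H180.LEl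

open Module

/-- a space with a non-degenerate alternating form has even dimension -/
theorem finrank_even {F : Type*} [Field F] {W : Type*} [AddCommGroup W] [Module F W] [FiniteDimensional F W]
    (B : LinearMap.BilinForm F W) (hA : B.IsAlt) (hnd : ∀ u, (∀ v, B u v = 0) → u = 0) : Even (finrank F W) := by
  obtain ⟨m, l, b, -, -, -, h4⟩ := Cfsg.Agent.S0752.result B hA
  have hl : l = 0 := by
    by_contra hl
    have h5 := h4 ⟨0, Nat.pos_of_ne_zero hl⟩
    exact b.ne_zero (Sum.inr ⟨0, Nat.pos_of_ne_zero hl⟩) (hnd _ h5)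
  subst hl
  have hm := Module.finrank_eq_card_basis b
  simp only [Fintype.card_sum, Fintype.card_fin] at hm
  exact ⟨m, by omega⟩

section Sp

variable {F : Type*} [Field F] [Fintype F] {V : Type*} [AddCommGroup V] [Module F V] [Fintype V] [DecidableEq V]

omit [Fintype F] [Fintype V] [DecidableEq V] in
/-- the form is non-degenerate on the fixed space -/
theorem nondeg_fixS {B : LinearMap.BilinForm F V} (hnd : ∀ u, (∀ v, B u v = 0) → u = 0) {x : V ≃ₗ[F] V} {p : ℕ}
    (hx : x ^ p = 1) (hp : (p : F) ≠ 0) (hB : ∀ u v, B (x u) (x v) = B u v) {u : V} (hu : x u = u)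
    (h : ∀ v, x v = v → B u v = 0) : u = 0 := by
  apply hnd
  intro v
  have h1 : (B u : Dual F V) = 0 := by
    refine eq_zero_of_fix hx hp (fun w => ?_) h
    have h2 := hB u w
    rwa [hu] at h2
  rw [h1]
  rfl

omit [Fintype V] [DecidableEq V] in
theorem even_fixS [Fintype V] {B : LinearMap.BilinForm F V} (hA : B.IsAlt) (hnd : ∀ u, (∀ v, B u v = 0) → u = 0)
    {x : V ≃ₗ[F] V} {p : ℕ} (hx : x ^ p = 1) (hp : (p : F) ≠ 0) (hB : ∀ u v, B (x u) (x v) = B u v) :
    Even (finrank F (fixS x)) := by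
  have hfin : FiniteDimensional F V := Module.Finite.of_finite
  refine finrank_even (B.domRestrict₁₂ (fixS x) (fixS x)) (fun v => hA v.1) fun u hu => ?_
  apply Subtype.ext
  exact nondeg_fixS hnd hx hp hB u.2 fun v hv => hu ⟨v, hv⟩

/-- number of fixed vectors, with an even exponent -/
theorem card_fixF_even {B : LinearMap.BilinForm F V} (hA : B.IsAlt) (hnd : ∀ u, (∀ v, B u v = 0) → u = 0)
    {p : ℕ} [hp : Fact p.Prime] {x : V ≃ₗ[F] V} (hx : orderOf x = p) (hp0 : (p : F) ≠ 0)
    (hB : ∀ u v, B (x u) (x v) = B u v) :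
    ∃ k < finrank F V, Even k ∧ (fixF x).card = Fintype.card F ^ k ∧
      Fintype.card F ^ finrank F V ≡ Fintype.card F ^ k [MOD p] := by
  have hfin : FiniteDimensional F V := Module.Finite.of_finite
  obtain ⟨k, hk, hk1, hk2⟩ := card_fixF hx
  refine ⟨k, hk, ?_, hk1, hk2⟩
  have h1 := card_sub (fixS x) (fixF x) (fun w => by rw [mem_fixF]; rfl)
  have h2 : Fintype.card F ^ k = Fintype.card F ^ finrank F (fixS x) := hk1.symm.trans h1
  have h3 := Nat.pow_right_injective Fintype.one_lt_card h2
  rw [h3]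
  exact even_fixS hA hnd (by rw [← hx, pow_orderOf_eq_one]) hp0 hB

open Classical in
/-- counting a non-zero functional -/
theorem card_eq_one (hF : Fintype.card F = 2) {f : Dual F V} (hf : f ≠ 0) :
    2 * (Finset.univ.filter fun w => f w = 1).card = Fintype.card V := by
  obtain ⟨w0, hw0⟩ : ∃ w0, f w0 = 1 := by
    by_contra hno
    push Not at hno
    apply hf
    ext w
    exact (two_cases hF _).resolve_right (hno w)
  have h1 : (Finset.univ.filter fun w => f w = 1).card = (Finset.univ.filter fun w => ¬ f w = 1).card := by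
    refine Finset.card_bij (fun w _ => w + w0) ?_ ?_ ?_
    · intro w hw
      rw [Finset.mem_filter] at hw ⊢
      refine ⟨Finset.mem_univ _, ?_⟩
      rw [map_add, hw.2, hw0, one_add_one' hF]
      exact zero_ne_one
    · intro a _ b _ hab
      exact add_right_cancel hab
    · intro b hb
      rw [Finset.mem_filter] at hb
      have h0 : f b = 0 := (two_cases hF _).resolve_right hb.2
      refine ⟨b + w0, ?_, ?_⟩
      · rw [Finset.mem_filter]
        exact ⟨Finset.mem_univ _, by rw [map_add, h0, hw0, zero_add]⟩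
      · rw [add_assoc, add_self' hF, add_zero]
  have h2 := Finset.card_filter_add_card_filter_not (s := (Finset.univ : Finset V)) (fun w => f w = 1)
  rw [← h1, Finset.card_univ] at h2
  omega

open Classical in
/-- counting two functionals -/
theorem card_eq_one_one (hF : Fintype.card F = 2) {f g : Dual F V} (hf : f ≠ 0) (hg : g ≠ 0) (hfg : f ≠ g) :
    4 * (Finset.univ.filter fun w => f w = 1 ∧ g w = 1).card = Fintype.card V := by
  have hne : f + g ≠ 0 := by
    intro h
    apply hfg
    have h1 : f + g = g + g := by rw [h, add_self' hF]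
    exact add_right_cancel h1
  have a1 := card_eq_one hF hf
  have a2 := card_eq_one hF hg
  have a3 := card_eq_one hF hne
  -- f = 1
  have b1 := Finset.card_filter_add_card_filter_not (s := (Finset.univ : Finset V).filter fun w => f w = 1) (fun w => g w = 1)
  have b2 := Finset.card_filter_add_card_filter_not (s := (Finset.univ : Finset V).filter fun w => g w = 1) (fun w => f w = 1)
  have b3 := Finset.card_filter_add_card_filter_not (s := (Finset.univ : Finset V).filter fun w => (f + g) w = 1) (fun w => f w = 1)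
  have e1 : ((Finset.univ : Finset V).filter fun w => f w = 1).filter (fun w => g w = 1) =
      Finset.univ.filter fun w => f w = 1 ∧ g w = 1 := by rw [Finset.filter_filter]
  have e2 : ((Finset.univ : Finset V).filter fun w => g w = 1).filter (fun w => f w = 1) =
      Finset.univ.filter fun w => f w = 1 ∧ g w = 1 := by
    rw [Finset.filter_filter]
    exact Finset.filter_congr fun w _ => and_comm
  have hz : ∀ c : F, ¬ c = 1 → c = 0 := fun c hc => (two_cases hF c).resolve_right hc
  have e3 : ((Finset.univ : Finset V).filter fun w => (f + g) w = 1).filter (fun w => f w = 1) =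
      ((Finset.univ : Finset V).filter fun w => f w = 1).filter (fun w => ¬ g w = 1) := by
    rw [Finset.filter_filter, Finset.filter_filter]
    refine Finset.filter_congr fun w _ => ?_
    rw [LinearMap.add_apply]
    constructor
    · rintro ⟨h1, h2⟩
      refine ⟨h2, fun h3 => ?_⟩
      rw [h2, h3, one_add_one' hF] at h1
      exact zero_ne_one h1
    · rintro ⟨h1, h2⟩
      rw [h1, hz _ h2, add_zero]
      exact ⟨rfl, rfl⟩
  have e4 : ((Finset.univ : Finset V).filter fun w => (f + g) w = 1).filter (fun w => ¬ f w = 1) =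
      ((Finset.univ : Finset V).filter fun w => g w = 1).filter (fun w => ¬ f w = 1) := by
    rw [Finset.filter_filter, Finset.filter_filter]
    refine Finset.filter_congr fun w _ => ?_
    rw [LinearMap.add_apply]
    constructor
    · rintro ⟨h1, h2⟩
      rw [hz _ h2, zero_add] at h1
      exact ⟨h1, h2⟩
    · rintro ⟨h1, h2⟩
      rw [h1, hz _ h2, zero_add]
      exact ⟨rfl, zero_ne_one⟩
  rw [e1] at b1
  rw [e2] at b2
  rw [e3, e4] at b3
  omega

end Sp

end Cfsg.Agent.H180.LEl
end

-- part: H180/LElSpSix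
section
/-!
# Transitivity on vectors for subgroups of `Sp₆(2)` of order divisible by `5 · 7` (team ELUSIVE)
-/

set_option autoImplicit false

namespace Cfsg.Agent.H180.LEl

open Module

section

variable {F : Type*} [Field F] [Fintype F] {V : Type*} [AddCommGroup V] [Module F V] [Fintype V] [DecidableEq V]

/-- sums of invariant functions over the non-zero vectors, by the fixed vectors of `s` -/
theorem sum_orb {X : Subgroup (V ≃ₗ[F] V)} {s : V ≃ₗ[F] V} {m : ℕ}
    (h : ∀ v : V, v ≠ 0 → (orb X v).card = m * (orb X v ∩ fixF s).card)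
    {g : V → ℚ} (hg : ∀ x ∈ X, ∀ w, g (x w) = g w) :
    ∑ w ∈ Finset.univ.erase 0, g w = m * ∑ t ∈ (fixF s).erase 0, g t := by
  classical
  have hgo : ∀ v w, w ∈ orb X v → g w = g v := by
    intro v w hw
    obtain ⟨x, hx, rfl⟩ := mem_orb.1 hw
    exact hg x hx v
  set S : Finset V := Finset.univ.erase 0 with hS
  set K : Finset V := (fixF s).erase 0 with hK
  have hSm : ∀ w, w ∈ S ↔ w ≠ 0 := fun w => by rw [hS, Finset.mem_erase]; exact and_iff_left (Finset.mem_univ _)
  have hint : ∀ w : V, w ≠ 0 → orb X w ∩ fixF s = K.filter fun t => t ∈ orb X w := by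
    intro w hw
    ext t
    rw [Finset.mem_inter, Finset.mem_filter, hK, Finset.mem_erase]
    constructor
    · rintro ⟨h1, h2⟩
      exact ⟨⟨orb_ne_zero hw h1, h2⟩, h1⟩
    · rintro ⟨⟨_, h2⟩, h1⟩
      exact ⟨h1, h2⟩
  have hpos : ∀ w : V, w ≠ 0 → ((orb X w ∩ fixF s).card : ℚ) ≠ 0 := by
    intro w hw h0
    have h1 := h w hw
    have h2 : (orb X w ∩ fixF s).card = 0 := by exact_mod_cast h0
    rw [h2, mul_zero] at h1
    have := orb_pos X w
    omega
  have e1 : ∑ w ∈ S, g w = ∑ w ∈ S, ∑ t ∈ K, if t ∈ orb X w then g w / (orb X w ∩ fixF s).card else 0 := by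
    refine Finset.sum_congr rfl fun w hw => ?_
    have hw0 := (hSm w).1 hw
    rw [← Finset.sum_filter, ← hint w hw0, Finset.sum_const, nsmul_eq_mul, mul_div_cancel₀ _ (hpos w hw0)]
  rw [e1, Finset.sum_comm, Finset.mul_sum]
  refine Finset.sum_congr rfl fun t ht => ?_
  have ht0 : t ≠ 0 := (Finset.mem_erase.1 ht).1
  have e2 : ∀ w ∈ S, (if t ∈ orb X w then g w / (orb X w ∩ fixF s).card else 0) =
      if w ∈ orb X t then g t / (orb X t ∩ fixF s).card else 0 := by
    intro w _
    by_cases hw : w ∈ orb X t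
    · rw [if_pos hw, if_pos (orb_symm hw), orb_eq hw, hgo t w hw]
    · rw [if_neg hw, if_neg fun h => hw (orb_symm h)]
  rw [Finset.sum_congr rfl e2, ← Finset.sum_filter]
  have e3 : (S.filter fun w => w ∈ orb X t) = orb X t := by
    ext w
    rw [Finset.mem_filter, hSm]
    exact ⟨fun h => h.2, fun h => ⟨orb_ne_zero ht0 h, h⟩⟩
  rw [e3, Finset.sum_const, nsmul_eq_mul, h t ht0, Nat.cast_mul]
  have := hpos t ht0
  field_simp

end

section

variable {F : Type*} [Field F] [Fintype F] {V : Type*} [AddCommGroup V] [Module F V] [Fintype V] [DecidableEq V]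

/-- transitivity for `Sp₆(2)` -/
theorem trans6 (hF : Fintype.card F = 2) (hV : finrank F V = 6) {B : LinearMap.BilinForm F V} (hA : B.IsAlt)
    (hnd : ∀ u, (∀ v, B u v = 0) → u = 0) {X : Subgroup (V ≃ₗ[F] V)} (hB : ∀ g ∈ X, ∀ u v, B (g u) (g v) = B u v)
    {x s d : V ≃ₗ[F] V} (hxX : x ∈ X) (hx : orderOf x = 7) (hsX : s ∈ X) (hs : orderOf s = 5)
    (hdX : d ∈ X) (hd : ∀ v, v + d v + d (d v) = 0) :
    ∀ u w : V, u ≠ 0 → w ≠ 0 → ∃ g ∈ X, g u = w := by
  classical
  have hcV : Fintype.card V = 64 := by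
    rw [Module.card_eq_pow_finrank (K := F), hF, hV]; norm_num
  have p7 : Fact (Nat.Prime 7) := ⟨by norm_num⟩
  have p5 : Fact (Nat.Prime 5) := ⟨by norm_num⟩
  have p3 : Fact (Nat.Prime 3) := ⟨by norm_num⟩
  have hs5 : s ^ 5 = 1 := by rw [← hs, pow_orderOf_eq_one]
  have hfx : ∀ v, x v = v → v = 0 := by
    obtain ⟨k, hk, hke, hk1, hk2⟩ := card_fixF_even hA hnd hx (odd_ne_zero hF (by decide)) (hB x hxX)
    rw [hF, hV] at hk2
    rw [hF] at hk1
    rw [hV] at hk
    have hk3 : k = 0 := by
      interval_cases k <;> first | rfl | (exfalso; revert hk2; decide) | (exfalso; revert hke; decide)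
    rw [hk3, pow_zero] at hk1
    obtain ⟨a, ha⟩ := Finset.card_eq_one.1 hk1
    have h0 := zero_mem_fixF x
    rw [ha, Finset.mem_singleton] at h0
    intro v hv
    have : v ∈ fixF x := mem_fixF.2 hv
    rwa [ha, Finset.mem_singleton, ← h0] at this
  have hfs : (fixF s).card = 4 := by
    obtain ⟨k, hk, hke, hk1, hk2⟩ := card_fixF_even hA hnd hs (odd_ne_zero hF (by decide)) (hB s hsX)
    rw [hF, hV] at hk2
    rw [hF] at hk1
    rw [hV] at hk
    have hk3 : k = 2 := by
      interval_cases k <;> first | rfl | (exfalso; revert hk2; decide) | (exfalso; revert hke; decide)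
    rw [hk1, hk3]
    norm_num
  have hfd : ∀ v, d v = v → v = 0 := by
    intro v hv
    have := hd v
    rw [hv, hv, add_self' hF, zero_add] at this
    exact this
  have hemp : ∀ g : V ≃ₗ[F] V, (∀ v, g v = v → v = 0) → ∀ v : V, v ≠ 0 → orb X v ∩ fixF g = ∅ := by
    intro g hg v hv
    rw [Finset.eq_empty_iff_forall_notMem]
    intro w hw
    rw [Finset.mem_inter, mem_fixF] at hw
    exact orb_ne_zero hv hw.1 (hg w hw.2)
  -- the sizes of the orbits
  have hsize : ∀ v : V, v ≠ 0 → (orb X v).card = 21 * (orb X v ∩ fixF s).card ∧ (orb X v).card ≤ 63 := by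
    intro v hv
    have m1 := card_mod' (p := 7) (by rw [← hx, pow_orderOf_eq_one]) (orb X v) (orb_inv hxX)
    have m2 := card_mod' (order_three hd) (orb X v) (orb_inv hdX)
    have m3 := card_mod' hs5 (orb X v) (orb_inv hsX)
    rw [hemp x hfx v hv, Finset.card_empty] at m1
    rw [hemp d hfd v hv, Finset.card_empty] at m2
    have hle : (orb X v).card ≤ 63 := by
      have := Finset.card_le_card (orb_sub (X := X) hv)
      rwa [Finset.card_erase_of_mem (Finset.mem_univ _), Finset.card_univ, hcV] at this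
    have hle2 : (orb X v ∩ fixF s).card ≤ 3 := by
      have h1 : orb X v ∩ fixF s ⊆ (fixF s).erase 0 := by
        intro w hw
        rw [Finset.mem_inter] at hw
        exact Finset.mem_erase.2 ⟨orb_ne_zero hv hw.1, hw.2⟩
      have := Finset.card_le_card h1
      rwa [Finset.card_erase_of_mem (zero_mem_fixF s), hfs] at this
    have hpos := orb_pos X v
    refine ⟨?_, hle⟩
    unfold Nat.ModEq at m1 m2 m3
    (clear * - m1 m2 m3 hle hle2; (solve | lia | omega))
  -- by contradiction
  by_contra hno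
  push Not at hno
  obtain ⟨u0, w0, hu0, hw0, huw⟩ := hno
  obtain ⟨v0, hv0, hO⟩ : ∃ v0 : V, v0 ≠ 0 ∧ (orb X v0).card = 21 := by
    by_contra hno
    push Not at hno
    have h1 := hsize u0 hu0
    have h2 := hsize w0 hw0
    have h3 := hno u0 hu0
    have h4 := hno w0 hw0
    have hdisj : Disjoint (orb X u0) (orb X w0) := by
      rw [Finset.disjoint_left]
      intro t ht1 ht2
      have h5 : w0 ∈ orb X u0 := orb_trans ht1 (orb_symm ht2)
      obtain ⟨g, hg, hgw⟩ := mem_orb.1 h5
      exact huw g hg hgw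
    have h5 : (orb X u0 ∪ orb X w0).card ≤ 63 := by
      have := Finset.card_le_card (Finset.union_subset (orb_sub (X := X) hu0) (orb_sub (X := X) hw0))
      rwa [Finset.card_erase_of_mem (Finset.mem_univ _), Finset.card_univ, hcV] at this
    rw [Finset.card_union_of_disjoint hdisj] at h5
    have p1 := orb_pos X u0
    have p2 := orb_pos X w0
    omega
  set O := orb X v0 with hOdef
  have hOfix : (O ∩ fixF s).card = 1 := by
    have := (hsize v0 hv0).1
    rw [← hOdef, hO] at this
    omega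
  obtain ⟨a, ha⟩ := Finset.card_eq_one.1 hOfix
  have haO : a ∈ O ∧ s a = a := by
    have : a ∈ O ∩ fixF s := by rw [ha]; exact Finset.mem_singleton_self a
    rwa [Finset.mem_inter, mem_fixF] at this
  have ha0 : a ≠ 0 := orb_ne_zero hv0 haO.1
  have honly : ∀ u ∈ O, s u = u → u = a := by
    intro u hu hsu
    have : u ∈ O ∩ fixF s := Finset.mem_inter.2 ⟨hu, mem_fixF.2 hsu⟩
    rwa [ha, Finset.mem_singleton] at this
  -- another fixed vector
  obtain ⟨b, hb, hab⟩ : ∃ b, s b = b ∧ B a b = 1 := by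
    by_contra hno2
    push Not at hno2
    exact ha0 (nondeg_fixS hnd hs5 (odd_ne_zero hF (by decide)) (hB s hsX) haO.2 fun v hv =>
      (two_cases hF _).resolve_right (hno2 v hv))
  have hb0 : b ≠ 0 := by
    rintro rfl
    rw [map_zero] at hab
    exact zero_ne_one hab
  have hne : a ≠ b := by
    rintro rfl
    rw [hA a] at hab
    exact zero_ne_one hab
  have hsab : s (a + b) = a + b := by rw [map_add, haO.2, hb]
  have hab0 : a + b ≠ 0 := by
    intro h
    apply hne
    have : a + b = b + b := by rw [h, add_self' hF]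
    exact add_right_cancel this
  have hK : (fixF s).erase 0 = {a, b, a + b} := by
    symm
    apply Finset.eq_of_subset_of_card_le
    · intro w hw
      rw [Finset.mem_insert, Finset.mem_insert, Finset.mem_singleton] at hw
      rw [Finset.mem_erase, mem_fixF]
      rcases hw with rfl | rfl | rfl
      · exact ⟨ha0, haO.2⟩
      · exact ⟨hb0, hb⟩
      · exact ⟨hab0, hsab⟩
    · rw [Finset.card_erase_of_mem (zero_mem_fixF s), hfs, Finset.card_insert_of_notMem, Finset.card_pair]
      · intro h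
        exact ha0 (add_eq_right.1 h.symm)
      · rw [Finset.mem_insert, Finset.mem_singleton]
        push Not
        exact ⟨hne, fun h => hb0 (add_eq_left.1 h.symm)⟩
  -- the counting function
  let N : V → ℕ := fun w => (O.filter fun u => B u w = 1).card
  have hNinv : ∀ g ∈ X, ∀ w, N (g w) = N w := by
    intro g hg w
    refine Finset.card_bij (fun u _ => g⁻¹ u) ?_ ?_ ?_
    · intro u hu
      rw [Finset.mem_filter] at hu ⊢
      refine ⟨orb_inv (X.inv_mem hg) u hu.1, ?_⟩
      rw [← hB g hg, show g ((g⁻¹ : V ≃ₗ[F] V) u) = u from LinearEquiv.apply_symm_apply g u]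
      exact hu.2
    · intro u _ v _ huv
      exact (g⁻¹ : V ≃ₗ[F] V).injective huv
    · intro u hu
      rw [Finset.mem_filter] at hu
      refine ⟨g u, ?_, LinearEquiv.symm_apply_apply g u⟩
      rw [Finset.mem_filter]
      exact ⟨orb_inv hg u hu.1, by rw [hB g hg]; exact hu.2⟩
  have hsum0 : ∑ u ∈ O, u = 0 := by
    apply hfx
    rw [map_sum]
    refine Finset.sum_bij (fun u _ => x u) ?_ ?_ ?_ ?_
    · intro u hu
      exact orb_inv hxX u hu
    · intro u _ v _ huv
      exact x.injective huv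
    · intro u hu
      exact ⟨x⁻¹ u, orb_inv (X.inv_mem hxX) u hu, LinearEquiv.apply_symm_apply x u⟩
    · intro u _
      rfl
  have hNeven : ∀ w, Even (N w) := by
    intro w
    rw [← Nat.not_odd_iff_even]
    intro hodd
    apply odd_ne_zero hF hodd
    have h1 : B (∑ u ∈ O, u) w = ∑ u ∈ O, B u w := by
      rw [map_sum, LinearMap.sum_apply]
    rw [hsum0, map_zero, LinearMap.zero_apply] at h1
    rw [h1]
    have h2 : ∑ u ∈ O, B u w = ∑ u ∈ O, if B u w = 1 then (1 : F) else 0 := by
      refine Finset.sum_congr rfl fun u _ => ?_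
      rcases two_cases hF (B u w) with h | h
      · rw [h, if_neg zero_ne_one]
      · rw [h, if_pos rfl]
    rw [h2, Finset.sum_boole]
  have hNmod : ∀ w, s w = w → N w ≡ (if B a w = 1 then 1 else 0) [MOD 5] := by
    intro w hw
    have h1 := card_mod' hs5 (O.filter fun u => B u w = 1) (by
      intro u hu
      rw [Finset.mem_filter] at hu ⊢
      refine ⟨orb_inv hsX u hu.1, ?_⟩
      have h2 := hB s hsX u w
      rw [hw] at h2
      rw [h2]
      exact hu.2)
    have h2 : ((O.filter fun u => B u w = 1) ∩ fixF s).card = if B a w = 1 then 1 else 0 := by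
      split_ifs with h3
      · rw [Finset.card_eq_one]
        refine ⟨a, ?_⟩
        ext u
        rw [Finset.mem_inter, Finset.mem_filter, mem_fixF, Finset.mem_singleton]
        constructor
        · rintro ⟨⟨h4, _⟩, h5⟩
          exact honly u h4 h5
        · rintro rfl
          exact ⟨⟨haO.1, h3⟩, haO.2⟩
      · rw [Finset.card_eq_zero, Finset.eq_empty_iff_forall_notMem]
        intro u hu
        rw [Finset.mem_inter, Finset.mem_filter, mem_fixF] at hu
        have := honly u hu.1.1 hu.2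
        rw [this] at hu
        exact h3 hu.1.2
    rw [h2] at h1
    exact h1
  have hNle : ∀ w, N w ≤ 21 := by
    intro w
    have := Finset.card_filter_le O (fun u => B u w = 1)
    rw [hO] at this
    exact this
  -- the values of `N`
  have hNa := hNmod a haO.2
  rw [hA a, if_neg zero_ne_one] at hNa
  have hNb := hNmod b hb
  rw [hab, if_pos rfl] at hNb
  have hNc := hNmod (a + b) hsab
  rw [map_add, hA a, zero_add, hab, if_pos rfl] at hNc
  have eva := hNeven a
  have evb := hNeven b
  have evc := hNeven (a + b)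
  have lea := hNle a
  have leb := hNle b
  have lec := hNle (a + b)
  -- the two sums
  have hB0 : ∀ u : V, u ≠ 0 → B u ≠ 0 := by
    intro u hu h
    exact hu (hnd u fun v => by rw [h]; rfl)
  have hBinj : ∀ u v : V, u ≠ v → B u ≠ B v := by
    intro u v huv h
    apply huv
    have : u - v = 0 := hnd _ fun w => by rw [map_sub, h, sub_self]; rfl
    exact sub_eq_zero.1 this
  have hOne : ∀ u ∈ O, u ≠ 0 := fun u hu => orb_ne_zero hv0 hu
  have s1 : ∑ w : V, N w = 21 * 32 := by
    have h1 : ∀ w, N w = ∑ u ∈ O, if B u w = 1 then 1 else 0 := fun w => by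
      rw [Finset.sum_boole, Nat.cast_id]
    simp only [h1]
    rw [Finset.sum_comm]
    have h2 : ∀ u ∈ O, ∑ w : V, (if B u w = 1 then 1 else 0) = 32 := by
      intro u hu
      rw [Finset.sum_boole, Nat.cast_id]
      have := card_eq_one hF (hB0 u (hOne u hu))
      rw [hcV] at this
      omega
    rw [Finset.sum_congr rfl h2, Finset.sum_const, hO, smul_eq_mul]
  have s2 : ∑ w : V, N w * N w = 21 * 32 + 21 * 20 * 16 := by
    have h1 : ∀ w, N w * N w = ∑ u ∈ O, ∑ u' ∈ O, if B u w = 1 ∧ B u' w = 1 then 1 else 0 := by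
      intro w
      have h2 : N w = ∑ u ∈ O, if B u w = 1 then 1 else 0 := by
        rw [Finset.sum_boole, Nat.cast_id]
      rw [h2, Finset.sum_mul_sum]
      refine Finset.sum_congr rfl fun u _ => Finset.sum_congr rfl fun u' _ => ?_
      by_cases h3 : B u w = 1 <;> by_cases h4 : B u' w = 1 <;> simp [h3, h4]
    simp only [h1]
    rw [Finset.sum_comm]
    have h2 : ∀ u ∈ O, ∑ w : V, ∑ u' ∈ O, (if B u w = 1 ∧ B u' w = 1 then 1 else 0) = 32 + 20 * 16 := by
      intro u hu
      rw [Finset.sum_comm, ← Finset.add_sum_erase O _ hu]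
      congr 1
      · rw [Finset.sum_boole, Nat.cast_id]
        have h5 := card_eq_one hF (hB0 u (hOne u hu))
        rw [hcV] at h5
        simp only [and_self]
        omega
      · have h3 : ∀ u' ∈ O.erase u, ∑ w : V, (if B u w = 1 ∧ B u' w = 1 then 1 else 0) = 16 := by
          intro u' hu'
          rw [Finset.mem_erase] at hu'
          rw [Finset.sum_boole, Nat.cast_id]
          have h5 := card_eq_one_one hF (hB0 u (hOne u hu)) (hB0 u' (hOne u' hu'.2)) (hBinj u u' hu'.1.symm)
          rw [hcV] at h5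
          omega
        rw [Finset.sum_congr rfl h3, Finset.sum_const, Finset.card_erase_of_mem hu, hO, smul_eq_mul]
    rw [Finset.sum_congr rfl h2, Finset.sum_const, hO, smul_eq_mul]
  have hN0 : N 0 = 0 := by
    show (O.filter fun u => B u 0 = 1).card = 0
    rw [Finset.card_eq_zero, Finset.eq_empty_iff_forall_notMem]
    intro u hu
    rw [Finset.mem_filter, map_zero] at hu
    exact zero_ne_one hu.2
  have hsz : ∀ v : V, v ≠ 0 → (orb X v).card = 21 * (orb X v ∩ fixF s).card := fun v hv => (hsize v hv).1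
  have hK3 : ∀ g : V → ℚ, ∑ t ∈ (fixF s).erase 0, g t = g a + (g b + g (a + b)) := by
    intro g
    rw [hK, Finset.sum_insert, Finset.sum_pair]
    · intro h
      exact ha0 (add_eq_right.1 h.symm)
    · rw [Finset.mem_insert, Finset.mem_singleton]
      push Not
      exact ⟨hne, fun h => hb0 (add_eq_left.1 h.symm)⟩
  have t1 := sum_orb hsz (g := fun w => (N w : ℚ)) (fun g hg w => by rw [hNinv g hg])
  have t2 := sum_orb hsz (g := fun w => (N w * N w : ℚ)) (fun g hg w => by rw [hNinv g hg])
  rw [hK3] at t1 t2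
  have q1 : N a + N b + N (a + b) = 32 := by
    have h1 : ∑ w ∈ Finset.univ.erase 0, N w = 21 * 32 := by
      rw [← s1, ← Finset.add_sum_erase Finset.univ N (Finset.mem_univ 0), hN0, zero_add]
    have h3 : 21 * 32 = 21 * (N a + (N b + N (a + b))) := by
      rw [← h1]
      exact_mod_cast t1
    omega
  have q2 : N a * N a + N b * N b + N (a + b) * N (a + b) = 352 := by
    have h1 : ∑ w ∈ Finset.univ.erase 0, N w * N w = 21 * 32 + 21 * 20 * 16 := by
      rw [← s2, ← Finset.add_sum_erase Finset.univ (fun w => N w * N w) (Finset.mem_univ 0), hN0, zero_mul, zero_add]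
    have h3 : 21 * 32 + 21 * 20 * 16 = 21 * (N a * N a + (N b * N b + N (a + b) * N (a + b))) := by
      rw [← h1]
      exact_mod_cast t2
    omega
  clear_value N
  generalize N a = na at *
  generalize N b = nb at *
  generalize N (a + b) = nc at *
  unfold Nat.ModEq at hNa hNb hNc
  obtain ⟨ka, rfl⟩ := eva
  obtain ⟨kb, rfl⟩ := evb
  obtain ⟨kc, rfl⟩ := evc
  have ca : ka = 0 ∨ ka = 5 ∨ ka = 10 := by (clear * - hNb hNc q1; (solve | lia | omega))
  have cb : kb = 3 ∨ kb = 8 := by (clear * - hNb leb; (solve | lia | omega))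
  have cc : kc = 3 ∨ kc = 8 := by (clear * - hNc lec; omega)
  rcases ca with rfl | rfl | rfl <;> rcases cb with rfl | rfl <;> rcases cc with rfl | rfl <;> (clear * - q1 q2; omega)

end

end Cfsg.Agent.H180.LEl
end

-- part: H180/LElSeven
section
/-!
# Subgroups of `GL₇(2)` (team ELUSIVE, small groups)
-/

set_option autoImplicit false

namespace Cfsg.Agent.H180.LEl

open Module

section Seven

variable {F : Type*} [Field F] [Fintype F] {V : Type*} [AddCommGroup V] [Module F V] [Fintype V] [DecidableEq V]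

end Seven

end Cfsg.Agent.H180.LEl
end

-- part: H180/LElSLFinal
section
/-!
# `ClMaxA` for `L₆(2)`, `L₇(2)`, `L₄(4)` (team ELUSIVE, small groups)
-/

set_option autoImplicit false

namespace Cfsg.Agent.H180.LEl

open Module Matrix
open Cfsg.Agent.H396 (Der der_of_prime)
open Cfsg.Agent.H278.El (ClMaxA ClMax ClT)

theorem dvd_of_not_der {T : Type*} [Group T] [Finite T] {R : Subgroup T} (h : ¬ Der T R) {p : ℕ} (hp : p.Prime)
    (hd : p ∣ Nat.card T) : p ∣ Nat.card R := by
  by_contra hn
  exact h (der_of_prime hp hd hn)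

theorem exists_of_not_der {T : Type*} [Group T] {R : Subgroup T} (h : ¬ Der T R) {x : T} (hx : (orderOf x).Prime) :
    ∃ φ : T ≃* T, φ x ∈ R := by
  by_contra hno
  push Not at hno
  exact h ⟨x, hx, hno⟩

instance fact31 : Fact (Nat.Prime 31) := ⟨by norm_num⟩
instance fact127 : Fact (Nat.Prime 127) := ⟨by norm_num⟩
instance fact17 : Fact (Nat.Prime 17) := ⟨by norm_num⟩
instance fact7 : Fact (Nat.Prime 7) := ⟨by norm_num⟩
instance fact5 : Fact (Nat.Prime 5) := ⟨by norm_num⟩

/-! ### `SL₄(4)` -/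

open Cfsg.Agent.SporadicA.FieldFour (F4)

/-! ### the projective groups -/

end Cfsg.Agent.H180.LEl
end

-- part: H180/LElSpFinal
section
/-!
# `ClMaxA` for `Sp₆(2)` (team ELUSIVE, small groups)
-/

set_option autoImplicit false

namespace Cfsg.Agent.H180.LEl

open Module Matrix Cfsg
open Cfsg.Agent.ClassicalGeometry.SympBasic
open Cfsg.Agent.H278.El (ClMaxA)
open Cfsg.Agent.H396 (Der der_of_prime)

section

variable {F : Type*} [Field F] {m : ℕ}

theorem sp_mul_inv_mulVec (g : symplecticGroup (Fin m) F) (v : Fin m ⊕ Fin m → F) :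
    g.1 *ᵥ ((g⁻¹ : symplecticGroup (Fin m) F).1 *ᵥ v) = v := by
  rw [← coe_mul_mulVec, mul_inv_cancel]
  exact Matrix.one_mulVec v

theorem sp_inv_mul_mulVec (g : symplecticGroup (Fin m) F) (v : Fin m ⊕ Fin m → F) :
    (g⁻¹ : symplecticGroup (Fin m) F).1 *ᵥ (g.1 *ᵥ v) = v := by
  rw [← coe_mul_mulVec, inv_mul_cancel]
  exact Matrix.one_mulVec v

/-- the natural representation -/
def spRho (m : ℕ) (F : Type*) [Field F] : symplecticGroup (Fin m) F →* ((Fin m ⊕ Fin m → F) ≃ₗ[F] (Fin m ⊕ Fin m → F)) where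
  toFun g :=
    { toFun := fun v => g.1 *ᵥ v
      map_add' := fun u v => Matrix.mulVec_add _ u v
      map_smul' := fun c v => Matrix.mulVec_smul _ c v
      invFun := fun v => (g⁻¹ : symplecticGroup (Fin m) F).1 *ᵥ v
      left_inv := sp_inv_mul_mulVec g
      right_inv := sp_mul_inv_mulVec g }
  map_one' := by
    apply LinearEquiv.ext
    intro v
    exact Matrix.one_mulVec v
  map_mul' g h := by
    apply LinearEquiv.ext
    intro v
    exact coe_mul_mulVec g h v

theorem spRho_injective : Function.Injective (spRho m F) := by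
  intro g h hgh
  apply Subtype.ext
  rw [← Matrix.mulVec_injective.eq_iff]
  funext v
  exact congrArg (fun φ : (Fin m ⊕ Fin m → F) ≃ₗ[F] (Fin m ⊕ Fin m → F) => φ v) hgh

end

section Two

variable {F : Type*} [Field F] [Fintype F] (hF : Fintype.card F = 2) {m : ℕ}
include hF

theorem sp_center_bot (hm : 1 ≤ m) : Subgroup.center (symplecticGroup (Fin m) F) = ⊥ := by
  rw [Subgroup.eq_bot_iff_forall]
  intro A hA
  obtain ⟨a, ha⟩ := (Cfsg.Agent.LieClassical.SympCenter.mem_center_iff m A).1 hA
  have h1 : a * a = 1 := Cfsg.Agent.LieClassical.SympCenter.sq_eq_one_of_smul_mem hm (ha ▸ A.2)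
  rcases two_cases hF a with h | h
  · rw [h, mul_zero] at h1
    exact absurd h1 zero_ne_one
  · apply Subtype.ext
    rw [ha, h, one_smul]
    rfl

/-- `PSp = Sp` over the field of two elements -/
noncomputable def pspEquiv (hm : 1 ≤ m) : symplecticGroup (Fin m) F ≃* PSp m F :=
  ((QuotientGroup.quotientMulEquivOfEq (sp_center_bot hF hm)).trans QuotientGroup.quotientBot).symm

/-- all automorphisms are inner -/
theorem sp_inner (hm : 3 ≤ m) (φ : symplecticGroup (Fin m) F ≃* symplecticGroup (Fin m) F) :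
    ∃ g : symplecticGroup (Fin m) F, ∀ x, φ x = g * x * g⁻¹ := by
  let e := pspEquiv hF (m := m) (by omega)
  obtain ⟨y, hy⟩ := Cfsg.Agent.OddHalf.Table.OutSpSix.inner hm (by rw [Nat.card_eq_fintype_card, hF])
    ((e.symm.trans φ).trans e : MulAut (PSp m F))
  refine ⟨e.symm y, fun x => ?_⟩
  have h1 := congrArg (fun α : MulAut (PSp m F) => α (e x)) hy
  have h2 : e (φ (e.symm (e x))) = y * e x * y⁻¹ := h1
  rw [e.symm_apply_apply] at h2
  apply e.injective
  rw [h2, map_mul, map_mul, map_inv, e.apply_symm_apply]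

/-- all the transvections of one vector -/
theorem sp_eq_top {R : Subgroup (symplecticGroup (Fin m) F)} (h : ∀ w : Fin m ⊕ Fin m → F, w ≠ 0 → transv w 1 ∈ R) :
    R = ⊤ := by
  rw [← top_le_iff, ← Cfsg.Agent.S0765.result m, Subgroup.closure_le]
  rintro A ⟨w, c, hA⟩
  have h1 : ∀ B : symplecticGroup (Fin m) F, B.1 = 1 → B ∈ R := by
    intro B hB
    have : B = 1 := Subtype.ext hB
    rw [this]
    exact R.one_mem
  rcases two_cases hF c with hc | hc
  · apply h1
    rw [hA, hc, sympTransvection_zero]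
  by_cases hw : w = 0
  · apply h1
    rw [hA, hw, ← Matrix.mulVec_injective.eq_iff]
    funext x
    rw [sympTransvection_mulVec, smul_zero, add_zero, Matrix.one_mulVec]
  · have h2 := h w hw
    have h3 : A = transv w 1 := Subtype.ext (by rw [hA, hc]; rfl)
    rw [h3]
    exact h2

theorem transv_sq (w : Fin m ⊕ Fin m → F) : (transv w (1 : F)) ^ 2 = 1 := by
  apply Subtype.ext
  rw [pow_two]
  show sympTransvection m w 1 * sympTransvection m w 1 = 1
  rw [sympTransvection_mul, one_add_one' hF, sympTransvection_zero]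

omit [Fintype F] hF in
theorem transv_ne_one {w : Fin m ⊕ Fin m → F} (hw : w ≠ 0) : transv w (1 : F) ≠ 1 := by
  intro h
  apply hw
  apply eq_zero_of_forall_sympForm_left
  intro x
  have h1 : sympTransvection m w (1 : F) *ᵥ x = x := by
    have h2 := congrArg Subtype.val h
    rw [coe_transv] at h2
    rw [h2]
    exact Matrix.one_mulVec x
  rw [sympTransvection_mulVec, one_mul] at h1
  exact (smul_eq_zero.1 (add_eq_left.1 h1)).resolve_right hw

omit [Fintype F] hF in
theorem conj_transv (g : symplecticGroup (Fin m) F) (w : Fin m ⊕ Fin m → F) (c : F) :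
    g * transv w c * g⁻¹ = transv (g.1 *ᵥ w) c := by
  rw [mul_inv_eq_iff_eq_mul]
  apply Subtype.ext
  exact mul_sympTransvection g.2 w c

/-- the elements of order 3 without fixed vectors -/
theorem sp_three (m : ℕ) : ∃ d : symplecticGroup (Fin m) F, ∀ v : Fin m ⊕ Fin m → F,
    v + d.1 *ᵥ v + d.1 *ᵥ (d.1 *ᵥ v) = 0 := by
  have h2 : (1 : F) + 1 = 0 := one_add_one' hF
  have hneg : ∀ M : Matrix (Fin m) (Fin m) F, -M = M := by
    intro M
    ext i j
    rw [Matrix.neg_apply, neg_eq_iff_add_eq_zero]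
    exact add_self' hF (M i j)
  have hM2 : (1 : Matrix (Fin m) (Fin m) F) + 1 = 0 := by
    nth_rewrite 1 [← hneg 1]
    exact neg_add_cancel 1
  refine ⟨⟨Matrix.fromBlocks 0 1 1 1, ?_⟩, ?_⟩
  · rw [SymplecticGroup.mem_iff, Matrix.J, Matrix.fromBlocks_transpose, Matrix.fromBlocks_multiply, Matrix.fromBlocks_multiply]
    simp [hneg, hM2]
  · intro v
    have h3 : (Matrix.fromBlocks 0 1 1 1 : Matrix (Fin m ⊕ Fin m) (Fin m ⊕ Fin m) F) * Matrix.fromBlocks 0 1 1 1 =
        Matrix.fromBlocks 1 1 1 0 := by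
      rw [Matrix.fromBlocks_multiply]
      simp [hM2]
    have h4 : (1 : Matrix (Fin m ⊕ Fin m) (Fin m ⊕ Fin m) F) + Matrix.fromBlocks 0 1 1 1 + Matrix.fromBlocks 1 1 1 0 = 0 := by
      rw [← Matrix.fromBlocks_one, Matrix.fromBlocks_add, Matrix.fromBlocks_add]
      simp [hM2]
    show v + Matrix.fromBlocks 0 1 1 1 *ᵥ v + Matrix.fromBlocks 0 1 1 1 *ᵥ (Matrix.fromBlocks 0 1 1 1 *ᵥ v) = 0
    rw [Matrix.mulVec_mulVec, h3]
    nth_rewrite 1 [← Matrix.one_mulVec v]
    rw [← Matrix.add_mulVec, ← Matrix.add_mulVec, h4, Matrix.zero_mulVec]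

end Two

section Final

variable {F : Type*} [Field F] [Fintype F] (hF : Fintype.card F = 2)
include hF

theorem card_sp6 : Nat.card (symplecticGroup (Fin 3) F) = 1451520 := by
  rw [Cfsg.Agent.LieClassical.SympCount.card_symplecticGroup, hF]
  decide +kernel

seal _root_.Finset.sum _root_.dotProduct in
/-- **`Sp₆(2)`**: every proper subgroup misses a class of elements of prime order. -/
theorem der_sp6 {R : Subgroup (symplecticGroup (Fin 3) F)} (hR : R ≠ ⊤) : Der (symplecticGroup (Fin 3) F) R := by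
  classical
  by_contra hn
  apply hR
  have hfin : Finite (symplecticGroup (Fin 3) F) := inferInstance
  have hV : finrank F (Fin 3 ⊕ Fin 3 → F) = 6 := by
    rw [Module.finrank_fintype_fun_eq_card, Fintype.card_sum, Fintype.card_fin]
  let ρ := spRho 3 F
  have hρ : Function.Injective ρ := spRho_injective
  obtain ⟨⟨x, hxR⟩, hx⟩ := exists_prime_orderOf_dvd_card' (G := R) 7
    (dvd_of_not_der hn (by norm_num) (by rw [card_sp6 hF]; norm_num))
  rw [Subgroup.orderOf_mk] at hx
  obtain ⟨⟨s, hsR⟩, hs⟩ := exists_prime_orderOf_dvd_card' (G := R) 5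
    (dvd_of_not_der hn (by norm_num) (by rw [card_sp6 hF]; norm_num))
  rw [Subgroup.orderOf_mk] at hs
  obtain ⟨w0, hw0⟩ : ∃ w0 : Fin 3 ⊕ Fin 3 → F, w0 ≠ 0 := exists_ne 0
  -- order 3
  obtain ⟨d, hd⟩ := sp_three hF 3
  have hd3 : d ^ 3 = 1 := by
    apply hρ
    rw [map_pow, map_one]
    exact order_three (d := ρ d) hd
  have hd1 : d ≠ 1 := by
    rintro rfl
    have h1 := hd w0
    have h2 : ∀ v : Fin 3 ⊕ Fin 3 → F, (1 : symplecticGroup (Fin 3) F).1 *ᵥ v = v := Matrix.one_mulVec
    rw [h2, h2, add_self' hF, zero_add] at h1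
    exact hw0 h1
  have p3 : Fact (Nat.Prime 3) := ⟨by norm_num⟩
  obtain ⟨φ, hφ⟩ := exists_of_not_der hn (x := d) (by rw [orderOf_eq_prime hd3 hd1]; norm_num)
  obtain ⟨g, hg⟩ := sp_inner hF (by norm_num) φ
  rw [hg] at hφ
  -- transvection
  obtain ⟨ψ, hψ⟩ := exists_of_not_der hn (x := transv w0 (1 : F)) (by
    rw [orderOf_eq_prime (transv_sq hF w0) (transv_ne_one hw0)]; norm_num)
  obtain ⟨g', hg'⟩ := sp_inner hF (by norm_num) ψ
  rw [hg', conj_transv] at hψ
  have htr := trans6 hF hV (B := sympBilin 3 F) sympBilin_isAlt (fun u hu => eq_zero_of_forall_sympForm_right hu)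
    (X := R.map ρ) (by
      rintro _ ⟨r, _, rfl⟩ u v
      exact sympForm_mulVec r.2 u v)
    (x := ρ x) (s := ρ s) (d := ρ (g * d * g⁻¹)) (Subgroup.mem_map_of_mem ρ hxR)
    (by rw [orderOf_injective ρ hρ, hx]) (Subgroup.mem_map_of_mem ρ hsR) (by rw [orderOf_injective ρ hρ, hs])
    (Subgroup.mem_map_of_mem ρ hφ) (by
      intro v
      rw [map_mul, map_mul]
      show v + (g.1 *ᵥ (d.1 *ᵥ ((g⁻¹ : symplecticGroup (Fin 3) F).1 *ᵥ v))) +
        (g.1 *ᵥ (d.1 *ᵥ ((g⁻¹ : symplecticGroup (Fin 3) F).1 *ᵥ (g.1 *ᵥ (d.1 *ᵥ ((g⁻¹ : symplecticGroup (Fin 3) F).1 *ᵥ v)))))) = 0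
      rw [sp_inv_mul_mulVec]
      nth_rewrite 1 [← sp_mul_inv_mulVec g v]
      rw [← Matrix.mulVec_add, ← Matrix.mulVec_add, hd, Matrix.mulVec_zero])
  apply sp_eq_top hF
  intro w hw
  have hne : g'.1 *ᵥ w0 ≠ 0 := by
    intro h
    apply hw0
    rw [← sp_inv_mul_mulVec g' w0, h, Matrix.mulVec_zero]
  obtain ⟨_, ⟨r, hr, rfl⟩, hrw⟩ := htr _ w hne hw
  have h1 := R.mul_mem (R.mul_mem hr hψ) (R.inv_mem hr)
  rw [conj_transv] at h1
  have h2 : r.1 *ᵥ (g'.1 *ᵥ w0) = w := hrw
  rwa [h2] at h1

end Final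

/-- **`Sp₆(2)`** -/
theorem clMaxA_sp62 {T : Type*} [Group T] {F : Type*} [Field F] [Fintype F] (hF : Fintype.card F = 2)
    (h : Nonempty (T ≃* PSp 3 F)) : ClMaxA T := by
  obtain ⟨e⟩ := h
  exact Cfsg.Agent.H278.El.ClMaxA.congr ((pspEquiv hF (by norm_num)).trans e.symm) fun M hM => der_sp6 hF hM.1

end Cfsg.Agent.H180.LEl
end
end
end
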