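import Cfsg.Agent.H153.Cov.Fi23
import Cfsg.Agent.H393.Iso.TitsJ4
import Cfsg.Agent.H547.SelfCent.Tits
import Cfsg.Agent.H403.TitsSixteen
import Cfsg.Agent.KantorSeitz.PSUTorus
import Cfsg.Agent.H375.InvFix_m3
import Cfsg.Agent.S1074
import Cfsg.Agent.FastGrp
import Cfsg.Agent.Prune
set_option linter.all false
prune_inst 0x7f00000000000000000000000000000000000000000000000000000000000000000000000000000000000000000000000000000000000000000000000000000000000000000000000000000000000000003fffffffffffffffffffffffffffbeffbdffffffff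
open scoped Cfsg.Agent.FastGrp

/-!
# TEAM ELUSIVE: the Tits group (helper180)

A proper subgroup `R` of the Tits group whose order is divisible by 5 and 13 is `L₂(25)` (or `L₂(25).3`): all its
involutions are conjugate.  `der_tits`, `clT_tits`.
-/

set_option autoImplicit false
set_option maxRecDepth 100000

namespace Cfsg.Agent.H180.ElS

open Cfsg Subgroup Cfsg.Agent.OrdDiv Cfsg.Agent.H278.El Cfsg.Agent.H257.El

universe u

/-! ### `U₃(4)` -/

section unitary

open Matrix Cfsg.Agent.KantorSeitz.PSUTorus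

/-- an element of order 5 of `U₃(4)` commuting with a four-group -/
theorem exists_u34 {F : Type*} [Field F] [Fintype F] (hF : Fintype.card F = (2 ^ 2) ^ 2) :
    ∃ g u v : PSU 3 F (2 ^ 2), orderOf g = 5 ∧ orderOf u = 2 ∧ orderOf v = 2 ∧ u ≠ v ∧ g * u = u * g ∧
      g * v = v * g ∧ u * v = v * u := by
  classical
  have hchar : CharP F 2 := by
    obtain ⟨p, hp⟩ := CharP.exists F
    obtain ⟨m, hpp, hm⟩ := FiniteField.card F p
    have h2 : p ∣ 2 := by
      have h3 : p ∣ (2 ^ 2) ^ 2 := by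
        rw [← hF, hm]
        exact dvd_pow_self p m.pos.ne'
      rw [← pow_mul] at h3
      exact hpp.dvd_of_dvd_pow h3
    have h3 := (Nat.prime_dvd_prime_iff_eq hpp Nat.prime_two).1 h2
    rw [← h3]
    exact hp
  have hcardU : Fintype.card Fˣ = 15 := by
    rw [Fintype.card_units, hF]
    norm_num
  obtain ⟨γ, hγ⟩ := IsCyclic.exists_ofOrder_eq_natCard (α := Fˣ)
  rw [Nat.card_eq_fintype_card, hcardU] at hγ
  have ha5 : orderOf (γ ^ 3) = 5 := by
    rw [orderOf_pow_of_dvd (by norm_num) (by rw [hγ]; norm_num), hγ]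
  have hw3 : orderOf (γ ^ 5) = 3 := by
    rw [orderOf_pow_of_dvd (by norm_num) (by rw [hγ]; norm_num), hγ]
  set a : F := ((γ ^ 3 : Fˣ) : F) with ha
  set w : F := ((γ ^ 5 : Fˣ) : F) with hw
  have ha0 : a ≠ 0 := Units.ne_zero _
  have hw0 : w ≠ 0 := Units.ne_zero _
  have haa : a ^ 5 = 1 := by
    have h1 : (γ ^ 3) ^ 5 = 1 := by rw [← ha5, pow_orderOf_eq_one]
    rw [ha, ← Units.val_pow_eq_pow_val, h1, Units.val_one]
  have hww : w ^ 3 = 1 := by
    have h1 : (γ ^ 5) ^ 3 = 1 := by rw [← hw3, pow_orderOf_eq_one]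
    rw [hw, ← Units.val_pow_eq_pow_val, h1, Units.val_one]
  have hw1 : w ≠ 1 := by
    intro h
    have h1 : γ ^ 5 = 1 := Units.ext h
    rw [h1, orderOf_one] at hw3
    norm_num at hw3
  have ha3 : a ^ 3 ≠ 1 := by
    intro h
    have h1 : (γ ^ 3) ^ 3 = 1 := Units.ext (by rw [Units.val_pow_eq_pow_val, Units.val_one, ← ha, h])
    have h2 := orderOf_dvd_of_pow_eq_one h1
    rw [ha5] at h2
    norm_num at h2
  set b : F := (a⁻¹) ^ 2 with hb
  have hab : a * a * b = 1 := by
    rw [hb]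
    field_simp
  have haq : a * a ^ 2 ^ 2 = 1 := by
    rw [← haa]; ring
  have hb5 : b ^ 5 = 1 := by
    rw [hb, ← pow_mul, mul_comm, pow_mul, inv_pow, haa, inv_one, one_pow]
  have hbq : b * b ^ 2 ^ 2 = 1 := by
    rw [← hb5]; ring
  have hne : a ≠ b := by
    intro h
    apply ha3
    have h1 : a * a * a = 1 := by
      conv_lhs => rw [mul_assoc, mul_comm]
      rw [← hab]
      conv_rhs => rw [← h]
    rw [← h1]; ring
  have hwq : w ^ 2 ^ 2 = w := by
    calc w ^ 2 ^ 2 = w ^ 3 * w := by ring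
      _ = w := by rw [hww, one_mul]
  have h1q : (1 : F) ^ 2 ^ 2 = 1 := one_pow _
  have h1wq : ((1 : F) + w) ^ 2 ^ 2 = 1 + w := by
    rw [add_pow_char_pow]
    exact congrArg₂ (· + ·) h1q hwq
  have hw10 : (1 : F) + w ≠ 0 := by
    intro h
    exact hw1 (CharTwo.add_eq_zero.1 h).symm
  let gS : SU 3 F (2 ^ 2) := ⟨⟨dg a b, by rw [det_dg, hab]⟩, dg_mem (2 ^ 2) haq hbq _⟩
  let π := QuotientGroup.mk' (Subgroup.center (SU 3 F (2 ^ 2)))
  have hgS : gS ∉ Subgroup.center (SU 3 F (2 ^ 2)) := by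
    intro h1
    have h2 := Subgroup.mem_center_iff.1 h1 (swS (2 ^ 2))
    have h3 : (sw * dg a b : Matrix (Fin 3) (Fin 3) F) = dg a b * sw :=
      congrArg (fun x : SU 3 F (2 ^ 2) => ((x : SpecialLinearGroup (Fin 3) F) :
        Matrix (Fin 3) (Fin 3) F)) h2
    have h4 := congrFun (congrFun h3 0) 2
    simp [sw, dg, Matrix.mul_apply, Fin.sum_univ_three] at h4
    exact hne h4.symm
  have hinv : ∀ {l : F} (hl : l ^ 2 ^ 2 = l), l ≠ 0 → orderOf (π (tvS 2 l hl)) = 2 := by
    intro l hl hl0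
    have : Fact (Nat.Prime 2) := ⟨Nat.prime_two⟩
    refine orderOf_eq_prime ?_ ?_
    · refine (pow_two (π (tvS 2 l hl))).trans ?_
      rw [← map_mul, tvS_sq, map_one]
    · intro h
      exact tvS_not_mem 2 hl hl0 ((QuotientGroup.eq_one_iff _).1 h)
  have hcomm : ∀ {l : F} (hl : l ^ 2 ^ 2 = l), π gS * π (tvS 2 l hl) = π (tvS 2 l hl) * π gS := by
    intro l hl
    rw [← map_mul, ← map_mul]
    congr 1
    exact Subtype.ext (Subtype.ext (dg_mul_tv a b l))
  refine ⟨π gS, π (tvS 2 1 h1q), π (tvS 2 w hwq), ?_, hinv h1q one_ne_zero, hinv hwq hw0, ?_, hcomm _, hcomm _, ?_⟩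
  · have : Fact (Nat.Prime 5) := ⟨by norm_num⟩
    refine orderOf_eq_prime ?_ ?_
    · rw [← map_pow]
      have h1 : gS ^ 5 = 1 := by
        apply Subtype.ext
        apply Subtype.ext
        change ((gS : SpecialLinearGroup (Fin 3) F) ^ 5 : SpecialLinearGroup (Fin 3) F).1 = 1
        rw [Matrix.SpecialLinearGroup.coe_pow]
        change (dg a b) ^ 5 = 1
        have h2 : ∀ m : ℕ, (dg a b) ^ m = dg (a ^ m) (b ^ m) := by
          intro m
          induction m with
          | zero => rw [pow_zero, pow_zero, pow_zero, dg_one]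
          | succ m ih => rw [pow_succ, ih, dg_mul, pow_succ, pow_succ]
        rw [h2, haa, hb5, dg_one]
      rw [h1, map_one]
    · intro h
      exact hgS ((QuotientGroup.eq_one_iff _).1 h)
  · intro h
    have h1 : (tvS 2 1 h1q)⁻¹ * tvS 2 w hwq ∈ Subgroup.center (SU 3 F (2 ^ 2)) := QuotientGroup.eq.1 h
    have h2 : (tvS 2 (1 : F) h1q)⁻¹ = tvS 2 1 h1q := inv_eq_of_mul_eq_one_left (tvS_sq 2 h1q)
    rw [h2, tvS_mul 2 h1q hwq h1wq] at h1
    exact tvS_not_mem 2 h1wq hw10 h1
  · rw [← map_mul, ← map_mul]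
    congr 1
    apply Subtype.ext
    apply Subtype.ext
    change tv (1 : F) * tv w = tv w * tv 1
    rw [tv_mul, tv_mul, add_comm]

end unitary

/-! ### The two classes of involutions -/

section classes

open Cfsg.Agent.CpAutTits Cfsg.Agent.CpAutTits.Ten

variable {T : Type u} [Group T]

theorem exists_two_aux {L : Type*} [Group L] {T : Subgroup L} {xf z jf d : L} (F : Facts T xf z jf d) (hd1 : d ≠ 1)
    (hd2 : d * d = 1) : ∃ s t : T, orderOf s = 2 ∧ orderOf t = 2 ∧
    (∃ y : T, orderOf y = 5 ∧ y * s = s * y) ∧ ¬ ∃ y : T, orderOf y = 5 ∧ y * t = t * y := by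
  have : Fact (Nat.Prime 2) := ⟨Nat.prime_two⟩
  refine ⟨F.zT, ⟨d, F.hd⟩, F.order_z, ?_, ⟨F.xT, F.order_x, F.comm_zx.symm⟩, ?_⟩
  · refine orderOf_eq_prime ?_ ?_
    · rw [pow_two]
      exact Subtype.ext hd2
    · intro h
      exact hd1 (congrArg Subtype.val h)
  · rintro ⟨y, hy, hc⟩
    have h1 : (y : L) ^ 5 = 1 := by
      have h2 : y ^ 5 = 1 := by rw [← hy, pow_orderOf_eq_one]
      exact congrArg Subtype.val h2
    have h3 : (y : L) = 1 := F.five y y.2 h1 (by
      rw [mul_inv_eq_iff_eq_mul]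
      exact congrArg Subtype.val hc)
    have h4 : y = 1 := Subtype.ext h3
    rw [h4, orderOf_one] at hy
    norm_num at hy

theorem exists_two_inv (h : Lie.IsoTits T) : ∃ s t : T, orderOf s = 2 ∧ orderOf t = 2 ∧
    (∃ y : T, orderOf y = 5 ∧ y * s = s * y) ∧ ¬ ∃ y : T, orderOf y = 5 ∧ y * t = t * y := by
  obtain ⟨e⟩ := CpAutTits.Row.exists_equiv h
  obtain ⟨s, t, hs, ht, ⟨y, hy, hys⟩, hn⟩ := exists_two_aux facts Cfsg.Agent.TitsK.d_ne Cfsg.Agent.TitsK.d_sq
  refine ⟨e.symm s, e.symm t, by rw [MulEquiv.orderOf_eq, hs], by rw [MulEquiv.orderOf_eq, ht],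
    ⟨e.symm y, by rw [MulEquiv.orderOf_eq, hy], by rw [← map_mul, ← map_mul, hys]⟩, ?_⟩
  rintro ⟨w, hw, hc⟩
  refine hn ⟨e w, by rw [MulEquiv.orderOf_eq, hw], ?_⟩
  have h1 := congrArg e hc
  rwa [map_mul, map_mul, e.apply_symm_apply] at h1

end classes

theorem simple_tits {K : Type*} [Group K] (h : Lie.IsoTits K) : IsSimpleGroup K := by
  obtain ⟨e⟩ := h
  have hs : IsSimpleGroup Cfsg.Lie.TitsGroup := Cfsg.Agent.S1074.result.2.1
  have hn : Nontrivial K := e.toEquiv.nontrivial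
  exact IsSimpleGroup.isSimpleGroup_of_surjective e.symm.toMonoidHom e.symm.surjective

/-! ### The subgroups -/

section sub

variable {T : Type u} [Group T] [Finite T]

/-- the elements of order 13 are not adjacent to anything -/
theorem noOrd_tits (h : Lie.IsoTits T) (hs : IsSimpleGroup T) {p : ℕ} (hp : p.Prime) (h13 : 13 ≠ p) (z : T) :
    orderOf z ≠ 13 * p :=
  noOrd_of_cent (by norm_num) (fun _ hx => H547.SelfCent.tits h hs (H393.Iso.na_tits h) hx) hp h13 z

omit [Finite T] in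
theorem lift_pow_dvd {R : Subgroup T} [Finite R] {O : Subgroup R} [O.Normal] {N : Subgroup (R ⧸ O)} {a b : ℕ}
    (h1 : a ∣ Nat.card O) (h2 : b ∣ Nat.card N) : a * b ∣ Nat.card R := by
  rw [← card_quot_mul O, mul_comm]
  exact mul_dvd_mul (h2.trans (Subgroup.card_subgroup_dvd_card N)) h1

/-- the core is trivial -/
theorem core_eq_bot (h : Lie.IsoTits T) (hs : IsSimpleGroup T) {R : Subgroup T} {O : Subgroup R} [O.Normal]
    {N : Subgroup (R ⧸ O)} (ht : Top R 13 O N) (h3 : 3 ∣ Nat.card N) (h5 : ¬ 5 ∣ Nat.card O) : O = ⊥ := by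
  have hN := NotCT.Orders.tits h
  have hRn : Nat.card R ∣ 17971200 := by
    rw [← hN]
    exact Subgroup.card_subgroup_dvd_card R
  have hOR : Nat.card O ∣ 17971200 := (Subgroup.card_subgroup_dvd_card O).trans hRn
  have hnoR : ∀ p : ℕ, p.Prime → 13 ≠ p → ∀ z : R, orderOf z ≠ 13 * p := fun p hp h13 z => by
    rw [← Subgroup.orderOf_coe]
    exact noOrd_tits h hs hp h13 z
  by_contra hO
  have h1 : Nat.card O ≠ 1 := fun h1 => hO (Subgroup.card_eq_one.1 h1)
  obtain ⟨p, hp, hpO⟩ := Nat.exists_prime_and_dvd h1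
  have hp' : p ∣ 17971200 := hpO.trans hOR
  have hp4 : p = 2 ∨ p = 3 ∨ p = 5 ∨ p = 13 := by
    have h2 : (17971200 : ℕ) = 2 ^ 11 * (3 ^ 3 * (5 ^ 2 * 13)) := by norm_num
    rw [h2] at hp'
    rcases (hp.dvd_mul).1 hp' with h3 | h3
    · exact Or.inl ((Nat.prime_dvd_prime_iff_eq hp Nat.prime_two).1 (hp.dvd_of_dvd_pow h3))
    rcases (hp.dvd_mul).1 h3 with h3 | h3
    · exact Or.inr (Or.inl ((Nat.prime_dvd_prime_iff_eq hp Nat.prime_three).1 (hp.dvd_of_dvd_pow h3)))
    rcases (hp.dvd_mul).1 h3 with h3 | h3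
    · exact Or.inr (Or.inr (Or.inl ((Nat.prime_dvd_prime_iff_eq hp (by norm_num)).1 (hp.dvd_of_dvd_pow h3))))
    · exact Or.inr (Or.inr (Or.inr ((Nat.prime_dvd_prime_iff_eq hp (by norm_num)).1 h3)))
  rcases hp4 with rfl | rfl | rfl | rfl
  · refine ht.not_dvd_core Nat.prime_two (by norm_num) (hnoR 2 Nat.prime_two (by norm_num)) ?_ hpO
    intro b hb hd
    exact okPow_spec (l := [(2, 11), (3, 3), (5, 2), (13, 1)]) (n := 17971200) (by decide +kernel)
      (by decide +kernel) Nat.prime_two hb (hd.trans hRn)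
  · have h13 : Fact (Nat.Prime 13) := ⟨by norm_num⟩
    have h3' : Fact (Nat.Prime 3) := ⟨Nat.prime_three⟩
    obtain ⟨S⟩ : Nonempty (Sylow 3 O) := inferInstance
    obtain ⟨y, hy, hyS⟩ := exists_normalizer ht.dvdR O ht.core S
    set P : Subgroup R := (S : Subgroup O).map O.subtype with hP
    have hPp : IsPGroup 3 P := S.isPGroup'.map _
    have hPc : Nat.card P = Nat.card (S : Subgroup O) :=
      (Nat.card_congr ((S : Subgroup O).equivMapOfInjective O.subtype O.subtype_injective).toEquiv).symm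
    obtain ⟨b, hb⟩ := IsPGroup.iff_card.1 hPp
    have hb1 : 1 ≤ b := by
      by_contra hb0
      have hb0' : b = 0 := by omega
      rw [hb0', pow_zero, hPc] at hb
      have h7 : 3 ∣ Nat.card (S : Subgroup O) := by
        have h8 : 3 ^ 1 ∣ Nat.card O := by rw [pow_one]; exact hpO
        have h9 := S.pow_dvd_card_of_pow_dvd_card h8
        rwa [pow_one] at h9
      rw [hb] at h7
      norm_num at h7
    have hb2 : b ≤ 2 := by
      by_contra hb3
      have h7 : 3 ^ b * 3 ∣ Nat.card R := by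
        refine lift_pow_dvd (O := O) (N := N) ?_ h3
        rw [← hb, hPc]
        exact Subgroup.card_subgroup_dvd_card (S : Subgroup O)
      have h8 : 3 ^ 4 ∣ 3 ^ b * 3 := by
        rw [← pow_succ]
        exact pow_dvd_pow 3 (by omega)
      have h9 := (h8.trans h7).trans hRn
      norm_num at h9
    obtain ⟨w, -, hw, hyw⟩ := exists_comm_of_normalizer (by norm_num) Nat.prime_three hy hPp hyS (by
      rw [hb]
      interval_cases b <;> norm_num)
    exact hnoR 3 Nat.prime_three (by norm_num) (y * w) (orderOf_mul_of_comm (by norm_num) Nat.prime_three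
      (by norm_num) hy hw hyw)
  · exact h5 hpO
  · exact ht.core hpO

omit [Finite T] in
/-- the elements of `N` in `R` -/
theorem exists_hom {R : Subgroup T} {O : Subgroup R} [O.Normal] (N : Subgroup (R ⧸ O)) (hO : O = ⊥) :
    ∃ f : N →* R, Function.Injective f ∧ ∀ n : N, QuotientGroup.mk' O (f n) = n := by
  subst hO
  have hi : Function.Injective (QuotientGroup.mk' (⊥ : Subgroup R)) := by
    rw [← MonoidHom.ker_eq_bot_iff, QuotientGroup.ker_mk']
  let e : R ≃* R ⧸ (⊥ : Subgroup R) :=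
    MulEquiv.ofBijective (QuotientGroup.mk' (⊥ : Subgroup R)) ⟨hi, QuotientGroup.mk'_surjective _⟩
  refine ⟨e.symm.toMonoidHom.comp N.subtype, ?_, fun n => ?_⟩
  · exact e.symm.injective.comp N.subtype_injective
  · exact e.apply_symm_apply (n : R ⧸ (⊥ : Subgroup R))

omit [Finite T] in
theorem eq_of_mem_zpowers {a u : T} (hu : orderOf u = 2) (ha : a ∈ zpowers u) : a = 1 ∨ a = u := by
  have h2 : u * u = 1 := by rw [← pow_two, ← hu, pow_orderOf_eq_one]
  obtain ⟨k, rfl⟩ := mem_zpowers_iff.1 ha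
  obtain ⟨m, rfl | rfl⟩ := Int.even_or_odd' k
  · left
    rw [zpow_mul, zpow_ofNat, pow_two, h2, one_zpow]
  · right
    rw [zpow_add, zpow_mul, zpow_ofNat, pow_two, h2, one_zpow, one_mul, zpow_one]

omit [Finite T] in
/-- commuting involutions -/
theorem four_dvd {A : Subgroup T} {u v : T} (hu : orderOf u = 2) (hv : orderOf v = 2) (huv : u ≠ v)
    (hc : u * v = v * u) (huA : u ∈ A) (hvA : v ∈ A) : 4 ∣ Nat.card A := by
  have hcc : ∀ (a : zpowers u) (b : zpowers v), Commute ((zpowers u).subtype a) ((zpowers v).subtype b) := by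
    rintro ⟨a, ha⟩ ⟨b, hb⟩
    obtain ⟨i, rfl⟩ := mem_zpowers_iff.1 ha
    obtain ⟨j, rfl⟩ := mem_zpowers_iff.1 hb
    exact (show Commute u v from hc).zpow_zpow i j
  let f : zpowers u × zpowers v →* T := (zpowers u).subtype.noncommCoprod (zpowers v).subtype hcc
  have hf : Function.Injective f := by
    rw [injective_iff_map_eq_one]
    rintro ⟨⟨a, ha⟩, ⟨b, hb⟩⟩ h1
    have h2 : a * b = 1 := h1
    have hu1 : u ≠ 1 := by
      rintro rfl
      rw [orderOf_one] at hu
      norm_num at hu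
    have hv1 : v ≠ 1 := by
      rintro rfl
      rw [orderOf_one] at hv
      norm_num at hv
    have hvv : v⁻¹ = v := by
      rw [inv_eq_iff_mul_eq_one, ← pow_two, ← hv, pow_orderOf_eq_one]
    rcases eq_of_mem_zpowers hu ha with rfl | rfl <;> rcases eq_of_mem_zpowers hv hb with rfl | rfl
    · rfl
    · rw [one_mul] at h2
      exact absurd h2 hv1
    · rw [mul_one] at h2
      exact absurd h2 hu1
    · exfalso
      apply huv
      rw [← hvv]
      exact eq_inv_of_mul_eq_one_left h2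
  have hr : f.range ≤ A := by
    rintro _ ⟨⟨⟨a, ha⟩, ⟨b, hb⟩⟩, rfl⟩
    exact A.mul_mem ((zpowers_le.2 huA) ha) ((zpowers_le.2 hvA) hb)
  have h1 := Subgroup.card_dvd_of_le hr
  rw [← Nat.card_congr (MonoidHom.ofInjective hf).toEquiv, Nat.card_prod, Nat.card_zpowers, Nat.card_zpowers, hu,
    hv] at h1
  exact h1

omit [Finite T] in
/-- `U₃(4)` is not a section at the top -/
theorem no_u34 (h : Lie.IsoTits T) {R : Subgroup T} {O : Subgroup R} [O.Normal] {N : Subgroup (R ⧸ O)}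
    (hO : O = ⊥) (hr : Real (Grp.psu 3 4) N) : False := by
  obtain ⟨F, hF, hF', hc, ⟨e⟩⟩ := hr
  obtain ⟨g, u, v, hg, hu, hv, huv, h1, h2, h3⟩ := exists_u34 (F := F) (by rw [hc]; norm_num)
  obtain ⟨f, hf, -⟩ := exists_hom N hO
  have hO' := CpAutTits.Row.out h
  let ψ : PSU 3 F (2 ^ 2) →* T := (R.subtype.comp f).comp (e.symm.toMonoidHom)
  have hψ : Function.Injective ψ := (R.subtype_injective.comp hf).comp e.symm.injective
  have hord : ∀ x, orderOf (ψ x) = orderOf x := fun x => orderOf_injective ψ hψ x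
  have hcard := hO'.cent (ψ g) (by rw [hord, hg])
  -- the four-group
  have hsq : ∀ {x : T}, orderOf x = 2 → x * x = 1 := fun hx => by rw [← pow_two, ← hx, pow_orderOf_eq_one]
  have hu' : ψ u ∈ centralizer ({ψ g} : Set T) := mem_centralizer_singleton_iff.2 (by rw [← map_mul, ← map_mul, h1])
  have hv' : ψ v ∈ centralizer ({ψ g} : Set T) := mem_centralizer_singleton_iff.2 (by rw [← map_mul, ← map_mul, h2])
  have hu2 : orderOf (ψ u) = 2 := by rw [hord, hu]
  have hv2 : orderOf (ψ v) = 2 := by rw [hord, hv]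
  have huv' : ψ u ≠ ψ v := fun hh => huv (hψ hh)
  have hc' : ψ u * ψ v = ψ v * ψ u := by rw [← map_mul, ← map_mul, h3]
  have h4 := four_dvd hu2 hv2 huv' hc' hu' hv'
  rw [hcard] at h4
  norm_num at h4

/-- the index of `L₂(25)` is odd -/
theorem index_odd (h : Lie.IsoTits T) (hs : IsSimpleGroup T) {R : Subgroup T} {O : Subgroup R} [O.Normal]
    {N : Subgroup (R ⧸ O)} (ht : Top R 13 O N) (hO : O = ⊥) (hN : Nat.card N = 7800) : ¬ 2 ∣ N.index := by
  have hTc := NotCT.Orders.tits h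
  have hnoR : ∀ p : ℕ, p.Prime → 13 ≠ p → ∀ z : R, orderOf z ≠ 13 * p := fun p hp h13 z => by
    rw [← Subgroup.orderOf_coe]
    exact noOrd_tits h hs hp h13 z
  have hi := ht.index_mul_dvd hnoR (by rw [hN]; norm_num)
  rw [hN] at hi
  have hRc : Nat.card R = 7800 * N.index := by
    have h0 : Nat.card O = 1 := by rw [hO, Subgroup.card_bot]
    rw [← card_quot_mul O, h0, mul_one, ← Subgroup.card_mul_index N, hN]
  have h13 : Fact (Nat.Prime 13) := ⟨by norm_num⟩
  obtain ⟨x, hx⟩ := exists_prime_orderOf_dvd_card' (G := R) 13 (by rw [hRc]; exact ⟨600 * N.index, by ring⟩)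
  have hsq : ¬ 13 ^ 2 ∣ Nat.card R := ht.sq
  have hcR := card_cent_of_noOrd (by norm_num) hsq hnoR hx
  have hcT : Nat.card (centralizer ({(x : T)} : Set T)) = 13 :=
    H547.SelfCent.tits h hs (H393.Iso.na_tits h) (by rw [Subgroup.orderOf_coe, hx])
  have h1 := (card_norm_mod (r := 13) (by norm_num) hsq (by rw [hRc]; omega) hcR).1
  have h2 := (card_norm_mod (r := 13) (Q := T) (by norm_num) (by rw [hTc]; norm_num) (by rw [hTc]; norm_num) hcT).1
  rw [hTc] at h2
  have h3 : Nat.card (normalizer ((zpowers x : Subgroup R) : Set R)) ∣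
      Nat.card (normalizer ((zpowers (x : T) : Subgroup T) : Set T)) := by
    have hle : (normalizer ((zpowers x : Subgroup R) : Set R)).map R.subtype ≤
        normalizer ((zpowers (x : T) : Subgroup T) : Set T) := by
      rintro _ ⟨g, hg, rfl⟩
      have hz : ∀ y : R, (y : T) ∈ zpowers (x : T) ↔ y ∈ zpowers x := by
        intro y
        constructor
        · intro hy
          obtain ⟨k, hk⟩ := mem_zpowers_iff.1 hy
          exact mem_zpowers_iff.2 ⟨k, Subtype.ext (by rw [← hk]; rfl)⟩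
        · intro hy
          obtain ⟨k, rfl⟩ := mem_zpowers_iff.1 hy
          exact mem_zpowers_iff.2 ⟨k, rfl⟩
      have hle' : zpowers (x : T) ≤ R := by
        rw [zpowers_le]
        exact x.2
      rw [mem_normalizer_iff]
      intro w
      constructor
      · intro hw
        have h5 := (mem_normalizer_iff.1 hg ⟨w, hle' hw⟩).1 ((hz _).1 hw)
        exact (hz _).2 h5
      · intro hw
        have hwR : w ∈ R := by
          have h5 : (g : T)⁻¹ * ((g : T) * w * (g : T)⁻¹) * (g : T) ∈ R :=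
            R.mul_mem (R.mul_mem (R.inv_mem g.2) (hle' hw)) g.2
          have h6 : (g : T)⁻¹ * ((g : T) * w * (g : T)⁻¹) * (g : T) = w := by group
          rwa [h6] at h5
        exact (hz ⟨w, hwR⟩).2 ((mem_normalizer_iff.1 hg ⟨w, hwR⟩).2 ((hz _).1 hw))
    have h4 := Subgroup.card_dvd_of_le hle
    rwa [← Nat.card_congr ((normalizer ((zpowers x : Subgroup R) : Set R)).equivMapOfInjective R.subtype
      R.subtype_injective).toEquiv] at h4
  rw [h1, h2, hRc] at h3
  have hi' : N.index ∣ 12 := (dvd_mul_right _ _).trans hi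
  intro h2i
  have hle : N.index ≤ 12 := Nat.le_of_dvd (by norm_num) hi'
  interval_cases hn : N.index <;> revert h3 hi h2i <;> norm_num

omit [Finite T] in
/-- all involutions of `R` are conjugate -/
theorem conj_inv {R : Subgroup T} {O : Subgroup R} [O.Normal] {N : Subgroup (R ⧸ O)} [N.Normal] (hO : O = ⊥)
    (hodd : ¬ 2 ∣ N.index) (hr : Real (Grp.psl 2 25) N) {a b : R} (ha : orderOf a = 2) (hb : orderOf b = 2) :
    ∃ c : R, c * a * c⁻¹ = b := by
  obtain ⟨F, hF, hF', hc, ⟨e⟩⟩ := hr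
  have hone : H375.OneInv N := H375.OneInv.congr e.symm (H375.oneInv_psl_odd (by rw [hc]; decide))
  obtain ⟨f, hf, hfm⟩ := exists_hom N hO
  have hi : Function.Injective (QuotientGroup.mk' O) := by
    rw [← MonoidHom.ker_eq_bot_iff, QuotientGroup.ker_mk', hO]
  have hmem : ∀ x : R, orderOf x = 2 → ∃ n : N, orderOf n = 2 ∧ f n = x := by
    intro x hx
    have hxN : QuotientGroup.mk' O x ∈ N := by
      have h1 : ((QuotientGroup.mk' O x : R ⧸ O) : (R ⧸ O) ⧸ N) ^ 2 = 1 := by
        rw [← QuotientGroup.mk_pow, ← map_pow, ← hx, pow_orderOf_eq_one, map_one]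
        rfl
      have h2 : orderOf ((QuotientGroup.mk' O x : R ⧸ O) : (R ⧸ O) ⧸ N) ∣ 2 := orderOf_dvd_of_pow_eq_one h1
      rcases (Nat.dvd_prime Nat.prime_two).1 h2 with h3 | h3
      · exact (QuotientGroup.eq_one_iff _).1 (orderOf_eq_one_iff.1 h3)
      · exfalso
        apply hodd
        rw [← h3]
        exact orderOf_dvd_natCard _
    refine ⟨⟨_, hxN⟩, ?_, hi (hfm _)⟩
    rw [Subgroup.orderOf_mk, orderOf_injective _ hi, hx]
  obtain ⟨n, hn, rfl⟩ := hmem a ha
  obtain ⟨m, hm, rfl⟩ := hmem b hb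
  obtain ⟨c, hc⟩ := isConj_iff.1 (hone n m hn hm)
  exact ⟨f c, by rw [← hc, map_mul, map_mul, map_inv]⟩

/-- **Every proper subgroup of the Tits group misses a class.** -/
theorem der_tits (tab : OrderTable.{u}) (known : Known.{u}) {T : Type u} [Group T] (h : Lie.IsoTits T)
    {R : Subgroup T} (hR : R ≠ ⊤) : H396.Der T R := by
  have hN := NotCT.Orders.tits h
  have : Finite T := Nat.finite_of_card_ne_zero (by rw [hN]; norm_num)
  have hs : IsSimpleGroup T := simple_tits h
  by_cases h13 : 13 ∣ Nat.card R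
  swap
  · exact H396.der_of_prime (v := 13) (by norm_num) (by rw [hN]; norm_num) h13
  by_cases h5 : 5 ∣ Nat.card R
  swap
  · exact H396.der_of_prime (v := 5) (by norm_num) (by rw [hN]; norm_num) h5
  obtain ⟨O, hO, N, ht, h5O, g, hg, hgr, hgc⟩ := exists_surv_of_dvd tab known (r := 13) (s := 5)
    (l := [(2, 11), (3, 3), (5, 2), (13, 1)]) hN (by decide +kernel) (by norm_num) (by norm_num)
    (noOrd_tits h hs (by norm_num) (by norm_num)) (by decide +kernel) (by norm_num) hR h13 h5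
  rw [show surv _ [(2, 11), (3, 3), (5, 2), (13, 1)] 13 [5] = [Grp.psl 2 25, Grp.psu 3 4] by decide +kernel,
    List.mem_cons, List.mem_singleton] at hg
  have hO1 : O = ⊥ := by
    refine core_eq_bot h hs ht ?_ h5O
    rw [hgc]
    rcases hg with rfl | rfl <;> decide +kernel
  rcases hg with rfl | rfl
  swap
  · exact (no_u34 h hO1 hgr).elim
  have hodd := index_odd h hs ht hO1 (by rw [hgc]; decide +kernel)
  have hNn := ht.normal
  obtain ⟨s, t, hs2, ht2, ⟨y, hy, hys⟩, hnt⟩ := exists_two_inv h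
  by_contra hder
  have key : ∀ x : T, orderOf x = 2 → ∃ φ : T ≃* T, φ x ∈ R := by
    intro x hx
    by_contra hx'
    push Not at hx'
    exact hder ⟨x, by rw [hx]; exact Nat.prime_two, hx'⟩
  obtain ⟨φ, hφ⟩ := key s hs2
  obtain ⟨ψ, hψ⟩ := key t ht2
  obtain ⟨c, hc⟩ := conj_inv hO1 hodd hgr (a := ⟨φ s, hφ⟩) (b := ⟨ψ t, hψ⟩)
    (by rw [Subgroup.orderOf_mk, MulEquiv.orderOf_eq, hs2]) (by rw [Subgroup.orderOf_mk, MulEquiv.orderOf_eq, ht2])
  have hc' : (c : T) * φ s * (c : T)⁻¹ = ψ t := congrArg Subtype.val hc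
  apply hnt
  refine ⟨ψ.symm ((c : T) * φ y * (c : T)⁻¹), ?_, ?_⟩
  · rw [MulEquiv.orderOf_eq]
    have h1 := orderOf_injective (MulAut.conj (c : T)).toMonoidHom (MulAut.conj (c : T)).injective (φ y)
    have h2 : (MulAut.conj (c : T)).toMonoidHom (φ y) = (c : T) * φ y * (c : T)⁻¹ := rfl
    rw [← h2, h1, MulEquiv.orderOf_eq, hy]
  · apply ψ.injective
    rw [map_mul ψ _ t, map_mul ψ t, ψ.apply_symm_apply, ← hc']
    calc (c : T) * φ y * (c : T)⁻¹ * ((c : T) * φ s * (c : T)⁻¹) = (c : T) * (φ y * φ s) * (c : T)⁻¹ := by group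
      _ = (c : T) * (φ s * φ y) * (c : T)⁻¹ := by rw [← map_mul, hys, map_mul]
      _ = _ := by group

theorem derT_tits (tab : OrderTable.{u}) (known : Known.{u}) {T : Type u} [Group T] (h : Lie.IsoTits T)
    {R : Subgroup T} (hR : R ≠ ⊤) : DerT T R := by
  obtain ⟨g, hg, h1⟩ := der_tits tab known h hR
  exact ⟨g, hg, fun c => by
    have h2 := h1 (MulAut.conj c)
    rwa [MulAut.conj_apply] at h2⟩

theorem clT_tits (tab : OrderTable.{u}) (known : Known.{u}) {T : Type u} [Group T] (h : Lie.IsoTits T) : ClT T :=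
  fun _ hR => Or.inl (derT_tits tab known h hR)

end sub

end Cfsg.Agent.H180.ElS
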