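import Cfsg.Agent.H180.MElNum
import Cfsg.Agent.H180.MElBig
import Cfsg.Agent.SporadicA.M11Facts
import Cfsg.Agent.Cit.Eleven
import Cfsg.Agent.Lib.DivFast
import Cfsg.Agent.FastGrp
import Cfsg.Agent.Prune
set_option linter.all false
prune_inst 0x7f00000000000000000000000000000000000000000000000000000000000000000000000000000000000000000000000000000000000000000000000000000000000000000000000000000000000000003fffffffffffffffffffffffffffbeffbdffffffff
open scoped Cfsg.Agent.FastGrp

-- part: H180/MElSimple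
section
/-!
# Simplicity of groups of order 660 and 7920 whose elements of order 11 are isolated
-/

set_option autoImplicit false

namespace Cfsg.Agent.H180.MEl

open Subgroup

/-- the elements of order `11` commute with no element of prime order `≠ 11` -/
def Iso11 (G : Type*) [Group G] : Prop :=
  ∀ x y : G, Commute x y → orderOf x = 11 → (orderOf y).Prime → orderOf y = 11

theorem Iso11.sub {G : Type*} [Group G] (h : Iso11 G) (H : Subgroup G) : Iso11 H := by
  intro x y hxy hx hy
  rw [← Subgroup.orderOf_coe] at hx hy ⊢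
  exact h x y (congrArg Subtype.val hxy) hx hy

theorem prime11 : Fact (Nat.Prime 11) := ⟨by norm_num⟩

theorem normalizer_conj {G : Type*} [Group G] {Q : Subgroup G} {g : G} (hg : g ∈ normalizer (Q : Set G)) {y : G}
    (hy : y ∈ Q) : g * y * g⁻¹ ∈ Q :=
  (mem_normalizer_iff.1 hg y).1 hy

theorem fact_one {n : ℕ} (h1 : n ∣ 7920) (h11 : 11 ∣ n) : n.factorization 11 = 1 := by
  obtain ⟨k, rfl⟩ := h11
  have hk : k ∣ 720 := by
    rw [show 7920 = 11 * 720 by norm_num] at h1
    exact Nat.dvd_of_mul_dvd_mul_left (by norm_num) h1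
  have hk0 : k ≠ 0 := by
    rintro rfl
    rw [zero_dvd_iff] at hk
    norm_num at hk
  refine factorization_eq_one (by norm_num) rfl ?_ (by positivity)
  intro h2
  exact absurd (h2.trans hk) (by norm_num)

theorem num_pow {q j n : ℕ} (hq : q.Prime) (hn : n = q ^ j) (hj : j ≠ 0) (h : n ∣ 720) (h11 : 11 ∣ n - 1) : False := by
  have h1 : n ∈ (Nat.divisors 720).filter (fun n => 11 ∣ n - 1) := by
    rw [Finset.mem_filter]
    exact ⟨Nat.mem_divisors.2 ⟨h, by norm_num⟩, h11⟩
  have h2 : (Nat.divisors 720).filter (fun n => 11 ∣ n - 1) = {1, 12, 45, 144} := by (rewrite [Cfsg.Agent.Lib.DivFast.divisors_eq]; decide +kernel)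
  rw [h2] at h1
  simp only [Finset.mem_insert, Finset.mem_singleton] at h1
  have key : ∀ p : ℕ, p.Prime → p ∣ n → p = q := by
    intro p hp hpn
    rw [hn] at hpn
    exact (Nat.prime_dvd_prime_iff_eq hp hq).1 (hp.dvd_of_dvd_pow hpn)
  rcases h1 with h1 | h1 | h1 | h1
  · rw [h1] at hn
    have : q ∣ 1 := by
      rw [hn]; exact dvd_pow_self q hj
    exact hq.one_lt.ne' (Nat.dvd_one.1 this)
  · have := (key 2 Nat.prime_two (by rw [h1]; norm_num)).trans (key 3 Nat.prime_three (by rw [h1]; norm_num)).symm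
    norm_num at this
  · have := (key 5 Nat.prime_five (by rw [h1]; norm_num)).trans (key 3 Nat.prime_three (by rw [h1]; norm_num)).symm
    norm_num at this
  · have := (key 2 Nat.prime_two (by rw [h1]; norm_num)).trans (key 3 Nat.prime_three (by rw [h1]; norm_num)).symm
    norm_num at this

/-- an element of order 11 acts freely on a `q`-subgroup it normalizes -/
theorem eleven_dvd {G : Type*} [Group G] [Finite G] (h : Iso11 G) {q : ℕ} (hq : q.Prime) (hq11 : q ≠ 11)
    {Q : Subgroup G} (hQ : IsPGroup q Q) {x : G} (hx : orderOf x = 11) (hxQ : x ∈ normalizer (Q : Set G)) :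
    11 ∣ Nat.card Q - 1 := by
  let S := {y : G // y ∈ Q ∧ y ≠ 1}
  have hz : ∀ g : zpowers x, (g : G) ∈ normalizer (Q : Set G) := by
    intro g
    exact (zpowers_le.2 hxQ) g.2
  let act : MulAction (zpowers x) S :=
    { smul := fun g y => ⟨(g : G) * y.1 * (g : G)⁻¹, normalizer_conj (hz g) y.2.1, fun h => y.2.2 (by
        have := congrArg (fun t => (g : G)⁻¹ * t * (g : G)) h
        simpa only [mul_assoc, _root_.ne_eq, _root_.inv_mul_cancel_left, _root_.inv_mul_cancel, _root_.mul_one] using this)⟩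
      one_smul := fun y => Subtype.ext (by
        show ((1 : zpowers x) : G) * y.1 * ((1 : zpowers x) : G)⁻¹ = y.1
        simp only [_root_.OneMemClass.coe_one, _root_.ne_eq, _root_.one_mul, _root_.inv_one, _root_.mul_one])
      mul_smul := fun g k y => Subtype.ext (by
        show ((g * k : zpowers x) : G) * y.1 * ((g * k : zpowers x) : G)⁻¹ = (g : G) * ((k : G) * y.1 * (k : G)⁻¹) * (g : G)⁻¹
        rw [Subgroup.coe_mul]
        group) }
  have h1 : Nat.card (zpowers x) ∣ Nat.card S := by
    refine card_dvd_of_free (G := zpowers x) (α := S) fun y => ?_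
    rw [eq_bot_iff]
    intro g hg
    rw [MulAction.mem_stabilizer_iff] at hg
    have hg' : (g : G) * y.1 * (g : G)⁻¹ = y.1 := congrArg Subtype.val hg
    rw [Subgroup.mem_bot]
    by_contra hg1
    have hgG : (g : G) ≠ 1 := fun hh => hg1 (Subtype.ext hh)
    have hcomm : Commute (g : G) y.1 := mul_inv_eq_iff_eq_mul.1 hg'
    have hog : orderOf (g : G) = 11 := by
      have h2 : orderOf (g : G) ∣ 11 := by
        have h3 : orderOf g ∣ Nat.card (zpowers x) := _root_.orderOf_dvd_natCard g
        rwa [Nat.card_zpowers, hx, ← Subgroup.orderOf_coe] at h3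
      rcases (Nat.dvd_prime (by norm_num)).1 h2 with h3 | h3
      · exact absurd (orderOf_eq_one_iff.1 h3) hgG
      · exact h3
    have hqy : q ∣ orderOf y.1 := by
      obtain ⟨j, hj⟩ := hQ ⟨y.1, y.2.1⟩
      have h2 : orderOf (⟨y.1, y.2.1⟩ : Q) ∣ q ^ j := orderOf_dvd_of_pow_eq_one hj
      rw [Subgroup.orderOf_mk] at h2
      obtain ⟨i, -, hi⟩ := (Nat.dvd_prime_pow hq).1 h2
      rw [hi]
      refine dvd_pow_self q ?_
      rintro rfl
      rw [pow_zero, orderOf_eq_one_iff] at hi
      exact y.2.2 hi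
    obtain ⟨n, hn⟩ := exists_pow_prime hq hqy
    have := h g (y.1 ^ n) (hcomm.pow_right n) hog (by rw [hn]; exact hq)
    rw [hn] at this
    exact hq11 this
  rw [Nat.card_zpowers, hx] at h1
  have h2 : Nat.card S = Nat.card Q - 1 := by
    have e : S ≃ {y : Q // y ≠ 1} :=
      { toFun := fun y => ⟨⟨y.1, y.2.1⟩, fun h => y.2.2 (congrArg Subtype.val h)⟩
        invFun := fun y => ⟨y.1.1, y.1.2, fun h => y.2 (Subtype.ext h)⟩
        left_inv := fun y => rfl
        right_inv := fun y => rfl }
    rw [Nat.card_congr e]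
    classical
    have : Fintype Q := Fintype.ofFinite _
    have h3 := Fintype.card_subtype_compl (fun x : Q => x = 1)
    rw [Fintype.card_subtype_eq, ← Nat.card_eq_fintype_card, ← Nat.card_eq_fintype_card] at h3
    exact h3
  rwa [h2] at h1

theorem normal_bot {G : Type*} [Group G] [Finite G] (h : Iso11 G) (hc : Nat.card G ∣ 7920) (h11 : 11 ∣ Nat.card G)
    {N : Subgroup G} [N.Normal] (hN : ¬ 11 ∣ Nat.card N) : N = ⊥ := by
  by_contra hne
  have h1 : Nat.card N ≠ 1 := fun h => hne (Subgroup.card_eq_one.1 h)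
  obtain ⟨q, hq, hqN⟩ := Nat.exists_prime_and_dvd h1
  have : Fact q.Prime := ⟨hq⟩
  have := prime11
  obtain ⟨Q⟩ : Nonempty (Sylow q N) := inferInstance
  have hsup := Sylow.normalizer_sup_eq_top Q
  set QG : Subgroup G := (Q : Subgroup N).map N.subtype with hQG
  have hq11 : q ≠ 11 := by
    rintro rfl
    exact hN hqN
  have h2 : 11 ∣ Nat.card (normalizer (QG : Set G)) := by
    have h3 : Nat.card G ∣ Nat.card (normalizer (QG : Set G)) * Nat.card N := by
      have h4 : N.index ∣ Nat.card (normalizer (QG : Set G)) := by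
        rw [← Subgroup.relIndex_top_right, ← hsup, Subgroup.relIndex_sup_right]
        exact Subgroup.relIndex_dvd_card N _
      rw [← N.card_mul_index, mul_comm]
      exact Nat.mul_dvd_mul_right h4 _
    rcases (Nat.Prime.dvd_mul (by norm_num)).1 (h11.trans h3) with h4 | h4
    · exact h4
    · exact absurd h4 hN
  obtain ⟨x, hx⟩ := exists_prime_orderOf_dvd_card' (G := normalizer (QG : Set G)) 11 h2
  have hx' : orderOf (x : G) = 11 := by rw [← hx]; exact Subgroup.orderOf_coe x
  have hQp : IsPGroup q QG := Q.isPGroup'.map N.subtype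
  have h3 := eleven_dvd h hq hq11 hQp hx' x.2
  have hcQ : Nat.card QG = Nat.card (Q : Subgroup N) :=
    Nat.card_congr ((Q : Subgroup N).equivMapOfInjective N.subtype N.subtype_injective).symm.toEquiv
  have h4 : Nat.card (Q : Subgroup N) = q ^ (Nat.card N).factorization q := Q.card_eq_multiplicity
  have h5 : (Nat.card N).factorization q ≠ 0 := by
    have := (hq.dvd_iff_one_le_factorization Nat.card_pos.ne').1 hqN
    omega
  refine num_pow hq (hcQ.trans h4) h5 ?_ h3
  have h6 : Nat.card QG ∣ 7920 := (Subgroup.card_subgroup_dvd_card QG).trans hc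
  rw [show 7920 = 11 * 720 by norm_num] at h6
  refine Nat.Coprime.dvd_of_dvd_mul_left ?_ h6
  rw [hcQ, h4]
  refine Nat.Coprime.pow_left _ ?_
  exact (Nat.coprime_primes hq (by norm_num)).2 hq11

theorem coprime_dvd {M a : ℕ} (h : ∀ q k : ℕ, q.Prime → q ^ k ∣ M → q ^ k ∣ a) : M ∣ a :=
  (Nat.dvd_iff_prime_pow_dvd_dvd a M).2 h

/-- the number of elements of order 11 -/
theorem dvd_card_eleven {X : Type*} [Group X] [Finite X] (h : Iso11 X) {M : ℕ} (hM : M ∣ Nat.card X)
    (hpM : ¬ 11 ∣ M) : M ∣ Nat.card {x : X // orderOf x = 11} := by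
  apply coprime_dvd
  intro q k hq hqk
  rcases Nat.eq_zero_or_pos k with rfl | hk
  · rw [pow_zero]; exact one_dvd _
  have hqp : q ≠ 11 := by
    rintro rfl
    exact hpM ((dvd_pow_self 11 hk.ne').trans hqk)
  have : Fact q.Prime := ⟨hq⟩
  obtain ⟨Q⟩ : Nonempty (Sylow q X) := inferInstance
  have h1 : q ^ k ∣ Nat.card Q := Q.pow_dvd_card_of_pow_dvd_card (hqk.trans hM)
  refine h1.trans ?_
  let S := {x : X // orderOf x = 11}
  let act : MulAction Q S :=
    { smul := fun g x => ⟨(g : X) * x.1 * (g : X)⁻¹, by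
        have e : orderOf ((g : X) * x.1 * (g : X)⁻¹) = orderOf x.1 := by
          exact orderOf_injective (MulAut.conj (g : X)).toMonoidHom (MulAut.conj (g : X)).injective x.1
        rw [e]
        exact x.2⟩
      one_smul := fun x => Subtype.ext (by
        show ((1 : Q) : X) * x.1 * ((1 : Q) : X)⁻¹ = x.1
        simp)
      mul_smul := fun g k x => Subtype.ext (by
        show ((g * k : Q) : X) * x.1 * ((g * k : Q) : X)⁻¹ = (g : X) * ((k : X) * x.1 * (k : X)⁻¹) * (g : X)⁻¹
        rw [Subgroup.coe_mul]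
        group) }
  refine card_dvd_of_free (G := Q) (α := S) fun x => ?_
  rw [eq_bot_iff]
  intro g hg
  rw [MulAction.mem_stabilizer_iff] at hg
  have hg' : (g : X) * x.1 * (g : X)⁻¹ = x.1 := congrArg Subtype.val hg
  rw [Subgroup.mem_bot]
  by_contra hg1
  have hgX : (g : X) ≠ 1 := fun hh => hg1 (Subtype.ext hh)
  have hcomm : Commute (g : X) x.1 := mul_inv_eq_iff_eq_mul.1 hg'
  have hqg : q ∣ orderOf (g : X) := by
    obtain ⟨j, hj⟩ := (Q.isPGroup' g)
    have h2 : orderOf g ∣ q ^ j := orderOf_dvd_of_pow_eq_one hj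
    rw [← Subgroup.orderOf_coe] at h2
    obtain ⟨i, -, hi⟩ := (Nat.dvd_prime_pow hq).1 h2
    rw [hi]
    refine dvd_pow_self q ?_
    rintro rfl
    rw [pow_zero, orderOf_eq_one_iff] at hi
    exact hgX hi
  obtain ⟨n, hn⟩ := exists_pow_prime hq hqg
  have := h x.1 ((g : X) ^ n) (hcomm.symm.pow_right n) x.2 (by rw [hn]; exact hq)
  rw [hn] at this
  exact hqp this

/-- the number of Sylow 11-subgroups -/
theorem card_sylow_eleven {G : Type*} [Group G] [Finite G] (h : Iso11 G)
    (hc : Nat.card G = 660 ∨ Nat.card G = 7920) : Nat.card G = 55 * Nat.card (Sylow 11 G) := by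
  have := prime11
  have hd : Nat.card G ∣ 7920 := by rcases hc with hc | hc <;> rw [hc] <;> norm_num
  have h11 : 11 ∣ Nat.card G := by rcases hc with hc | hc <;> rw [hc] <;> norm_num
  have hf := fact_one hd h11
  have h1 := card_order_prime (p := 11) hf
  have hmod := card_sylow_modEq_one 11 G
  obtain ⟨P⟩ : Nonempty (Sylow 11 G) := inferInstance
  have h3 : Nat.card (Sylow 11 G) ∣ 720 := by
    have h4 : (P : Subgroup G).index ∣ 720 := by
      have h5 := (P : Subgroup G).card_mul_index
      have h6 : Nat.card (P : Subgroup G) = 11 := by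
        have := P.card_eq_multiplicity
        rw [hf, pow_one] at this
        exact this
      rw [h6] at h5
      rw [← h5, show 7920 = 11 * 720 by norm_num] at hd
      exact Nat.dvd_of_mul_dvd_mul_left (by norm_num) hd
    exact P.card_dvd_index.trans h4
  set c := Nat.card (Sylow 11 G) with hcdef
  have hc' : c ∈ (Nat.divisors 720).filter (fun n => n % 11 = 1) := by
    rw [Finset.mem_filter]
    exact ⟨Nat.mem_divisors.2 ⟨h3, by norm_num⟩, hmod⟩
  have h2 : (Nat.divisors 720).filter (fun n => n % 11 = 1) = {1, 12, 45, 144} := by (rewrite [Cfsg.Agent.Lib.DivFast.divisors_eq]; decide +kernel)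
  rw [h2] at hc'
  simp only [Finset.mem_insert, Finset.mem_singleton] at hc'
  rcases hc with hc | hc
  · have h4 := dvd_card_eleven h (M := 60) (by rw [hc]; norm_num) (by norm_num)
    have h5 : c ∣ 60 := by
      have h6 := P.card_dvd_index.trans (Subgroup.index_dvd_card (P : Subgroup G))
      rw [← hcdef, hc, show 660 = 60 * 11 by norm_num] at h6
      refine Nat.Coprime.dvd_of_dvd_mul_right ?_ h6
      rcases hc' with h | h | h | h <;> rw [h] <;> norm_num
    rw [h1] at h4
    rw [hc]
    rcases hc' with h | h | h | h <;> rw [h] at h4 h5 ⊢ <;> omega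
  · have h4 := dvd_card_eleven h (M := 720) (by rw [hc]; norm_num) (by norm_num)
    rw [h1] at h4
    rw [hc]
    rcases hc' with h | h | h | h <;> rw [h] at h4 ⊢ <;> omega

theorem normal_top {G : Type*} [Group G] [Finite G] (h : Iso11 G) (hc : Nat.card G ∣ 7920)
    (hs : Nat.card G = 55 * Nat.card (Sylow 11 G)) (hs1 : Nat.card (Sylow 11 G) ≠ 1)
    {N : Subgroup G} [hNn : N.Normal] (hN : 11 ∣ Nat.card N) : N = ⊤ := by
  have := prime11
  have h11 : 11 ∣ Nat.card G := hN.trans (Subgroup.card_subgroup_dvd_card N)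
  have hdN : Nat.card N ∣ 7920 := (Subgroup.card_subgroup_dvd_card N).trans hc
  have hf := fact_one hc h11
  have hfN := fact_one hdN hN
  have c1 := card_order_prime (p := 11) hf
  have c2 := card_order_prime (p := 11) hfN
  -- all elements of order 11 lie in `N`
  have hidx : ¬ 11 ∣ N.index := by
    intro h1
    have h2 : 11 ^ 2 ∣ Nat.card G := by
      rw [← N.card_mul_index, pow_two]
      exact mul_dvd_mul hN h1
    have h3 := (Nat.Prime.pow_dvd_iff_le_factorization (by norm_num) Nat.card_pos.ne').1 h2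
    omega
  have hmem : ∀ x : G, orderOf x = 11 → x ∈ N := by
    intro x hx
    rw [← QuotientGroup.eq_one_iff]
    have h1 : orderOf (x : G ⧸ N) ∣ 11 := by
      rw [← hx]
      exact orderOf_map_dvd (QuotientGroup.mk' N) x
    have h2 : orderOf (x : G ⧸ N) ∣ N.index := by
      rw [Subgroup.index_eq_card]
      exact _root_.orderOf_dvd_natCard _
    rcases (Nat.dvd_prime (by norm_num)).1 h1 with h3 | h3
    · exact orderOf_eq_one_iff.1 h3
    · rw [h3] at h2
      exact absurd h2 hidx
  have e : Nat.card {x : G // orderOf x = 11} = Nat.card {x : N // orderOf x = 11} :=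
    Nat.card_congr
      { toFun := fun x => ⟨⟨x.1, hmem x.1 x.2⟩, by rw [Subgroup.orderOf_mk]; exact x.2⟩
        invFun := fun x => ⟨x.1.1, by rw [Subgroup.orderOf_coe]; exact x.2⟩
        left_inv := fun x => rfl
        right_inv := fun x => rfl }
  have hcc : Nat.card (Sylow 11 N) = Nat.card (Sylow 11 G) := by
    rw [c1, c2] at e
    omega
  obtain ⟨P⟩ : Nonempty (Sylow 11 N) := inferInstance
  have h1 : Nat.card (Sylow 11 N) = (normalizer ((P : Subgroup N) : Set N)).index :=
    Sylow.card_eq_index_normalizer P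
  have h2 := Subgroup.card_mul_index (normalizer ((P : Subgroup N) : Set N))
  have hP : Nat.card (P : Subgroup N) = 11 := by
    have := P.card_eq_multiplicity
    rw [hfN, pow_one] at this
    exact this
  have hle : (P : Subgroup N) ≤ normalizer ((P : Subgroup N) : Set N) := le_normalizer
  have h3 : 11 ∣ Nat.card (normalizer ((P : Subgroup N) : Set N)) :=
    (dvd_of_eq hP.symm).trans (Subgroup.card_dvd_of_le hle)
  have hcpos : 0 < Nat.card (Sylow 11 G) := Nat.card_pos
  have h4 : Nat.card (normalizer ((P : Subgroup N) : Set N)) ∣ 55 := by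
    have h5 := Subgroup.card_subgroup_dvd_card N
    rw [hs, ← h2, ← h1, hcc] at h5
    exact Nat.dvd_of_mul_dvd_mul_right hcpos h5
  obtain ⟨d, hd⟩ := h3
  have hd5 : d ∣ 5 := by
    rw [hd, show 55 = 11 * 5 by norm_num] at h4
    exact Nat.dvd_of_mul_dvd_mul_left (by norm_num) h4
  rcases (Nat.dvd_prime (by norm_num)).1 hd5 with h6 | h6
  · -- transfer
    exfalso
    rw [h6] at hd
    have hPN : (P : Subgroup N) = normalizer ((P : Subgroup N) : Set N) :=
      Subgroup.eq_of_le_of_card_ge hle (by rw [hP, hd])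
    have hcyc : IsCyclic (P : Subgroup N) := isCyclic_of_prime_card (p := 11) hP
    have hcomm : ∀ a b : (P : Subgroup N), a * b = b * a := by
      intro a b
      obtain ⟨g, hg⟩ := hcyc.exists_generator
      obtain ⟨i, rfl⟩ := mem_zpowers_iff.1 (hg a)
      obtain ⟨j, rfl⟩ := mem_zpowers_iff.1 (hg b)
      exact ((Commute.refl g).zpow_zpow i j).eq
    have hPc : normalizer ((P : Subgroup N) : Set N) ≤ centralizer ((P : Subgroup N) : Set N) := by
      rw [← hPN]
      intro a ha
      rw [mem_centralizer_iff]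
      intro b hb
      exact congrArg Subtype.val (hcomm ⟨b, hb⟩ ⟨a, ha⟩)
    have hcompl := MonoidHom.ker_transferSylow_isComplement' P hPc
    set K := (MonoidHom.transferSylow P hPc).ker
    have h7 : Nat.card K * 11 = Nat.card N := by
      have := hcompl.card_mul_card
      rwa [hP] at this
    have h8 : Nat.card N = Nat.card (Sylow 11 G) * 11 := by
      rw [← h2, ← h1, hcc, hd]
      ring
    have h9 : K = ⊥ := by
      refine normal_bot (h.sub N) hdN hN ?_
      intro h10
      have h11' : 11 ^ 2 ∣ Nat.card N := by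
        rw [← h7, pow_two]
        exact Nat.mul_dvd_mul_right h10 _
      have h12 := (Nat.Prime.pow_dvd_iff_le_factorization (by norm_num) Nat.card_pos.ne').1 h11'
      omega
    rw [h9, Subgroup.card_bot] at h7
    apply hs1
    (clear * - h7 h8; omega)
  · apply Subgroup.eq_top_of_card_eq
    rw [hs, ← h2, ← h1, hcc, hd, h6]

theorem isSimple_of_iso11 {G : Type*} [Group G] [Finite G] (h : Iso11 G)
    (hc : Nat.card G = 660 ∨ Nat.card G = 7920) : IsSimpleGroup G := by
  have hd : Nat.card G ∣ 7920 := by rcases hc with hc | hc <;> rw [hc] <;> norm_num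
  have h11 : 11 ∣ Nat.card G := by rcases hc with hc | hc <;> rw [hc] <;> norm_num
  have hs := card_sylow_eleven h hc
  have hnt : Nontrivial G := by
    rw [← Finite.one_lt_card_iff_nontrivial]
    rcases hc with hc | hc <;> rw [hc] <;> norm_num
  refine ⟨fun N hN => ?_⟩
  by_cases hN11 : 11 ∣ Nat.card N
  · right
    refine normal_top h hd hs ?_ hN11
    intro h1
    rw [h1] at hs
    rcases hc with hc | hc
    · rw [hc] at hs; norm_num at hs
    · rw [hc] at hs; norm_num at hs
  · left
    exact normal_bot h hd h11 hN11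

end Cfsg.Agent.H180.MEl
end

-- part: H180/MElM11
section
/-!
# `ClT` for `M₁₁` (team ELUSIVE, task 644)
-/

set_option autoImplicit false

namespace Cfsg.Agent.H180.MEl

open Subgroup
open Cfsg.Agent.H278.El (ClT DerT dvd_of_not_derT)

/-- Sylow data of a subgroup, for a prime dividing the order of the big group once -/
theorem sylow_sub {L : Type*} [Group L] [Finite L] {H : Subgroup L} {p n : ℕ} [hp : Fact p.Prime]
    (h1 : (Nat.card L).factorization p = 1) (hH : p ∣ Nat.card H)
    (hN : ∀ x : L, orderOf x = p → Nat.card (normalizer ((zpowers x : Subgroup L) : Set L)) ∣ n) :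
    ∃ c d, c * d = Nat.card H ∧ p ∣ d ∧ d ∣ n ∧ c ≡ 1 [MOD p] := by
  obtain ⟨x, hx⟩ := exists_prime_orderOf_dvd_card' (G := H) p hH
  have hxL : orderOf (x : L) = p := by rw [← hx]; exact Subgroup.orderOf_coe x
  have hfH : (Nat.card H).factorization p = 1 := by
    apply le_antisymm
    · rw [← h1]
      exact (Nat.factorization_le_iff_dvd Nat.card_pos.ne' Nat.card_pos.ne').2 (Subgroup.card_subgroup_dvd_card H) p
    · exact (hp.out.dvd_iff_one_le_factorization Nat.card_pos.ne').1 hH
  let P : Sylow p H := Sylow.ofCard (zpowers x) (by rw [Nat.card_zpowers, hx, hfH, pow_one])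
  have hP : (P : Subgroup H) = zpowers x := rfl
  refine ⟨Nat.card (Sylow p H), Nat.card (normalizer ((P : Subgroup H) : Set H)), ?_, ?_, ?_, card_sylow_modEq_one p H⟩
  · rw [Sylow.card_eq_index_normalizer P, mul_comm]
    exact Subgroup.card_mul_index _
  · have h2 : (P : Subgroup H) ≤ normalizer ((P : Subgroup H) : Set H) := le_normalizer
    have h3 := Subgroup.card_dvd_of_le h2
    rwa [hP, Nat.card_zpowers, hx] at h3
  · refine dvd_trans ?_ (hN x hxL)
    rw [← card_map_subtype]
    apply Subgroup.card_dvd_of_le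
    rintro _ ⟨g, hg, rfl⟩
    rw [hP] at hg
    rw [mem_normalizer_iff]
    intro h
    have key : ∀ g : H, g ∈ normalizer ((zpowers x : Subgroup H) : Set H) → ∀ h ∈ zpowers (x : L), (g : L) * h * (g : L)⁻¹ ∈ zpowers (x : L) := by
      intro g hg h hh
      obtain ⟨k, rfl⟩ := mem_zpowers_iff.1 hh
      have h4 := (mem_normalizer_iff.1 hg (x ^ k)).1 (zpow_mem (mem_zpowers x) k)
      obtain ⟨m, hm⟩ := mem_zpowers_iff.1 h4
      refine mem_zpowers_iff.2 ⟨m, ?_⟩
      exact congrArg Subtype.val hm
    constructor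
    · exact key g hg h
    · intro h5
      have h6 := key g⁻¹ (inv_mem hg) _ h5
      have e : ((g⁻¹ : H) : L) * ((H.subtype g) * h * (H.subtype g)⁻¹) * ((g⁻¹ : H) : L)⁻¹ = h := by
        rw [Subgroup.coe_inv]
        show (g : L)⁻¹ * ((g : L) * h * (g : L)⁻¹) * ((g : L)⁻¹)⁻¹ = h
        group
      rwa [e] at h6

theorem card_sub_m11 {L : Type*} [Group L] (hG : Cfsg.IsM11 L) {H : Subgroup L} (h5 : 5 ∣ Nat.card H)
    (h11 : 11 ∣ Nat.card H) : Nat.card H = 55 ∨ Nat.card H = 660 ∨ Nat.card H = 7920 := by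
  have hc := hG.2
  have hfin : Finite L := Nat.finite_of_card_ne_zero (by rw [hc]; norm_num)
  obtain ⟨c, d, hcd, hd1, hd2, hc1⟩ := sylow_sub (p := 11) (n := 55) (H := H)
    (factorization_of (k := 720) (by norm_num) (by rw [hc]) (by norm_num) (by rw [hc]; norm_num)) h11
    (fun x hx => dvd_of_eq (Cfsg.Agent.SporadicA.M11Sylow.data_eleven hG hx).2.1)
  obtain ⟨c', d', hcd', hd1', hd2', hc1'⟩ := sylow_sub (p := 5) (n := 20) (H := H)
    (factorization_of (k := 1584) (by norm_num) (by rw [hc]) (by norm_num) (by rw [hc]; norm_num)) h5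
    (fun x hx => dvd_of_eq (Cfsg.Agent.SporadicA.M11Sylow.data_five hG hx).2.1)
  have h55 : 55 ∣ Nat.card H := Nat.Coprime.mul_dvd_of_dvd_of_dvd (by norm_num : Nat.Coprime 5 11) h5 h11
  obtain ⟨j, hj⟩ := h55
  have hj144 : j ∣ 144 := by
    have h := Subgroup.card_subgroup_dvd_card H
    rw [hc, hj, show 7920 = 55 * 144 by norm_num] at h
    exact Nat.dvd_of_mul_dvd_mul_left (by norm_num) h
  have hj' : j ∈ Nat.divisors 144 := Nat.mem_divisors.2 ⟨hj144, by norm_num⟩
  have hdv : Nat.divisors 144 = {1, 2, 3, 4, 6, 8, 9, 12, 16, 18, 24, 36, 48, 72, 144} := by decide +kernel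
  rw [hdv] at hj'
  simp only [Finset.mem_insert, Finset.mem_singleton] at hj'
  have hd' : d = 11 ∨ d = 55 := by
    obtain ⟨k, rfl⟩ := hd1
    have hk : k ∣ 5 := by
      rw [show 55 = 11 * 5 by norm_num] at hd2
      exact Nat.dvd_of_mul_dvd_mul_left (by norm_num) hd2
    rcases (Nat.dvd_prime (by norm_num)).1 hk with rfl | rfl
    · exact Or.inl rfl
    · exact Or.inr rfl
  have hd5 : d' = 5 ∨ d' = 10 ∨ d' = 20 := by
    obtain ⟨k, rfl⟩ := hd1'
    have hk : k ∣ 4 := by
      rw [show 20 = 5 * 4 by norm_num] at hd2'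
      exact Nat.dvd_of_mul_dvd_mul_left (by norm_num) hd2'
    have hk' : k ∈ Nat.divisors 4 := Nat.mem_divisors.2 ⟨hk, by norm_num⟩
    have h4 : Nat.divisors 4 = {1, 2, 4} := by decide
    rw [h4] at hk'
    simp only [Finset.mem_insert, Finset.mem_singleton] at hk'
    (clear * - hk'; omega)
  unfold Nat.ModEq at hc1 hc1'
  rw [hj] at hcd hcd' ⊢
  rcases hd' with rfl | rfl <;>
    rcases hj' with rfl | rfl | rfl | rfl | rfl | rfl | rfl | rfl | rfl | rfl | rfl | rfl | rfl | rfl | rfl <;>
    rcases hd5 with rfl | rfl | rfl <;> (clear * - hc1 hcd hc1' hcd'; omega)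

theorem iso11_m11 {L : Type*} [Group L] (hG : Cfsg.IsM11 L) : Iso11 L := by
  have hfin : Finite L := Nat.finite_of_card_ne_zero (by rw [hG.2]; norm_num)
  intro x y hxy hx hy
  have h1 := Cfsg.Agent.SporadicA.M11Sylow.card_centralizer_eleven hG hx
  have h2 : y ∈ centralizer ({x} : Set L) := mem_centralizer_singleton_iff.2 hxy.symm.eq
  have h3 : orderOf (⟨y, h2⟩ : centralizer ({x} : Set L)) ∣ Nat.card (centralizer ({x} : Set L)) :=
    _root_.orderOf_dvd_natCard _
  rw [Subgroup.orderOf_mk, h1] at h3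
  exact (Nat.prime_dvd_prime_iff_eq hy (by norm_num)).1 h3

/-- **`M₁₁`** -/
theorem clT_m11 {T : Type*} [Group T] (hI : Cfsg.Spor.IsoM11 T) : ClT T := by
  have hG := Cfsg.Agent.Cit.Eleven.isM11 hI
  have hc := hG.2
  have hfin : Finite T := Nat.finite_of_card_ne_zero (by rw [hc]; norm_num)
  intro R hR
  by_cases hn : DerT T R
  · exact Or.inl hn
  refine Or.inr ⟨hI, ?_⟩
  have h2 := dvd_of_not_derT hn Nat.prime_two (by rw [hc]; norm_num)
  have h5 := dvd_of_not_derT hn Nat.prime_five (by rw [hc]; norm_num)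
  have h11 := dvd_of_not_derT hn (p := 11) (by norm_num) (by rw [hc]; norm_num)
  rcases card_sub_m11 hG h5 h11 with h | h | h
  · rw [h] at h2; norm_num at h2
  · exact ⟨h, isSimple_of_iso11 ((iso11_m11 hG).sub R) (Or.inl h)⟩
  · exact absurd (eq_top_of_card (h.trans hc.symm)) hR

end Cfsg.Agent.H180.MEl
end
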