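import Mathlib
import Cfsg.Agent.H180.MElM11
import Cfsg.Agent.MTwelveType.SylowModel
import Cfsg.Agent.S0383
import Cfsg.Agent.H217.Odm.Real_m3
import Cfsg.Agent.H413.JOneLocal
import Cfsg.Agent.OddCyclic.EmpE.Kill
import Cfsg.Agent.SporadicB.J1.Main
import Cfsg.Agent.H603.SporElim
import Cfsg.Agent.Prune
set_option linter.all false

section
prune_inst 0x7f00000000000000000000000000000000000000000000000000000000000000000000000000000000000000000000000000000000000000000000000000000000000000000000000000000000000000003fffffffffffffffffffffffffffbeffbdffffffff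

-- part: H180/MElM12
section
set_option linter.all false
open scoped Cfsg.Agent.FastGrp

-- part: H180/MElSign
section
/-!
# An even permutation of 12 points whose fourth power is trivial has a square with a fixed point
-/

set_option autoImplicit false

namespace Cfsg.Agent.H180.MEl

open Equiv.Perm

theorem sq_fix {α : Type*} [Fintype α] [DecidableEq α] (hα : Fintype.card α = 12) {σ : Equiv.Perm α}
    (h4 : σ ^ 4 = 1) (hs : sign σ = 1) : ∃ a, (σ ^ 2) a = a := by
  by_contra hno
  push Not at hno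
  have hfix : ∀ a, σ a ≠ a := by
    intro a ha
    apply hno a
    rw [pow_two, mul_apply, ha, ha]
  have hsupp : σ.support = Finset.univ := by
    rw [Finset.eq_univ_iff_forall]
    intro a
    rw [mem_support]
    exact hfix a
  have hsum : σ.cycleType.sum = 12 := by
    rw [sum_cycleType, hsupp, Finset.card_univ, hα]
  have h : ∀ n ∈ σ.cycleType, n = 4 := by
    intro n hn
    have h1 : n ∣ 4 := (dvd_of_mem_cycleType hn).trans (orderOf_dvd_of_pow_eq_one h4)
    have h2 := two_le_of_mem_cycleType hn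
    have h3 : n ≤ 4 := Nat.le_of_dvd (by norm_num) h1
    have h5 : n ≠ 3 := by
      rintro rfl
      norm_num at h1
    have h6 : n ≠ 2 := by
      rintro rfl
      obtain ⟨c, τ, hst, hd, hc, hcard⟩ := mem_cycleType_iff.1 hn
      obtain ⟨a, ha⟩ := hc.nonempty_support
      have hτa : τ a = a := (hd a).resolve_left (mem_support.1 ha)
      have hc2 : c ^ 2 = 1 := by
        rw [← hcard, ← hc.orderOf, pow_orderOf_eq_one]
      apply hno a
      rw [hst, hd.commute.mul_pow, hc2, one_mul, pow_two, mul_apply, hτa, hτa]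
    omega
  have hrep := Multiset.eq_replicate_card.2 h
  have hcard : σ.cycleType.card = 3 := by
    rw [hrep, Multiset.sum_replicate, smul_eq_mul] at hsum
    omega
  rw [sign_of_cycleType, hsum, hcard] at hs
  exact absurd hs (by decide)

end Cfsg.Agent.H180.MEl
end

-- part: H180/MElM12
section
/-!
# `ClMaxA` for `M₁₂` (team ELUSIVE, task 644)
-/

set_option autoImplicit false

namespace Cfsg.Agent.H180.MEl

open Cfsg Equiv.Perm
open Cfsg.Agent.H866.InvolType (fx)
open Cfsg.Agent.H396 (Der der_of_prime)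
open Cfsg.Agent.H278.El (ClMaxA ClMax ClT)
open Cfsg.Agent.J4Type.CocodeMask (mk isTab_mk)
open Cfsg.Agent.SporadicA.GolayPerm (isPerm isAut papp)
open Cfsg.Agent.SporadicA.GolayBase (idx idx_lt)
open Cfsg.Agent.H180.KMathieu (orderOf_tab ordOk)
open Cfsg.Agent.SporadicStructure.M11InvPerms (dd dd_mem)
open Cfsg.Agent.MTwelveType.SylowModel (squareDodecad_eq card_M12)
open scoped Pointwise

theorem inv_dd {g : Equiv.Perm GolayPt} (hg : g ∈ Spor.M12) : ∀ p ∈ dd, g p ∈ dd := by
  intro p hp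
  have h1 : g • Spor.squareDodecad = Spor.squareDodecad := hg.2
  rw [squareDodecad_eq] at h1
  rw [← h1]
  exact Finset.mem_smul_finset.2 ⟨p, hp, rfl⟩

theorem mem_dd_iff {g : Equiv.Perm GolayPt} (hg : g ∈ Spor.M12) (p : GolayPt) : g p ∈ dd ↔ p ∈ dd := by
  refine ⟨fun h => ?_, inv_dd hg p⟩
  have h1 := inv_dd (Spor.M12.inv_mem hg) _ h
  rwa [show g⁻¹ (g p) = p from Equiv.symm_apply_apply g p] at h1

theorem inv_ddc {g : Equiv.Perm GolayPt} (hg : g ∈ Spor.M12) : ∀ p ∈ ddᶜ, g p ∈ ddᶜ := by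
  intro p hp
  rw [Finset.mem_compl] at hp ⊢
  rwa [mem_dd_iff hg]

theorem card_dd : dd.card = 12 := by decide +kernel

theorem card_ddc : ddᶜ.card = 12 := by decide +kernel

theorem finM12 : Finite Spor.M12 := Nat.finite_of_card_ne_zero (by rw [card_M12]; norm_num)

theorem fx11_dd {x : Equiv.Perm GolayPt} (hx : x ∈ Spor.M12) (ox : orderOf x = 11) :
    (dd ∩ Fx x).card = 1 ∧ (ddᶜ ∩ Fx x).card = 1 := by
  have hp : x ^ 11 = 1 := by rw [← ox, pow_orderOf_eq_one]
  have h1 := card_mod (p := 11) hp dd (inv_dd hx)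
  have h2 := card_mod (p := 11) hp ddᶜ (inv_ddc hx)
  have h3 : (Fx x ∩ dd).card + (Fx x \ dd).card = (Fx x).card := Finset.card_inter_add_card_sdiff _ _
  have h4 : ddᶜ ∩ Fx x = Fx x \ dd := by
    ext p
    simp only [Finset.mem_inter, Finset.mem_compl, Finset.mem_sdiff]
    exact and_comm
  rw [Finset.inter_comm, ← h4, card_Fx, fx11 hx.1 ox] at h3
  rw [card_dd] at h1
  rw [card_ddc] at h2
  unfold Nat.ModEq at h1 h2
  omega

/-- an element commuting with `x` fixes the only fixed point of `x` in `D` -/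
theorem fix_comm {x y : Equiv.Perm GolayPt} {D : Finset GolayPt} (hD : ∀ p ∈ D, y p ∈ D)
    (h1 : (D ∩ Fx x).card = 1) (h : Commute x y) : ∀ p ∈ D ∩ Fx x, y p = p := by
  intro p hp
  obtain ⟨a, ha⟩ := Finset.card_eq_one.1 h1
  have h2 : y p ∈ D ∩ Fx x := by
    rw [Finset.mem_inter, mem_Fx] at hp ⊢
    refine ⟨hD p hp.1, ?_⟩
    calc x (y p) = (x * y) p := rfl
      _ = (y * x) p := by rw [h.eq]
      _ = y (x p) := rfl
      _ = y p := by rw [hp.2]
  rw [ha, Finset.mem_singleton] at h2 hp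
  rw [h2, hp]

theorem iso11_M12 : Iso11 Spor.M12 := by
  have := finM12
  intro x y hxy hx hy
  have hd : orderOf y ∣ 95040 := by
    rw [← card_M12]
    exact orderOf_dvd_natCard y
  rw [← Subgroup.orderOf_coe] at hx hy hd ⊢
  obtain ⟨h1, h2⟩ := fx11_dd x.2 hx
  have c : Commute (x : Equiv.Perm GolayPt) (y : Equiv.Perm GolayPt) := congrArg Subtype.val hxy
  have s1 := fix_comm (inv_dd y.2) h1 c
  have s2 := fix_comm (inv_ddc y.2) h2 c
  have h3 : Fx (x : Equiv.Perm GolayPt) ∩ Fx (y : Equiv.Perm GolayPt) = Fx (x : Equiv.Perm GolayPt) := by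
    rw [Finset.inter_eq_left]
    intro p hp
    rw [mem_Fx]
    by_cases hpd : p ∈ dd
    · exact s1 p (Finset.mem_inter.2 ⟨hpd, hp⟩)
    · exact s2 p (Finset.mem_inter.2 ⟨Finset.mem_compl.2 hpd, hp⟩)
  have h4 := card_Fx_comm (p := 11) (by rw [← hx, pow_orderOf_eq_one]) c
  rw [h3, card_Fx, fx11 x.2.1 hx] at h4
  have h5 : 0 < fx (y : Equiv.Perm GolayPt) := by
    rcases Nat.eq_zero_or_pos (fx (y : Equiv.Perm GolayPt)) with h0 | h0
    · rw [h0] at h4
      unfold Nat.ModEq at h4
      omega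
    · exact h0
  obtain ⟨v2, v3, v5, v7, v11, v23⟩ := fx_val y.2.1 h5
  unfold Nat.ModEq at h4
  have h2' : orderOf (y : Equiv.Perm GolayPt) ∣ 2 ^ 6 * (3 ^ 3 * (5 * 11)) := by
    rw [show 2 ^ 6 * (3 ^ 3 * (5 * 11)) = 95040 by norm_num]; exact hd
  rcases (Nat.Prime.dvd_mul hy).1 h2' with h3 | h3
  · have := (Nat.prime_dvd_prime_iff_eq hy Nat.prime_two).1 (hy.dvd_of_dvd_pow h3)
    have := v2 this
    omega
  rcases (Nat.Prime.dvd_mul hy).1 h3 with h6 | h6
  · have := (Nat.prime_dvd_prime_iff_eq hy Nat.prime_three).1 (hy.dvd_of_dvd_pow h6)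
    have := v3 this
    omega
  rcases (Nat.Prime.dvd_mul hy).1 h6 with h7 | h7
  · have := (Nat.prime_dvd_prime_iff_eq hy Nat.prime_five).1 h7
    have := v5 this
    omega
  · exact (Nat.prime_dvd_prime_iff_eq hy (by norm_num)).1 h7

/-! ### the sign on the dodecad -/

/-- the action on the dodecad -/
def rho : Spor.M12 →* Equiv.Perm {p : GolayPt // p ∈ dd} where
  toFun g := (g : Equiv.Perm GolayPt).subtypePerm (mem_dd_iff g.2)
  map_one' := rfl
  map_mul' _ _ := rfl

/-- the two descriptions of `M₁₂` -/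
def equiv12 : ↥(MulAction.stabilizer M24 dd) ≃* Spor.M12 where
  toFun g := ⟨((g : M24) : Equiv.Perm GolayPt), (g : M24).2, by
    show ((g : M24) : Equiv.Perm GolayPt) • Spor.squareDodecad = Spor.squareDodecad
    rw [squareDodecad_eq]
    exact g.2⟩
  invFun g := ⟨⟨(g : Equiv.Perm GolayPt), g.2.1⟩, by
    have h : (g : Equiv.Perm GolayPt) • Spor.squareDodecad = Spor.squareDodecad := g.2.2
    rw [squareDodecad_eq] at h
    exact h⟩
  left_inv _ := rfl
  right_inv _ := rfl
  map_mul' _ _ := rfl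

theorem simple12 : IsSimpleGroup Spor.M12 :=
  have := Cfsg.Agent.S0383.result _ dd_mem
  equiv12.isSimpleGroup_congr.1 this

theorem sign_rho (g : Spor.M12) : sign (rho g) = 1 := by
  have := simple12
  have := finM12
  let f : Spor.M12 →* ℤˣ := sign.comp rho
  have hn : f.ker.Normal := inferInstance
  rcases hn.eq_bot_or_eq_top with h | h
  · exfalso
    have hinj : Function.Injective f := (MonoidHom.ker_eq_bot_iff f).1 h
    have h1 := Nat.card_le_card_of_injective f hinj
    rw [card_M12] at h1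
    have h2 : Nat.card ℤˣ = 2 := by rw [Nat.card_eq_fintype_card]; rfl
    rw [h2] at h1
    norm_num at h1
  · have : g ∈ f.ker := by rw [h]; trivial
    exact this

/-- the square of an element of order 4 fixes a point of the dodecad -/
theorem sq_fix12 {g : Spor.M12} (hg : g ^ 4 = 1) : ∃ a ∈ dd, ((g ^ 2 : Spor.M12) : Equiv.Perm GolayPt) a = a := by
  have hc : Fintype.card {p : GolayPt // p ∈ dd} = 12 := by
    rw [Fintype.card_coe]; exact card_dd
  obtain ⟨a, ha⟩ := sq_fix hc (σ := rho g) (by rw [← map_pow, hg, map_one]) (sign_rho g)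
  refine ⟨a.1, a.2, ?_⟩
  rw [← map_pow] at ha
  exact congrArg Subtype.val ha

/-! ### elements of order 10 and 4 -/

/-- the dodecad, as a mask -/
def ddM : ℕ := 340831

theorem mem_dd_mask : ∀ p : GolayPt, p ∈ dd ↔ ddM.testBit (idx p) = true := by decide +kernel

theorem mk_mem12 {P : ℕ} (h : (isPerm P && isAut P) = true)
    (hd : ((List.range 24).all fun i => !(ddM.testBit i) || ddM.testBit (papp P i)) = true) :
    (mk P h : Equiv.Perm GolayPt) ∈ Spor.M12 := by
  refine Cfsg.Agent.MTwelveType.SylowModel.mem_M12 (mk P h).2 fun p hp => ?_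
  rw [mem_dd_mask] at hp ⊢
  rw [isTab_mk P h p]
  rw [List.all_eq_true] at hd
  have := hd (idx p) (List.mem_range.2 (idx_lt p))
  rw [hp] at this
  simpa using this

/-- an element of order 10 -/
noncomputable def a10 : Spor.M12 :=
  ⟨mk 595318323698825201677015447063036038 (by decide +kernel), mk_mem12 _ (by decide +kernel)⟩

theorem orderOf_a10 : orderOf a10 = 10 := by
  have := orderOf_tab (isTab_mk 595318323698825201677015447063036038 (by decide +kernel)) (n := 10) (by decide +kernel)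
  rw [← Subgroup.orderOf_coe] at this
  rw [← Subgroup.orderOf_coe]
  exact this

/-- an element of order 4 -/
noncomputable def a4 : Spor.M12 :=
  ⟨mk 466583572938358273663606830808956978 (by decide +kernel), mk_mem12 _ (by decide +kernel)⟩

theorem orderOf_a4 : orderOf a4 = 4 := by
  have := orderOf_tab (isTab_mk 466583572938358273663606830808956978 (by decide +kernel)) (n := 4) (by decide +kernel)
  rw [← Subgroup.orderOf_coe] at this
  rw [← Subgroup.orderOf_coe]
  exact this

/-! ### the two kinds of involutions -/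

theorem orderOf_map_aut {G : Type*} [Group G] (φ : MulAut G) (x : G) : orderOf (φ x) = orderOf x :=
  orderOf_injective φ.toMonoidHom φ.injective x

/-- images of `a10 ^ 5` have no fixed points -/
theorem fx_a10 (φ : MulAut Spor.M12) : fx ((φ (a10 ^ 5) : Spor.M12) : Equiv.Perm GolayPt) = 0 := by
  have o2 : orderOf (a10 ^ 5) = 2 := by
    rw [orderOf_pow_of_dvd (by norm_num) (by rw [orderOf_a10]; norm_num), orderOf_a10]
  have o5 : orderOf (a10 ^ 2) = 5 := by
    rw [orderOf_pow_of_dvd (by norm_num) (by rw [orderOf_a10]; norm_num), orderOf_a10]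
  have h1 : orderOf ((φ (a10 ^ 5) : Spor.M12) : Equiv.Perm GolayPt) = 2 := by
    rw [Subgroup.orderOf_coe, ← o2]
    exact orderOf_map_aut φ _
  have h2 : orderOf ((φ (a10 ^ 2) : Spor.M12) : Equiv.Perm GolayPt) = 5 := by
    rw [Subgroup.orderOf_coe, ← o5]
    exact orderOf_map_aut φ _
  have h3 : Commute ((φ (a10 ^ 5) : Spor.M12) : Equiv.Perm GolayPt) ((φ (a10 ^ 2) : Spor.M12) : Equiv.Perm GolayPt) := by
    have h4 : Commute (a10 ^ 5) (a10 ^ 2) := (Commute.refl a10).pow_pow 5 2
    exact congrArg Subtype.val (h4.map φ.toMonoidHom).eq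
  exact fx_of_five (φ (a10 ^ 5)).2.1 (φ (a10 ^ 2)).2.1 h1 h2 h3

theorem no_fix {x : Equiv.Perm GolayPt} (h : fx x = 0) (a : GolayPt) : x a ≠ a := by
  intro h1
  have h7 : a ∈ Fx x := mem_Fx.2 h1
  rw [← card_Fx, Finset.card_eq_zero] at h
  rw [h] at h7
  exact absurd h7 (Finset.notMem_empty a)

/-- images of `a4 ^ 2` fix a point of the dodecad -/
theorem fix_a4 (φ : MulAut Spor.M12) : ∃ a ∈ dd, ((φ (a4 ^ 2) : Spor.M12) : Equiv.Perm GolayPt) a = a := by
  have h : (φ a4) ^ 4 = 1 := by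
    rw [← map_pow, ← orderOf_a4, pow_orderOf_eq_one, map_one]
  obtain ⟨a, ha, h1⟩ := sq_fix12 h
  refine ⟨a, ha, ?_⟩
  rw [map_pow]
  exact h1

theorem orderOf_a4sq : orderOf (a4 ^ 2) = 2 := by
  rw [orderOf_pow_of_dvd (by norm_num) (by rw [orderOf_a4]; norm_num), orderOf_a4]

theorem orderOf_a10p : orderOf (a10 ^ 5) = 2 := by
  rw [orderOf_pow_of_dvd (by norm_num) (by rw [orderOf_a10]; norm_num), orderOf_a10]

theorem zero_mem_dd : (some 0 : GolayPt) ∈ dd := by decide +kernel

theorem orb_sub {X : Subgroup (Equiv.Perm GolayPt)} (hX : X ≤ Spor.M12) {a : GolayPt} (ha : a ∈ dd) : orb X a ⊆ dd := by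
  intro p hp
  obtain ⟨g, hg, rfl⟩ := mem_orb.1 hp
  exact inv_dd (hX hg) a ha

theorem orb_one {X : Subgroup (Equiv.Perm GolayPt)} {a : GolayPt} (ha : (orb X a).card = 1) : ∀ g ∈ X, g a = a := by
  intro g hg
  obtain ⟨b, hb⟩ := Finset.card_eq_one.1 ha
  have h1 : a ∈ orb X a := self_mem_orb X a
  have h2 : g a ∈ orb X a := mem_orb.2 ⟨g, hg, rfl⟩
  rw [hb, Finset.mem_singleton] at h1 h2
  rw [h2, ← h1]

/-- the orbits on the dodecad of a subgroup whose order is divisible by 11 -/
theorem orb_dd {X : Subgroup (Equiv.Perm GolayPt)} (hX : X ≤ Spor.M12) (h11 : 11 ∣ Nat.card X) {a : GolayPt} (ha : a ∈ dd) :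
    (orb X a).card = 1 ∨ (orb X a).card = 11 ∨ (orb X a).card = 12 := by
  obtain ⟨x, hx, ox⟩ := exists_order h11
  have m := orb_mod (a := a) hx ox
  have h1 : (orb X a ∩ Fx x).card ≤ 1 := by
    rw [← (fx11_dd (hX hx) ox).1]
    exact Finset.card_le_card (Finset.inter_subset_inter_right (orb_sub hX ha))
  have h2 : (orb X a).card ≤ 12 := by
    rw [← card_dd]
    exact Finset.card_le_card (orb_sub hX ha)
  have h3 := orb_pos X a
  unfold Nat.ModEq at m
  omega

/-- either a fixed point on the dodecad, or transitive -/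
theorem trans_or_fix {X : Subgroup (Equiv.Perm GolayPt)} (hX : X ≤ Spor.M12) (h11 : 11 ∣ Nat.card X) :
    (∃ a ∈ dd, ∀ g ∈ X, g a = a) ∨ ∀ a ∈ dd, orb X a = dd := by
  by_cases h : ∃ a ∈ dd, (orb X a).card = 1
  · obtain ⟨a, ha, h1⟩ := h
    exact Or.inl ⟨a, ha, orb_one h1⟩
  push Not at h
  right
  intro a ha
  apply Finset.eq_of_subset_of_card_le (orb_sub hX ha)
  rw [card_dd]
  rcases orb_dd hX h11 ha with h1 | h1 | h1
  · exact absurd h1 (h a ha)
  · exfalso
    obtain ⟨b, hb, hb'⟩ : ∃ b ∈ dd, b ∉ orb X a := by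
      by_contra hno
      push Not at hno
      have := Finset.card_le_card hno
      rw [card_dd, h1] at this
      norm_num at this
    have hd : Disjoint (orb X a) (orb X b) := by
      rw [Finset.disjoint_left]
      intro q hq hq'
      obtain ⟨g, hg, hgq⟩ := mem_orb.1 hq
      obtain ⟨k, hk, hkq⟩ := mem_orb.1 hq'
      apply hb'
      refine mem_orb.2 ⟨k⁻¹ * g, X.mul_mem (X.inv_mem hk) hg, ?_⟩
      show k⁻¹ (g a) = b
      rw [hgq, ← hkq]
      exact Equiv.symm_apply_apply k b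
    have h2 : (orb X a).card + (orb X b).card ≤ 12 := by
      rw [← Finset.card_union_of_disjoint hd, ← card_dd]
      exact Finset.card_le_card (Finset.union_subset (orb_sub hX ha) (orb_sub hX hb))
    rcases orb_dd hX h11 hb with h3 | h3 | h3
    · exact h b hb h3
    · omega
    · omega
  · exact h1.ge

theorem card_St_M11 {X : Subgroup (Equiv.Perm GolayPt)} (hX : X ≤ Spor.M12) (h5 : 5 ∣ Nat.card (St X (some 0)))
    (h11 : 11 ∣ Nat.card (St X (some 0))) :
    Nat.card (St X (some 0)) = 55 ∨ Nat.card (St X (some 0)) = 660 ∨ Nat.card (St X (some 0)) = 7920 := by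
  have hle : St X (some 0) ≤ Spor.M11 := fun g hg => ⟨hX hg.1, hg.2⟩
  have hM := Cfsg.Agent.Cit.Eleven.isM11 (L := Spor.M11) ⟨MulEquiv.refl _⟩
  have e : Nat.card ((St X (some 0)).subgroupOf Spor.M11) = Nat.card (St X (some 0)) :=
    Nat.card_congr (Subgroup.subgroupOfEquivOfLe hle).toEquiv
  rw [← e]
  exact card_sub_m11 hM (by rw [e]; exact h5) (by rw [e]; exact h11)

theorem der_M12 {R : Subgroup Spor.M12} (hR : R ≠ ⊤) : Der Spor.M12 R := by
  have := finM12
  by_contra hn
  have hc := card_M12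
  set X : Subgroup (Equiv.Perm GolayPt) := R.map Spor.M12.subtype with hXdef
  have hcX : Nat.card X = Nat.card R := card_map_subtype R
  have hd : ∀ p : ℕ, p.Prime → p ∣ Nat.card Spor.M12 → p ∣ Nat.card X := by
    intro p hp h
    rw [hcX]
    exact dvd_of_not_der hn hp h
  have hX : X ≤ Spor.M12 := by
    rintro _ ⟨g, -, rfl⟩
    exact g.2
  have h5 := hd 5 (by norm_num) (by rw [hc]; norm_num)
  have h11 := hd 11 (by norm_num) (by rw [hc]; norm_num)
  -- images of the two involutions in `R`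
  have e10 : ∃ φ : MulAut Spor.M12, φ (a10 ^ 5) ∈ R := by
    by_contra hno
    push Not at hno
    exact hn ⟨a10 ^ 5, by rw [orderOf_a10p]; exact Nat.prime_two, hno⟩
  have e4 : ∃ φ : MulAut Spor.M12, φ (a4 ^ 2) ∈ R := by
    by_contra hno
    push Not at hno
    exact hn ⟨a4 ^ 2, by rw [orderOf_a4sq]; exact Nat.prime_two, hno⟩
  obtain ⟨φ, hφ⟩ := e10
  obtain ⟨ψ, hψ⟩ := e4
  rcases trans_or_fix hX h11 with ⟨a, -, ha⟩ | htr
  · exact no_fix (fx_a10 φ) a (ha _ (Subgroup.mem_map_of_mem Spor.M12.subtype hφ))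
  have ho : ∀ a ∈ dd, (orb X a).card = 12 := by
    intro a ha
    rw [htr a ha, card_dd]
  have h0 := card_orb_mul X (some 0)
  rw [ho _ zero_mem_dd] at h0
  have hS := card_St_M11 hX (dvd_St (by norm_num) h5 (ho _ zero_mem_dd) (by norm_num))
    (dvd_St (by norm_num) h11 (ho _ zero_mem_dd) (by norm_num))
  rcases hS with hS | hS | hS
  · -- 660: the stabilizers have odd order
    rw [hS] at h0
    obtain ⟨a, ha, h1⟩ := fix_a4 ψ
    have h2 := card_orb_mul X a
    rw [ho a ha, ← h0] at h2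
    have h3 : ((ψ (a4 ^ 2) : Spor.M12) : Equiv.Perm GolayPt) ∈ St X a :=
      ⟨Subgroup.mem_map_of_mem Spor.M12.subtype hψ, h1⟩
    have h4 : 2 ∣ Nat.card (St X a) := by
      have h5 := Subgroup.orderOf_dvd_natCard _ h3
      rwa [Subgroup.orderOf_coe, orderOf_map_aut, orderOf_a4sq] at h5
    omega
  · -- 7920
    rw [hS] at h0
    have hsimp : IsSimpleGroup R := isSimple_of_iso11 (iso11_M12.sub R) (Or.inr (by rw [← hcX, ← h0]))
    have hM : Cfsg.IsM11 R := ⟨hsimp, by rw [← hcX, ← h0]⟩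
    have hconj := Cfsg.Agent.SporadicA.M11Facts.isConj_involutions hM (u := ⟨φ (a10 ^ 5), hφ⟩) (u' := ⟨ψ (a4 ^ 2), hψ⟩)
      (by rw [Subgroup.orderOf_mk, orderOf_map_aut, orderOf_a10p])
      (by rw [Subgroup.orderOf_mk, orderOf_map_aut, orderOf_a4sq])
    obtain ⟨c, hc⟩ := isConj_iff.1 hconj
    have h1 : ((c : Spor.M12) : Equiv.Perm GolayPt) * ((φ (a10 ^ 5) : Spor.M12) : Equiv.Perm GolayPt) *
        ((c : Spor.M12) : Equiv.Perm GolayPt)⁻¹ = ((ψ (a4 ^ 2) : Spor.M12) : Equiv.Perm GolayPt) :=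
      congrArg (fun z : R => ((z : Spor.M12) : Equiv.Perm GolayPt)) hc
    obtain ⟨a, ha, h2⟩ := fix_a4 ψ
    refine no_fix ?_ a h2
    rw [← h1, Cfsg.Agent.H866.InvolType.fx_conj]
    exact fx_a10 φ
  · rw [hS] at h0
    apply hR
    apply eq_top_of_card
    rw [← hcX, ← h0, card_M12]

/-- **`M₁₂`** -/
theorem clMaxA_m12 {T : Type*} [Group T] (h : Cfsg.Spor.IsoM12 T) : ClMaxA T := by
  obtain ⟨e⟩ := h
  exact Cfsg.Agent.H278.El.ClMaxA.congr e.symm fun M hM => der_M12 hM.1

theorem clT_m12 {T : Type*} [Group T] [Finite T] (h : Cfsg.Spor.IsoM12 T) : ClT T :=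
  (clMaxA_m12 h).clMax.clT

end Cfsg.Agent.H180.MEl
end
end

-- part: H257/El/Row/J1
section
set_option linter.all false
open scoped Cfsg.Agent.FastGrp

/-!
# TEAM ELUSIVE: the first Janko group (helper257)
-/

set_option autoImplicit false

namespace Cfsg.Agent.H257.El.Row

open Cfsg Cfsg.Agent.OrdDiv Cfsg.Agent.H278.El

universe u

theorem clM_j1 (tab : OrderTable.{u}) (known : Known.{u}) {T : Type u} [Group T] (h : Spor.IsoJ1 T) : ClM T := by
  have hc := NotCT.Orders.j1 h
  have : Finite T := Nat.finite_of_card_ne_zero (by rw [hc]; norm_num)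
  obtain ⟨e⟩ := h
  obtain ⟨hs, hcJ⟩ := Cfsg.Agent.SporadicB.J1.Main.isJ1
  have : Finite Spor.J1 := Nat.finite_of_card_ne_zero (by rw [hcJ]; norm_num)
  exact clM_of_pair tab known (r := 19) (s := 5)
    (l := [(2, 3), (3, 1), (5, 1), (7, 1), (11, 1), (19, 1)]) hc
    (by norm_num) (by norm_num)
    (noOrd_congr e (noOrd_of_cent (by norm_num)
      (fun x hx => OddCyclic.EmpE.Kill.card_cent H413.JOneLocal.isLocal hcJ hx) (by norm_num) (by norm_num)))
    (by decide +kernel)

theorem clT_j1 (tab : OrderTable.{u}) (known : Known.{u}) {T : Type u} [Group T] (h : Spor.IsoJ1 T) : ClT T := by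
  have : Finite T := Nat.finite_of_card_ne_zero (by rw [NotCT.Orders.j1 h]; norm_num)
  exact (clM_j1 tab known h).clA.clT

end Cfsg.Agent.H257.El.Row
end
end
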